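import Mathlib
import Cfsg.Prelude.Def_Characters
import Cfsg.Prelude.Def_Blocks

set_option autoImplicit false

/-!
# S5012 (swarm "LT4"): the conclusion as a predicate, and its transport along isomorphisms

`lt4_P p G` is the conclusion of S5012 for the group `G`: every `p`-block of `G` (relative to any
`p`-modular maximal ideal of the algebraic integers) has defect `0` or the full defect.
`lt4_of_iso` transports it along a group isomorphism, the two groups being allowed to live in
different universes (the frozen statement has `G : Type*`, the Lie families live in `Type`).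
-/

namespace Cfsg.Agent.LT4

universe u v w

/-- the conclusion of S5012 for the group `G` and the prime `p`. -/
def lt4_P (p : ℕ) (G : Type u) [Group G] : Prop :=
  ∀ M : Ideal Cfsg.AlgInt, Cfsg.IsPModular p M → ∀ B : Set (Cfsg.IrrCharacter G),
    Cfsg.IsPBlock M B →
      Cfsg.blockDefect p B = 0 ∨ Cfsg.blockDefect p B = (Nat.card G).factorization p

theorem lt4_P_iff (p : ℕ) (G : Type u) [Group G] : lt4_P p G ↔
    ∀ M : Ideal Cfsg.AlgInt, Cfsg.IsPModular p M → ∀ B : Set (Cfsg.IrrCharacter G),
      Cfsg.IsPBlock M B →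
        Cfsg.blockDefect p B = 0 ∨ Cfsg.blockDefect p B = (Nat.card G).factorization p :=
  Iff.rfl

section transport

variable {K : Type u} {K' : Type v} [Group K] [Group K']

/-- a representation with a nontrivial lattice of subrepresentations lives on a nontrivial space -/
theorem lt4_irr_nontrivial {V : Type w} [AddCommGroup V] [Module ℂ V]
    (ρ : Representation ℂ K V) [hirr : ρ.IsIrreducible] : Nontrivial V := by
  by_contra hnt
  rw [not_nontrivial_iff_subsingleton] at hnt
  have hbt : (⊥ : Subrepresentation ρ) ≠ ⊤ := bot_ne_top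
  apply hbt
  apply Subrepresentation.toSubmodule_injective
  exact Subsingleton.elim _ _

/-- inflation of an irreducible representation along a surjective homomorphism is irreducible
(two universes) -/
theorem lt4_isIrreducible_comp {V : Type w} [AddCommGroup V] [Module ℂ V]
    (σ : Representation ℂ K' V) [hirr : σ.IsIrreducible] (f : K →* K')
    (hf : Function.Surjective f) :
    Representation.IsIrreducible (σ.comp f : Representation ℂ K V) := by
  have : Nontrivial V := lt4_irr_nontrivial σ
  refine { exists_pair_ne := ⟨⊥, ⊤, ?_⟩, eq_bot_or_eq_top := ?_ }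
  · intro hbt
    have h1 : (⊥ : Submodule ℂ V) = ⊤ := congrArg Subrepresentation.toSubmodule hbt
    exact bot_ne_top h1
  · intro τ
    let τ' : Subrepresentation σ :=
      ⟨τ.toSubmodule, fun q v hv => by
        obtain ⟨g, rfl⟩ := hf q
        exact τ.apply_mem_toSubmodule g hv⟩
    rcases hirr.eq_bot_or_eq_top τ' with h | h
    · left
      apply Subrepresentation.toSubmodule_injective
      have h2 : τ'.toSubmodule = (⊥ : Subrepresentation σ).toSubmodule :=
        congrArg Subrepresentation.toSubmodule h
      exact h2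
    · right
      apply Subrepresentation.toSubmodule_injective
      have h2 : τ'.toSubmodule = (⊤ : Subrepresentation σ).toSubmodule :=
        congrArg Subrepresentation.toSubmodule h
      exact h2

/-- transport of an irreducible character along an isomorphism (two universes) -/
noncomputable def lt4_irr (φ : K ≃* K') (χ : Cfsg.IrrCharacter K') : Cfsg.IrrCharacter K :=
  ⟨fun k => (χ : K' → ℂ) (φ k), by
    obtain ⟨n, σ, hirr, hσ⟩ := χ.2
    have := hirr
    refine ⟨n, σ.comp (φ : K →* K'), ?_, ?_⟩
    · exact lt4_isIrreducible_comp σ (φ : K →* K') φ.surjective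
    · funext k
      rw [← hσ]
      rfl⟩

theorem lt4_irr_apply (φ : K ≃* K') (χ : Cfsg.IrrCharacter K') (k : K) :
    (lt4_irr φ χ : K → ℂ) k = (χ : K' → ℂ) (φ k) := rfl

theorem lt4_irr_symm_cancel (φ : K ≃* K') (θ : Cfsg.IrrCharacter K) :
    lt4_irr φ (lt4_irr φ.symm θ) = θ := by
  apply Subtype.ext
  funext k
  rw [lt4_irr_apply, lt4_irr_apply, φ.symm_apply_apply]

/-- centralizer indices are invariant under isomorphisms (two universes) -/
theorem lt4_index_centralizer (φ : K ≃* K') (k : K) :
    (Subgroup.centralizer ({φ k} : Set K')).index =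
      (Subgroup.centralizer ({k} : Set K)).index := by
  have h1 : Subgroup.centralizer ({φ k} : Set K') =
      (Subgroup.centralizer ({k} : Set K)).map (φ : K →* K') := by
    ext x
    rw [Subgroup.mem_centralizer_singleton_iff, Subgroup.mem_map]
    constructor
    · intro hx
      refine ⟨φ.symm x, ?_, φ.apply_symm_apply x⟩
      rw [Subgroup.mem_centralizer_singleton_iff]
      apply φ.injective
      rw [map_mul, map_mul, φ.apply_symm_apply]
      exact hx
    · rintro ⟨y, hy, rfl⟩
      rw [Subgroup.mem_centralizer_singleton_iff] at hy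
      have := congrArg φ hy
      rw [map_mul, map_mul] at this
      exact this
  rw [h1, Subgroup.index_map_equiv]

theorem lt4_centralChar_comp (φ : K ≃* K') (θ : K' → ℂ) (k : K) :
    Cfsg.centralChar (fun x => θ (φ x)) k = Cfsg.centralChar θ (φ k) := by
  unfold Cfsg.centralChar
  show ((Subgroup.centralizer ({k} : Set K)).index : ℂ) * θ (φ k) / θ (φ 1) = _
  rw [lt4_index_centralizer φ k, map_one]

theorem lt4_sameBlock_comp {M : Ideal Cfsg.AlgInt} (φ : K ≃* K') (θ ψ : K' → ℂ)
    (h : Cfsg.SameBlock M θ ψ) :
    Cfsg.SameBlock M (fun x => θ (φ x)) (fun x => ψ (φ x)) := by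
  intro k
  rw [lt4_centralChar_comp φ, lt4_centralChar_comp φ]
  exact h (φ k)

theorem lt4_image_irr_blockOf {M : Ideal Cfsg.AlgInt} (φ : K ≃* K') (ζ : Cfsg.IrrCharacter K') :
    lt4_irr φ '' Cfsg.blockOf M (ζ : K' → ℂ) = Cfsg.blockOf M (lt4_irr φ ζ : K → ℂ) := by
  ext θ
  constructor
  · rintro ⟨χ, hχ, rfl⟩
    exact lt4_sameBlock_comp φ _ _ hχ
  · intro hθ
    refine ⟨lt4_irr φ.symm θ, ?_, lt4_irr_symm_cancel φ θ⟩
    have h1 := lt4_sameBlock_comp (M := M) φ.symm _ _ hθ
    have e : (fun x => (lt4_irr φ ζ : K → ℂ) (φ.symm x)) = (ζ : K' → ℂ) := by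
      funext x
      rw [lt4_irr_apply, φ.apply_symm_apply]
    rw [e] at h1
    exact h1

/-- the defect of a set of characters is invariant under transport along an isomorphism -/
theorem lt4_blockDefect_image (p : ℕ) (φ : K ≃* K') (f : Set (Cfsg.IrrCharacter K')) :
    Cfsg.blockDefect p (lt4_irr φ '' f) = Cfsg.blockDefect p f := by
  unfold Cfsg.blockDefect
  rw [Nat.card_congr φ.toEquiv, Set.image_image]
  congr 2
  apply Set.image_congr
  intro χ _
  unfold Cfsg.charDegree
  rw [lt4_irr_apply, map_one]

/-- **transport of the S5012 conclusion along an isomorphism** (`G`, `G₀` in any two universes) -/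
theorem lt4_of_iso {G : Type u} {G₀ : Type v} [Group G] [Group G₀] (p : ℕ) (e : G ≃* G₀)
    (h : lt4_P p G₀) : lt4_P p G := by
  intro M hM B hB
  obtain ⟨χ, rfl⟩ := hB
  have h1 := h M hM (Cfsg.blockOf M (lt4_irr e.symm χ : G₀ → ℂ)) ⟨lt4_irr e.symm χ, rfl⟩
  have h2 : Cfsg.blockOf M (χ : G → ℂ) =
      lt4_irr e '' Cfsg.blockOf M (lt4_irr e.symm χ : G₀ → ℂ) := by
    rw [lt4_image_irr_blockOf, lt4_irr_symm_cancel]
  rw [h2, lt4_blockDefect_image, Nat.card_congr e.toEquiv]
  exact h1

end transport

end Cfsg.Agent.LT4
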