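import Mathlib
import Cfsg.Agent.ChevBlk.H8_Abs
import Cfsg.Agent.LT4.Quot

set_option autoImplicit false

/-!
# LT4 (S5012), route (G3): no Green subgroup strictly between `1` and `P` gives "defect zero or
full" (helper7)

`lt4_defect_of_noGreen`: if, for ONE Sylow `p`-subgroup `P` of the finite group `X`, no subgroup
`1 ≠ D < P` has the Green property `ChevBlk.GreenProp P D` (every conjugate of `D` inside `P` is
`P ∩ xPx⁻¹` with `x` centralising that conjugate), then every `p`-block of `X` has defect `0` or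
the full defect.  `lt4_noGreen_of_TI`: a TI Sylow subgroup has no such subgroup; and
`lt4_defect_of_TI` combines the two.
-/

namespace Cfsg.Agent.LT4

open Cfsg Cfsg.Agent.Helper6 Cfsg.Agent.ChevBlk

universe u

variable {X : Type u} [Group X]

/-- No Green subgroup strictly between `1` and a Sylow `p`-subgroup: every `p`-block has defect
`0` or full defect. -/
theorem lt4_defect_of_noGreen [Finite X] (p : ℕ) [hp : Fact p.Prime] (P : Sylow p X)
    (hc : ∀ D : Subgroup X, D ≤ (P : Subgroup X) → D ≠ ⊥ → D ≠ (P : Subgroup X) →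
      GreenProp (P : Subgroup X) D → False) : lt4_P p X := by
  intro M hM B hB
  obtain ⟨D₀, hD₀⟩ := exists_isDefectGroup hM.2.1 p B hB
  have hD₀p := IsDefectGroup.isPGroup hM B hB D₀ hD₀
  obtain ⟨Q, hQ⟩ := hD₀p.exists_le_sylow
  obtain ⟨g, hg⟩ := MulAction.exists_smul_eq X Q P
  set D : Subgroup X := D₀.map (MulAut.conj g).toMonoidHom with hDdef
  have hD : Cfsg.IsDefectGroup p M B D := isDefectGroup_conj (M := M) B D₀ hD₀ g
  have hDP : D ≤ (P : Subgroup X) := by
    rw [← hg, Sylow.coe_subgroup_smul, Subgroup.pointwise_smul_def]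
    exact Subgroup.map_mono hQ
  have hcard := card_defectGroup hM.2.1 p hM.2.2 B hB D hD
  by_cases hbot : D = ⊥
  · left
    rw [hbot, Subgroup.card_bot] at hcard
    by_contra h0
    have : 1 < p ^ Cfsg.blockDefect p B := Nat.one_lt_pow h0 hp.out.one_lt
    omega
  · by_cases htop : D = (P : Subgroup X)
    · right
      rw [htop, Sylow.card_eq_multiplicity] at hcard
      exact (Nat.pow_right_injective hp.out.two_le hcard).symm
    · exact (hc D hDP hbot htop (greenProp_of_isDefectGroup hM B hB D hD P)).elim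

/-- A TI subgroup `P` (every `P ∩ xPx⁻¹` is `1` or `P`) has no Green subgroup strictly between
`1` and `P`. -/
theorem lt4_noGreen_of_TI (P : Subgroup X)
    (hTI : ∀ x : X, P ⊓ P.map (MulAut.conj x).toMonoidHom = ⊥ ∨
      P ⊓ P.map (MulAut.conj x).toMonoidHom = P)
    (D : Subgroup X) (hDP : D ≤ P) (hbot : D ≠ ⊥) (htop : D ≠ P) (hG : GreenProp P D) :
    False := by
  have h1 : D.map (MulAut.conj (1 : X)).toMonoidHom = D := by
    ext y
    simp [Subgroup.mem_map]
  obtain ⟨x, -, hx⟩ := hG 1 (by rw [h1]; exact hDP)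
  rw [h1] at hx
  rcases hTI x with h | h
  · exact hbot (hx.symm.trans h)
  · exact htop (hx.symm.trans h)

/-- A finite group with a TI Sylow `p`-subgroup: every `p`-block has defect `0` or full defect. -/
theorem lt4_defect_of_TI [Finite X] (p : ℕ) [hp : Fact p.Prime] (P : Sylow p X)
    (hTI : ∀ x : X, (P : Subgroup X) ⊓ (P : Subgroup X).map (MulAut.conj x).toMonoidHom = ⊥ ∨
      (P : Subgroup X) ⊓ (P : Subgroup X).map (MulAut.conj x).toMonoidHom = (P : Subgroup X)) :
    lt4_P p X :=
  lt4_defect_of_noGreen p P (lt4_noGreen_of_TI (P : Subgroup X) hTI)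

/-- Variant of the TI hypothesis: `x ∉ N_X(P)` gives `P ∩ xPx⁻¹ = 1`. -/
theorem lt4_defect_of_TI' [Finite X] (p : ℕ) [hp : Fact p.Prime] (P : Sylow p X)
    (hTI : ∀ x : X, x ∉ Subgroup.normalizer ((P : Subgroup X) : Set X) →
      (P : Subgroup X) ⊓ (P : Subgroup X).map (MulAut.conj x).toMonoidHom = ⊥) :
    lt4_P p X := by
  apply lt4_defect_of_TI p P
  intro x
  by_cases hx : x ∈ Subgroup.normalizer ((P : Subgroup X) : Set X)
  · right
    have h2 : (P : Subgroup X).map (MulAut.conj x).toMonoidHom = (P : Subgroup X) := by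
      ext y
      rw [Subgroup.mem_map]
      constructor
      · rintro ⟨z, hz, rfl⟩
        exact (Subgroup.mem_normalizer_iff.mp hx z).mp hz
      · intro hy
        refine ⟨x⁻¹ * y * x, ?_, ?_⟩
        · have := (Subgroup.mem_normalizer_iff.mp (inv_mem hx) y).mp hy
          simpa using this
        · simp [mul_assoc]
    rw [h2, inf_idem]
  · left
    exact hTI x hx

end Cfsg.Agent.LT4
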