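import Mathlib
import Cfsg.Prelude.Def_LieTypeChar
import Cfsg.Agent.ChevBlk.H8_Main
import Cfsg.Agent.ChevBlk.H7_InterHyp
import Cfsg.Agent.ChevBlk.H2_LemB
import Cfsg.Agent.LT4.NoGreen

set_option autoImplicit false

/-!
# LT4 (S5012): the `IsExceptionalChevChar` disjunct (Chevalley groups of types G₂, F₄, E₆, E₇, E₈;
also B₂, D₄) (helper7)

`ChevBlk.chev_no_greenProp` (no Green subgroup strictly between `1` and `U`, the block-theoretic
core of S2441) + `lt4_defect_of_noGreen` + `lt4_of_iso`.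
-/

namespace Cfsg.Agent.LT4

open Cfsg Cfsg.Lie Matrix Cfsg.Agent.Helper7 Cfsg.Agent.Helper7.Chev Cfsg.Agent.ChevDZ
  Cfsg.Agent.Helper6 Cfsg.Agent.ChevBlk

/-- every `p`-block of a Chevalley group `D.group F` (`D` one of the seven data, `F` finite of
characteristic `p`) has defect `0` or full defect. -/
theorem lt4_chev_group {F : Type*} [Field F] [Fintype F] (p : ℕ) [Fact p.Prime] [CharP F p]
    (D : ChevalleyDatum)
    (hD : D ∈ [chevG2, chevB2, chevD4, chevF4, chevE6, chevE7, chevE8]) :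
    lt4_P p ↥(D.group F) := by
  classical
  have hG3 := good3_of_mem D hD
  have hG := hG3.toGood2
  have hT := T0_of_mem D hD
  have h3 := hG3.t3
  have h4 := hG3.t4
  have h5 := T5_of_mem D hD
  have h6 := T6_of_mem D hD
  have h7 := T7_of_mem D hD
  have h7n := Cfsg.Agent.ChevUni.h1_T7n_of_mem D hD
  have h8 := T8_of_mem D hD
  have h9 := T9_of_mem D hD
  have h26 := T26_of_mem D hD
  have hW := h1_T17_of_mem D hD
  obtain ⟨P, hP⟩ := exists_sylow_posUnipotent (F := F) hG hT h3 h4 h5 h6 h7 h7n h8 h9 p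
  apply lt4_defect_of_noGreen p P
  intro E hE hbot htop hgp
  rw [hP] at hE htop hgp
  exact chev_no_greenProp hG hT h3 h4 h7 h8 h9 h26 hW
    (h7_interHyp_of_mem D hD _ F) (h2b_lemmaAHyp_of_mem D hD) (h2b_lemmaBHyp_of_mem D hD)
    (h2b_adjHyp_of_mem D hD) E hE hbot htop hgp

/-- transport to a group isomorphic to a Chevalley group (any universe). -/
theorem lt4_chev_of_iso {G : Type*} [Group G] {F : Type*} [Field F] [Fintype F] (p : ℕ)
    [Fact p.Prime] [CharP F p] (D : ChevalleyDatum)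
    (hD : D ∈ [chevG2, chevB2, chevD4, chevF4, chevE6, chevE7, chevE8])
    (e : G ≃* ↥(D.group F)) : lt4_P p G :=
  lt4_of_iso p e (lt4_chev_group p D hD)

/-- the `IsExceptionalChevChar p G` disjunct of `IsLieTypeChar`: assembly-ready. -/
theorem lt4_chev_iso {G : Type*} [Group G] (p : ℕ) [Fact p.Prime]
    (hG : Cfsg.IsExceptionalChevChar p G) : lt4_P p G := by
  obtain ⟨F, _, _, _, h⟩ := hG
  rcases h with ⟨_, he⟩ | he | he | he | he
  · obtain ⟨e⟩ := he
    exact lt4_chev_of_iso p chevG2 (by simp) e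
  · obtain ⟨e⟩ := he
    exact lt4_chev_of_iso p chevF4 (by simp) e
  · obtain ⟨e⟩ := he
    exact lt4_chev_of_iso p chevE6 (by simp) e
  · obtain ⟨e⟩ := he
    exact lt4_chev_of_iso p chevE7 (by simp) e
  · obtain ⟨e⟩ := he
    exact lt4_chev_of_iso p chevE8 (by simp) e

end Cfsg.Agent.LT4
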