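import Mathlib
import Cfsg.Agent.LT3.BNb
import Cfsg.Agent.Lead.SteinBNA

set_option autoImplicit false

/-!
# LT4 generic part A (helper5): chambers fixed by a `p`-subgroup in a split BN-pair

Chambers are the cosets `g B`.  For a subgroup `D`, `lt4g_Fx U D g` says that `D ≤ g U g⁻¹`
(`D` fixes the chamber `g B`), and `lt4g_Par U D g f` that `g U g⁻¹ ⊓ f U f⁻¹ = D`.
We prove the gate lemmas: for a partner pair `(g, f)` with `g⁻¹ f ∈ C(w)`, the panel of type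
`r` at `g` contains another fixed chamber iff `ℓ(r w) < ℓ(w)`.
-/

namespace Cfsg.Agent.LT4

open Cfsg Cfsg.Agent.Helper7.BN Cfsg.Agent.Helper7.InvWords Cfsg.Agent.LT3
  Cfsg.Agent.Lead.CoxComb Cfsg.Agent.Lead.SteinBN

variable {G : Type*} [Group G]

/-- `D` fixes the chamber `g B`: `g⁻¹ D g ≤ U`. -/
def lt4g_Fx (U D : Subgroup G) (g : G) : Prop := ∀ d ∈ D, g⁻¹ * d * g ∈ U

/-- `g U g⁻¹ ⊓ f U f⁻¹ = D`. -/
def lt4g_Par (U D : Subgroup G) (g f : G) : Prop :=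
  lt4g_Fx U D g ∧ lt4g_Fx U D f ∧ ∀ x : G, g⁻¹ * x * g ∈ U → f⁻¹ * x * f ∈ U → x ∈ D

theorem lt4g_Par.symm {U D : Subgroup G} {g f : G} (h : lt4g_Par U D g f) : lt4g_Par U D f g :=
  ⟨h.2.1, h.1, fun x hx hx' => h.2.2 x hx' hx⟩

theorem lt4g_conj_pow (c d : G) (n : ℕ) : (c⁻¹ * d * c) ^ n = c⁻¹ * d ^ n * c := by
  have := conj_pow (a := c⁻¹) (b := d) (i := n)
  rw [inv_inv] at this
  exact this

variable {p : ℕ} {P : Cfsg.BNPair G} {U : Subgroup G}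

/-- a `p`-element of `g B g⁻¹` lies in `g U g⁻¹`. -/
theorem lt4g_pel (h : lt3bn_Split p P U) {c x : G} (hx : c⁻¹ * x * c ∈ P.B) {k : ℕ}
    (hk : x ^ p ^ k = 1) : c⁻¹ * x * c ∈ U := by
  apply h.pel _ hx k
  rw [lt4g_conj_pow, hk]
  group

theorem lt4g_RS_mul_cancel {r : W P} (hr : r ∈ RS P) (w : W P) : r * (r * w) = w := by
  rw [← mul_assoc, RS_mul_self P hr, one_mul]

theorem lt4g_CW_RS_inv {r : W P} (hr : r ∈ RS P) {a : G} (ha : a ∈ CW P r) : a⁻¹ ∈ CW P r := by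
  have := CW_inv P ha
  rwa [RS_inv P hr] at this

/-- `C(r) C(r) ⊆ B ∪ C(r)`. -/
theorem lt4g_CW_RS_mul {r : W P} (hr : r ∈ RS P) {a b : G} (ha : a ∈ CW P r) (hb : b ∈ CW P r) :
    a * b ∈ P.B ∨ a * b ∈ CW P r := by
  have := CW_T3_left P hr ha hb
  rw [RS_mul_self P hr, CW_one] at this
  exact this

theorem lt4g_not_mem_B_of_CW_RS {r : W P} (hr : r ∈ RS P) {a : G} (ha : a ∈ CW P r) :
    a ∉ P.B := by
  intro hB
  have h1 : a ∈ CW P 1 := by rw [CW_one]; exact hB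
  exact RS_ne_one P hr (eq_of_mem_CW P ha h1)

/-- `ℓ(w) < ℓ(r w)` gives `C(r) C(w) ⊆ C(r w)`. -/
theorem lt4g_mul_up {r w : W P} (hr : r ∈ RS P) (hlen : len (RS P) w < len (RS P) (r * w))
    {a y : G} (ha : a ∈ CW P r) (hy : y ∈ CW P w) : a * y ∈ CW P (r * w) :=
  good_of_le P hr (le_of_lt hlen) a ha y hy

/-- `ℓ(r w) < ℓ(w)` gives `C(r) C(r w) ⊆ C(w)`. -/
theorem lt4g_mul_down {r w : W P} (hr : r ∈ RS P) (hlen : len (RS P) (r * w) < len (RS P) w)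
    {a y : G} (ha : a ∈ CW P r) (hy : y ∈ CW P (r * w)) : a * y ∈ CW P w := by
  have hgood : Good P r (r * w) := by
    apply good_of_le P hr
    rw [lt4g_RS_mul_cancel hr]
    exact le_of_lt hlen
  have := hgood a ha y hy
  rwa [lt4g_RS_mul_cancel hr] at this

/-- another chamber in a panel. -/
theorem lt4g_exists_other (h : lt3bn_Split p P U) {r : W P} (hr : r ∈ RS P) {a : G}
    (ha : a ∈ CW P r) : ∃ a' ∈ CW P r, a⁻¹ * a' ∈ CW P r := by
  obtain ⟨x, hx, y, hy, hxy⟩ := exists_mul_mem_CW_self P hr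
  obtain ⟨u, hu, b, hb, rfl⟩ := lt3bn_cell_orbit h hx ha
  refine ⟨u * (x * y), B_mul_CW P hxy (h.le hu), ?_⟩
  have e : (u * x * b)⁻¹ * (u * (x * y)) = b⁻¹ * y := by group
  rw [e]
  exact B_mul_CW P hy (P.B.inv_mem hb)

/-- **Gate lemma, descending direction.** If `D` fixes `g B` and `f B`, `g⁻¹ f ∈ C(w)` and
`ℓ(r w) < ℓ(w)`, then the chamber of the `r`-panel of `g` nearest to `f` is fixed by `D`. -/
theorem lt4g_gate_fix (h : lt3bn_Split p P U) {D : Subgroup G} (hD : IsPGroup p D) {g f : G}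
    (hg : lt4g_Fx U D g) (hf : lt4g_Fx U D f) {w r : W P} (hw : g⁻¹ * f ∈ CW P w)
    (hr : r ∈ RS P) (hlen : len (RS P) (r * w) < len (RS P) w) :
    ∃ g' : G, g⁻¹ * g' ∈ CW P r ∧ g'⁻¹ * f ∈ CW P (r * w) ∧ lt4g_Fx U D g' := by
  have hw' : g⁻¹ * f ∈ CW P (r * (r * w)) := by rwa [lt4g_RS_mul_cancel hr]
  obtain ⟨a, ha, b, hb, hab⟩ := CW_mul_decomp P hw'
  have hfb : (g * a)⁻¹ * f = b := by
    have : f = g * (a * b) := by rw [← hab]; group
    rw [this]; group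
  refine ⟨g * a, by rwa [inv_mul_cancel_left], by rw [hfb]; exact hb, ?_⟩
  intro d hd
  obtain ⟨k, hk⟩ := hD ⟨d, hd⟩
  have hk' : d ^ p ^ k = 1 := by
    have := congrArg Subtype.val hk
    simpa using this
  apply lt4g_pel h _ hk'
  -- `x = a⁻¹ β a` with `β = g⁻¹ d g ∈ U`
  have hβ : g⁻¹ * d * g ∈ P.B := h.le (hg d hd)
  have hγ : f⁻¹ * d * f ∈ P.B := h.le (hf d hd)
  have hx : (g * a)⁻¹ * d * (g * a) = a⁻¹ * ((g⁻¹ * d * g) * a) := by group
  rw [hx]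
  rcases lt4g_CW_RS_mul hr (lt4g_CW_RS_inv hr ha) (B_mul_CW P ha hβ) with hB | hC
  · exact hB
  · exfalso
    -- `x b ∈ C(w)` and `x b = b γ ∈ C(r w)`
    have h1 : a⁻¹ * ((g⁻¹ * d * g) * a) * b ∈ CW P w := lt4g_mul_down hr hlen hC hb
    have h2 : a⁻¹ * ((g⁻¹ * d * g) * a) * b = b * (f⁻¹ * d * f) := by
      have e1 : a⁻¹ * ((g⁻¹ * d * g) * a) * b = a⁻¹ * (g⁻¹ * d * g) * (a * b) := by group
      rw [e1, ← hab, ← hfb]
      group
    rw [h2] at h1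
    have h3 : b * (f⁻¹ * d * f) ∈ CW P (r * w) := CW_mul_B P hb hγ
    have h4 : w = r * w := eq_of_mem_CW P h1 h3
    have h5 : r = 1 := by
      have : r * w = 1 * w := by rw [one_mul]; exact h4.symm
      exact mul_right_cancel this
    exact RS_ne_one P hr h5

/-- **Gate lemma, ascending direction.** If `g U g⁻¹ ⊓ f U f⁻¹ = D`, `g⁻¹ f ∈ C(w)` and
`ℓ(w) < ℓ(r w)`, then no other chamber of the `r`-panel of `g` is fixed by `D`. -/
theorem lt4g_no_fix (h : lt3bn_Split p P U) {D : Subgroup G} {g f : G}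
    (hpar : lt4g_Par U D g f) {w r : W P} (hw : g⁻¹ * f ∈ CW P w)
    (hr : r ∈ RS P) (hlen : len (RS P) w < len (RS P) (r * w)) {g' : G}
    (hg' : g⁻¹ * g' ∈ CW P r) : ¬ lt4g_Fx U D g' := by
  intro hfx
  obtain ⟨a'', ha'', haa⟩ := lt4g_exists_other h hr hg'
  -- the two chambers `g'` and `g'' = g a''` are at distance `r w` from `f`
  have h1 : g'⁻¹ * f ∈ CW P (r * w) := by
    have e : g'⁻¹ * f = (g⁻¹ * g')⁻¹ * (g⁻¹ * f) := by group
    rw [e]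
    exact lt4g_mul_up hr hlen (lt4g_CW_RS_inv hr hg') hw
  have h2 : (g * a'')⁻¹ * f ∈ CW P (r * w) := by
    have e : (g * a'')⁻¹ * f = a''⁻¹ * (g⁻¹ * f) := by group
    rw [e]
    exact lt4g_mul_up hr hlen (lt4g_CW_RS_inv hr ha'') hw
  have h1' : f⁻¹ * g' ∈ CW P (r * w)⁻¹ := by
    have := CW_inv P h1
    have e : (g'⁻¹ * f)⁻¹ = f⁻¹ * g' := by group
    rwa [e] at this
  have h2' : f⁻¹ * (g * a'') ∈ CW P (r * w)⁻¹ := by
    have := CW_inv P h2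
    have e : ((g * a'')⁻¹ * f)⁻¹ = f⁻¹ * (g * a'') := by group
    rwa [e] at this
  obtain ⟨u, hu, b, hb, hub⟩ := lt3bn_cell_orbit h h1' h2'
  -- `v = f u f⁻¹` maps `g' B` to `g'' B`
  set v : G := f * u * f⁻¹ with hv
  have hvg : v * g' * b = g * a'' := by
    have : v * g' * b = f * (u * (f⁻¹ * g') * b) := by rw [hv]; group
    rw [this, ← hub]; group
  -- `v` fixes `g B`
  have hvB : g⁻¹ * v⁻¹ * g ∈ P.B := by
    have e1 : g⁻¹ * v⁻¹ * g = ((v * g)⁻¹ * (g * a'')) * a''⁻¹ := by group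
    have e2 : (v * g)⁻¹ * (g * a'') = (g⁻¹ * g') * b := by
      rw [← hvg]; group
    have h3 : (v * g)⁻¹ * (g * a'') ∈ CW P r := by
      rw [e2]; exact CW_mul_B P hg' hb
    rcases lt4g_CW_RS_mul hr h3 (lt4g_CW_RS_inv hr ha'') with hB | hC
    · rw [e1]; exact hB
    · exfalso
      rw [← e1] at hC
      have h4 : (g⁻¹ * v⁻¹ * g) * (g⁻¹ * f) ∈ CW P (r * w) := lt4g_mul_up hr hlen hC hw
      have e3 : (g⁻¹ * v⁻¹ * g) * (g⁻¹ * f) = (g⁻¹ * f) * u⁻¹ := by rw [hv]; group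
      rw [e3] at h4
      have h5 : (g⁻¹ * f) * u⁻¹ ∈ CW P w := CW_mul_B P hw (P.B.inv_mem (h.le hu))
      have h6 : r * w = w := eq_of_mem_CW P h4 h5
      have h7 : r = 1 := by
        have : r * w = 1 * w := by rw [one_mul]; exact h6
        exact mul_right_cancel this
      exact RS_ne_one P hr h7
  have hvB' : g⁻¹ * v * g ∈ P.B := by
    have := P.B.inv_mem hvB
    have e : (g⁻¹ * v⁻¹ * g)⁻¹ = g⁻¹ * v * g := by group
    rwa [e] at this
  -- `v` is a `p`-element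
  obtain ⟨k, hk⟩ := h.isP ⟨u, hu⟩
  have hk' : u ^ p ^ k = 1 := by
    have := congrArg Subtype.val hk
    simpa using this
  have hvk : v ^ p ^ k = 1 := by
    rw [hv]
    have := conj_pow (a := f) (b := u) (i := p ^ k)
    rw [this, hk']; group
  have hvU : g⁻¹ * v * g ∈ U := lt4g_pel h hvB' hvk
  have hvf : f⁻¹ * v * f ∈ U := by
    have : f⁻¹ * v * f = u := by rw [hv]; group
    rw [this]; exact hu
  have hvD : v ∈ D := hpar.2.2 v hvU hvf
  -- but `v` moves `g' B`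
  have h8 : g'⁻¹ * v * g' ∈ P.B := h.le (hfx v hvD)
  have e4 : g'⁻¹ * v * g' = ((g⁻¹ * g')⁻¹ * a'') * b⁻¹ := by
    have : a'' = g⁻¹ * (v * g' * b) := by rw [hvg]; group
    rw [this]; group
  rw [e4] at h8
  have h9 : ((g⁻¹ * g')⁻¹ * a'') * b⁻¹ ∈ CW P r := CW_mul_B P haa (P.B.inv_mem hb)
  exact lt4g_not_mem_B_of_CW_RS hr h9 h8

/-- the type set of a fixed chamber: panels containing another fixed chamber. -/
def lt4g_JJ (P : Cfsg.BNPair G) (U D : Subgroup G) (g : G) (r : W P) : Prop :=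
  ∃ g' : G, g⁻¹ * g' ∈ CW P r ∧ lt4g_Fx U D g'

/-- for a partner pair the type set is the left descent set. -/
theorem lt4g_JJ_iff (h : lt3bn_Split p P U) {D : Subgroup G} (hD : IsPGroup p D) {g f : G}
    (hpar : lt4g_Par U D g f) {w r : W P} (hw : g⁻¹ * f ∈ CW P w) (hr : r ∈ RS P) :
    lt4g_JJ P U D g r ↔ len (RS P) (r * w) < len (RS P) w := by
  constructor
  · rintro ⟨g', hg', hfx⟩
    by_contra hcon
    have hne := len_mul_ne P hr (w := w)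
    have hlt : len (RS P) w < len (RS P) (r * w) := by omega
    exact lt4g_no_fix h hpar hw hr hlt hg' hfx
  · intro hlen
    obtain ⟨g', h1, -, h3⟩ := lt4g_gate_fix h hD hpar.1 hpar.2.1 hw hr hlen
    exact ⟨g', h1, h3⟩

end Cfsg.Agent.LT4
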