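import Mathlib
import Cfsg.Agent.LT4.GenA

set_option autoImplicit false

/-!
# LT4 generic part B (helper5): panels with two fixed chambers have a third one; partner pairs
at the same distance.
-/

namespace Cfsg.Agent.LT4

open Cfsg Cfsg.Agent.Helper7.BN Cfsg.Agent.Helper7.InvWords Cfsg.Agent.LT3
  Cfsg.Agent.Lead.CoxComb Cfsg.Agent.Lead.SteinBN MulAction

variable {G : Type*} [Group G] {p : ℕ} {P : Cfsg.BNPair G} {U : Subgroup G}

/-- left multiplication by an element normalising `D` preserves the fixed chambers. -/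
theorem lt4g_Fx_mul_left {D : Subgroup G} {y g : G} (hy : ∀ d ∈ D, y⁻¹ * d * y ∈ D)
    (hg : lt4g_Fx U D g) : lt4g_Fx U D (y * g) := by
  intro d hd
  have := hg _ (hy d hd)
  have e : (y * g)⁻¹ * d * (y * g) = g⁻¹ * (y⁻¹ * d * y) * g := by group
  rw [e]; exact this

theorem lt4g_JJ_mul_left {D : Subgroup G} {y g : G} (hy : ∀ d ∈ D, y⁻¹ * d * y ∈ D) {r : W P}
    (hJ : lt4g_JJ P U D g r) : lt4g_JJ P U D (y * g) r := by
  obtain ⟨g', hg', hfx⟩ := hJ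
  refine ⟨y * g', ?_, lt4g_Fx_mul_left hy hfx⟩
  have e : (y * g)⁻¹ * (y * g') = g⁻¹ * g' := by group
  rw [e]; exact hg'

/-- The subgroup `g U g⁻¹ ⊓ f U f⁻¹`. -/
def lt4g_XX (U : Subgroup G) (g f : G) : Subgroup G :=
  U.comap (MulAut.conj g⁻¹).toMonoidHom ⊓ U.comap (MulAut.conj f⁻¹).toMonoidHom

theorem lt4g_mem_XX {g f x : G} : x ∈ lt4g_XX U g f ↔ g⁻¹ * x * g ∈ U ∧ f⁻¹ * x * f ∈ U := by
  unfold lt4g_XX
  rw [Subgroup.mem_inf, Subgroup.mem_comap, Subgroup.mem_comap]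
  simp only [MulEquiv.coe_toMonoidHom, MulAut.conj_apply, inv_inv]

/-- A fixed chamber at the same distance from `f` as `g` is also a partner of `f`. -/
theorem lt4g_par_of_same_dist [Finite G] (h : lt3bn_Split p P U) {D : Subgroup G} {g f g₁ : G}
    (hpar : lt4g_Par U D g f) {w : W P} (hw : g⁻¹ * f ∈ CW P w) (hfx : lt4g_Fx U D g₁)
    (hw₁ : g₁⁻¹ * f ∈ CW P w) : lt4g_Par U D g₁ f := by
  refine ⟨hfx, hpar.2.1, ?_⟩
  have h1 : f⁻¹ * g ∈ CW P w⁻¹ := by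
    have := CW_inv P hw
    have e : (g⁻¹ * f)⁻¹ = f⁻¹ * g := by group
    rwa [e] at this
  have h2 : f⁻¹ * g₁ ∈ CW P w⁻¹ := by
    have := CW_inv P hw₁
    have e : (g₁⁻¹ * f)⁻¹ = f⁻¹ * g₁ := by group
    rwa [e] at this
  obtain ⟨u, hu, b, hb, hub⟩ := lt3bn_cell_orbit h h1 h2
  set v : G := f * u * f⁻¹ with hv
  have hg₁ : g₁ = v * g * b := by
    have : v * g * b = f * (u * (f⁻¹ * g) * b) := by rw [hv]; group
    rw [this, ← hub]; group
  -- `X = g₁ U g₁⁻¹ ⊓ f U f⁻¹`, `D ≤ X` and `v⁻¹ X v ≤ D`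
  have hDX : D ≤ lt4g_XX U g₁ f := by
    intro d hd
    rw [lt4g_mem_XX]
    exact ⟨hfx d hd, hpar.2.1 d hd⟩
  have hXD : (lt4g_XX U g₁ f).map (MulAut.conj v⁻¹).toMonoidHom ≤ D := by
    rintro _ ⟨x, hx, rfl⟩
    rw [SetLike.mem_coe, lt4g_mem_XX] at hx
    simp only [MulEquiv.coe_toMonoidHom, MulAut.conj_apply, inv_inv]
    apply hpar.2.2
    · have e : g⁻¹ * (v⁻¹ * x * v) * g = b * (g₁⁻¹ * x * g₁) * b⁻¹ := by rw [hg₁]; group
      rw [e]
      exact h.norm b hb _ hx.1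
    · have e : f⁻¹ * (v⁻¹ * x * v) * f = u⁻¹ * (f⁻¹ * x * f) * u := by rw [hv]; group
      rw [e]
      have := U.mul_mem (U.mul_mem (U.inv_mem hu) hx.2) hu
      exact this
  have hcard : Nat.card (lt4g_XX U g₁ f) ≤ Nat.card D := by
    have h3 : Nat.card ((lt4g_XX U g₁ f).map (MulAut.conj v⁻¹).toMonoidHom) =
        Nat.card (lt4g_XX U g₁ f) :=
      Subgroup.card_map_of_injective (MulAut.conj v⁻¹).injective
    rw [← h3]
    exact Subgroup.card_le_of_le hXD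
  have heq : D = lt4g_XX U g₁ f := Subgroup.eq_of_le_of_card_ge hDX hcard
  intro x hx1 hx2
  rw [heq, lt4g_mem_XX]
  exact ⟨hx1, hx2⟩

/-- **Third chamber.** A panel containing two chambers fixed by the `p`-group `D` contains a
third one. -/
theorem lt4g_third [Finite G] [hp : Fact p.Prime] (h : lt3bn_Split p P U) {D : Subgroup G}
    (hD : IsPGroup p D) {g g₁ : G} (hg : lt4g_Fx U D g) (hg₁ : lt4g_Fx U D g₁) {r : W P}
    (hr : r ∈ RS P) (ha : g⁻¹ * g₁ ∈ CW P r) :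
    ∃ g₂ : G, g⁻¹ * g₂ ∈ CW P r ∧ lt4g_Fx U D g₂ ∧ g₁⁻¹ * g₂ ∉ P.B := by
  classical
  set a₁ : G := g⁻¹ * g₁ with ha₁
  let x₁ : G ⧸ P.B := (a₁ : G ⧸ P.B)
  -- the subgroup of `U` corresponding to `D`
  let D' : Subgroup U := D.comap ((MulAut.conj g).toMonoidHom.comp U.subtype)
  have hD'mem : ∀ u : U, u ∈ D' ↔ g * (u : G) * g⁻¹ ∈ D := by
    intro u
    show g * (u : G) * g⁻¹ ∈ D ↔ _
    exact Iff.rfl
  have hD'p : IsPGroup p D' := h.isP.to_subgroup D'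
  -- `mk (u a) = mk a'` iff ...
  have hmk : ∀ (u : U) (a : G), u • (a : G ⧸ P.B) = (((u : G) * a : G) : G ⧸ P.B) := by
    intro u a; rfl
  -- the orbit has at least two elements
  obtain ⟨a'', ha'', haa⟩ := lt4g_exists_other h hr ha
  obtain ⟨u₀, hu₀, b₀, hb₀, hub₀⟩ := lt3bn_cell_orbit h ha ha''
  have hmem'' : ((a'' : G) : G ⧸ P.B) ∈ orbit U x₁ := by
    rw [MulAction.mem_orbit_iff]
    refine ⟨⟨u₀, hu₀⟩, ?_⟩
    rw [hmk]
    apply QuotientGroup.eq.2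
    have e : ((⟨u₀, hu₀⟩ : U) * a₁ : G)⁻¹ * a'' = b₀ := by
      rw [hub₀]; simp only [Subgroup.coe_mk]; group
    rw [e]; exact hb₀
  have hne'' : x₁ ≠ ((a'' : G) : G ⧸ P.B) := by
    intro he
    have := QuotientGroup.eq.1 he
    exact lt4g_not_mem_B_of_CW_RS hr haa this
  have hdvd : p ∣ Nat.card (orbit U x₁) := by
    obtain ⟨n, hn⟩ := h.isP.card_orbit x₁
    rw [hn]
    apply dvd_pow_self
    rintro rfl
    rw [pow_zero] at hn
    have hsub : Subsingleton (orbit U x₁) := (Nat.card_eq_one_iff_unique.1 hn).1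
    have := Subsingleton.elim (⟨x₁, mem_orbit_self x₁⟩ : orbit U x₁) ⟨_, hmem''⟩
    exact hne'' (congrArg Subtype.val this)
  -- `x₁` is fixed by `D'`
  have hfix₁ : (⟨x₁, mem_orbit_self x₁⟩ : orbit U x₁) ∈ fixedPoints D' (orbit U x₁) := by
    intro d'
    apply Subtype.ext
    show ((d' : U) • x₁) = x₁
    rw [hmk]
    apply QuotientGroup.eq.2
    have hd : g * ((d' : U) : G) * g⁻¹ ∈ D := (hD'mem d').1 d'.2
    have := hg₁ _ hd
    have e : (((d' : U) : G) * a₁)⁻¹ * a₁ = (g₁⁻¹ * (g * ((d' : U) : G) * g⁻¹) * g₁)⁻¹ := by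
      rw [ha₁]; group
    rw [e]
    exact P.B.inv_mem (h.le this)
  obtain ⟨⟨y, hy⟩, hyfix, hyne⟩ :=
    hD'p.exists_fixed_point_of_prime_dvd_card_of_fixed_point (orbit U x₁) hdvd hfix₁
  obtain ⟨u₂, rfl⟩ := MulAction.mem_orbit_iff.1 hy
  have hyne' : x₁ ≠ ((((u₂ : G) * a₁ : G)) : G ⧸ P.B) := by
    intro he
    apply hyne
    apply Subtype.ext
    show x₁ = u₂ • x₁
    rw [hmk]; exact he
  refine ⟨g * ((u₂ : G) * a₁), ?_, ?_, ?_⟩
  · rw [inv_mul_cancel_left]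
    exact B_mul_CW P ha (h.le u₂.2)
  · intro d hd
    obtain ⟨k, hk⟩ := hD ⟨d, hd⟩
    have hk' : d ^ p ^ k = 1 := by
      have := congrArg Subtype.val hk
      simpa using this
    apply lt4g_pel h _ hk'
    -- the element of `D'` given by `d`
    have hud : g⁻¹ * d * g ∈ U := hg d hd
    have hd' : (⟨g⁻¹ * d * g, hud⟩ : U) ∈ D' := by
      rw [hD'mem]
      have e : g * (g⁻¹ * d * g) * g⁻¹ = d := by group
      simp only [e]; exact hd
    have := hyfix ⟨_, hd'⟩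
    have h2 := congrArg Subtype.val this
    have h3 : ((⟨g⁻¹ * d * g, hud⟩ : U)) • (u₂ • x₁) = u₂ • x₁ := h2
    rw [hmk, hmk] at h3
    have h4 := QuotientGroup.eq.1 h3
    have e : (g * ((u₂ : G) * a₁))⁻¹ * d * (g * ((u₂ : G) * a₁)) =
        ((((⟨g⁻¹ * d * g, hud⟩ : U) : G) * ((u₂ : G) * a₁))⁻¹ * ((u₂ : G) * a₁))⁻¹ := by
      simp only []; group
    rw [e]
    exact P.B.inv_mem h4
  · intro hB
    apply hyne'
    apply QuotientGroup.eq.2
    have e : a₁⁻¹ * ((u₂ : G) * a₁) = g₁⁻¹ * (g * ((u₂ : G) * a₁)) := by rw [ha₁]; group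
    rw [e]; exact hB

end Cfsg.Agent.LT4
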