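import Mathlib
import Cfsg.Agent.LT4.GenB

set_option autoImplicit false

/-!
# LT4 generic part C (helper5): the type set of fixed chambers is constant; conclusion.

`lt4g_main`: in a finite group with a split BN-pair `(P, U)`, a subgroup `D ≤ U` with the Green
property (every fixed chamber `g B` has a partner `y g B`, `y ∈ C_G(D)`, with
`g U g⁻¹ ⊓ (y g) U (y g)⁻¹ = D`) is `⊥` or `U`, provided
(O) some conjugate of `U` meets `U` trivially, and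
(R+) for every `s ∈ S` there is a subgroup `D_s ≤ U` normalised by the maximal parabolic
`P_{S ∖ s}` whose centraliser lies in `B`.
-/

namespace Cfsg.Agent.LT4

open Cfsg Cfsg.Agent.Helper7.BN Cfsg.Agent.Helper7.InvWords Cfsg.Agent.LT3
  Cfsg.Agent.Lead.CoxComb Cfsg.Agent.Lead.SteinBN

variable {G : Type*} [Group G] {p : ℕ} {P : Cfsg.BNPair G} {U : Subgroup G}

/-- the Green property in chamber form. -/
def lt4g_Green (U D : Subgroup G) : Prop :=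
  ∀ g : G, lt4g_Fx U D g → ∃ y : G, (∀ d ∈ D, y * d = d * y) ∧ lt4g_Par U D g (y * g)

theorem lt4g_conj_mem_of_comm {D : Subgroup G} {y : G} (hy : ∀ d ∈ D, y * d = d * y) :
    ∀ d ∈ D, y⁻¹ * d * y ∈ D := by
  intro d hd
  have : y⁻¹ * d * y = d := by
    rw [mul_assoc, ← hy d hd, ← mul_assoc, inv_mul_cancel, one_mul]
  rw [this]; exact hd

theorem lt4g_JJ_congr_of_same_dist [Finite G] (h : lt3bn_Split p P U) {D : Subgroup G}
    (hD : IsPGroup p D) {g f g₁ : G} (hpar : lt4g_Par U D g f) {w : W P}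
    (hw : g⁻¹ * f ∈ CW P w) (hfx : lt4g_Fx U D g₁) (hw₁ : g₁⁻¹ * f ∈ CW P w) {r : W P}
    (hr : r ∈ RS P) : lt4g_JJ P U D g r ↔ lt4g_JJ P U D g₁ r := by
  have hpar₁ := lt4g_par_of_same_dist h hpar hw hfx hw₁
  rw [lt4g_JJ_iff h hD hpar hw hr, lt4g_JJ_iff h hD hpar₁ hw₁ hr]

theorem lt4g_mul_ne {r w : W P} (hr : r ∈ RS P) : r * w ≠ w := by
  intro h
  have : r * w = 1 * w := by rw [one_mul]; exact h
  exact RS_ne_one P hr (mul_right_cancel this)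

/-- chambers of one panel: distance to `f`. -/
theorem lt4g_panel_dist {g g₁ f : G} {r w : W P} (hr : r ∈ RS P) (ha : g⁻¹ * g₁ ∈ CW P r)
    (hw : g⁻¹ * f ∈ CW P w) : g₁⁻¹ * f ∈ CW P (r * w) ∨ g₁⁻¹ * f ∈ CW P w := by
  have e : g₁⁻¹ * f = (g⁻¹ * g₁)⁻¹ * (g⁻¹ * f) := by group
  rw [e]
  exact CW_T3_left P hr (lt4g_CW_RS_inv hr ha) hw

/-- **The type set is constant along fixed panels.** -/
theorem lt4g_JJ_adj [Finite G] [hp : Fact p.Prime] (h : lt3bn_Split p P U) {D : Subgroup G}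
    (hD : IsPGroup p D) (hGr : lt4g_Green U D) {g g₁ : G} (hg : lt4g_Fx U D g)
    (hg₁ : lt4g_Fx U D g₁) {r : W P} (hr : r ∈ RS P) (ha : g⁻¹ * g₁ ∈ CW P r) {r' : W P}
    (hr' : r' ∈ RS P) : lt4g_JJ P U D g r' ↔ lt4g_JJ P U D g₁ r' := by
  obtain ⟨y, hy, hpar⟩ := hGr g hg
  obtain ⟨w, hw⟩ := exists_mem_CW P (g⁻¹ * (y * g))
  have hlen : len (RS P) (r * w) < len (RS P) w :=
    (lt4g_JJ_iff h hD hpar hw hr).1 ⟨g₁, ha, hg₁⟩
  rcases lt4g_panel_dist hr ha hw with hw₁ | hw₁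
  swap
  · exact lt4g_JJ_congr_of_same_dist h hD hpar hw hg₁ hw₁ hr'
  -- `g₁` is the projection of `f`; take a third fixed chamber `g₂`
  obtain ⟨g₂, ha₂, hfx₂, hne₂⟩ := lt4g_third h hD hg hg₁ hr ha
  have h12 : g₁⁻¹ * g₂ ∈ CW P r := by
    have e : g₁⁻¹ * g₂ = (g⁻¹ * g₁)⁻¹ * (g⁻¹ * g₂) := by group
    rcases lt4g_CW_RS_mul hr (lt4g_CW_RS_inv hr ha) ha₂ with hB | hC
    · rw [← e] at hB; exact absurd hB hne₂
    · rw [e]; exact hC
  have hw₂ : g₂⁻¹ * (y * g) ∈ CW P w := by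
    rcases lt4g_panel_dist hr ha₂ hw with hw₂ | hw₂
    · exfalso
      have e : g₁⁻¹ * (y * g) = (g₁⁻¹ * g₂) * (g₂⁻¹ * (y * g)) := by group
      have h3 : g₁⁻¹ * (y * g) ∈ CW P w := by
        rw [e]; exact lt4g_mul_down hr hlen h12 hw₂
      exact lt4g_mul_ne hr (eq_of_mem_CW P hw₁ h3)
    · exact hw₂
  have hJ2 : lt4g_JJ P U D g r' ↔ lt4g_JJ P U D g₂ r' :=
    lt4g_JJ_congr_of_same_dist h hD hpar hw hfx₂ hw₂ hr'
  -- the partner of `g₁`
  obtain ⟨y₁, hy₁, hpar₁⟩ := hGr g₁ hg₁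
  obtain ⟨w₁, hww₁⟩ := exists_mem_CW P (g₁⁻¹ * (y₁ * g₁))
  have ha' : g₁⁻¹ * g ∈ CW P r := by
    have := lt4g_CW_RS_inv hr ha
    have e : (g⁻¹ * g₁)⁻¹ = g₁⁻¹ * g := by group
    rwa [e] at this
  have hlen₁ : len (RS P) (r * w₁) < len (RS P) w₁ :=
    (lt4g_JJ_iff h hD hpar₁ hww₁ hr).1 ⟨g, ha', hg⟩
  rcases lt4g_panel_dist hr ha' hww₁ with hx | hx
  swap
  · exact (lt4g_JJ_congr_of_same_dist h hD hpar₁ hww₁ hg hx hr').symm
  have hx₂ : g₂⁻¹ * (y₁ * g₁) ∈ CW P w₁ := by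
    rcases lt4g_panel_dist hr h12 hww₁ with hx₂ | hx₂
    · exfalso
      have e : g⁻¹ * (y₁ * g₁) = (g⁻¹ * g₂) * (g₂⁻¹ * (y₁ * g₁)) := by group
      have h3 : g⁻¹ * (y₁ * g₁) ∈ CW P w₁ := by
        rw [e]; exact lt4g_mul_down hr hlen₁ ha₂ hx₂
      exact lt4g_mul_ne hr (eq_of_mem_CW P hx h3)
    · exact hx₂
  have hJ3 : lt4g_JJ P U D g₁ r' ↔ lt4g_JJ P U D g₂ r' :=
    lt4g_JJ_congr_of_same_dist h hD hpar₁ hww₁ hfx₂ hx₂ hr'
  exact hJ2.trans hJ3.symm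

/-- **Support.** The distance between two fixed chambers lies in the subgroup generated by the
type set. -/
theorem lt4g_support [Finite G] [hp : Fact p.Prime] (h : lt3bn_Split p P U) {D : Subgroup G}
    (hD : IsPGroup p D) (hGr : lt4g_Green U D) :
    ∀ (n : ℕ) (g f : G) (w : W P), lt4g_Fx U D g → lt4g_Fx U D f → g⁻¹ * f ∈ CW P w →
      len (RS P) w = n → w ∈ Subgroup.closure {r : W P | r ∈ RS P ∧ lt4g_JJ P U D g r} := by
  intro n
  induction n with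
  | zero =>
    intro g f w _ _ _ hn
    have : w = 1 := (sys_RS P).len_eq_zero_iff.mp hn
    rw [this]; exact Subgroup.one_mem _
  | succ n ih =>
    intro g f w hg hf hw hn
    obtain ⟨r, hr, w', _, hlen', rfl⟩ := exists_left_decomp (invol_RS P) (mem_closure_RS P w) hn
    have hrw : r * (r * w') = w' := lt4g_RS_mul_cancel hr w'
    have hlen : len (RS P) (r * (r * w')) < len (RS P) (r * w') := by rw [hrw]; omega
    obtain ⟨g', h1, h2, h3⟩ := lt4g_gate_fix h hD hg hf hw hr hlen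
    rw [hrw] at h2
    have hih := ih g' f w' h3 hf h2 hlen'
    have hle : Subgroup.closure {r : W P | r ∈ RS P ∧ lt4g_JJ P U D g' r} ≤
        Subgroup.closure {r : W P | r ∈ RS P ∧ lt4g_JJ P U D g r} := by
      apply Subgroup.closure_mono
      rintro r' ⟨hr', hJ'⟩
      exact ⟨hr', (lt4g_JJ_adj h hD hGr hg h3 hr h1 hr').2 hJ'⟩
    exact Subgroup.mul_mem _ (Subgroup.subset_closure ⟨hr, g', h1, h3⟩) (hle hih)

end Cfsg.Agent.LT4
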