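import Mathlib
import Cfsg.Agent.LT4.GenC
import Cfsg.Agent.Helper7.BNParabolic

set_option autoImplicit false

/-!
# LT4 generic part D (helper5): the conclusion `D = ⊥ ∨ D = U`.
-/

namespace Cfsg.Agent.LT4

open Cfsg Cfsg.Agent.Helper7.BN Cfsg.Agent.Helper7.InvWords Cfsg.Agent.LT3
  Cfsg.Agent.Lead.CoxComb Cfsg.Agent.Lead.SteinBN

variable {G : Type*} [Group G] {p : ℕ} {P : Cfsg.BNPair G} {U : Subgroup G}

theorem lt4g_Fx_bot (g : G) : lt4g_Fx U (⊥ : Subgroup G) g := by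
  intro d hd
  rw [Subgroup.mem_bot] at hd
  rw [hd, mul_one, inv_mul_cancel]
  exact U.one_mem

/-- if `U ⊓ x₀ U x₀⁻¹ = ⊥` then every simple reflection is a left descent of the cell of `x₀`. -/
theorem lt4g_all_descents_of_trivial (h : lt3bn_Split p P U) {x₀ : G}
    (hO : ∀ u ∈ U, x₀⁻¹ * u * x₀ ∈ U → u = 1) {w₁ : W P} (hx : x₀ ∈ CW P w₁) :
    ∀ r ∈ RS P, len (RS P) (r * w₁) < len (RS P) w₁ := by
  intro r hr
  by_contra hcon
  have hne := len_mul_ne P hr (w := w₁)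
  have hlt : len (RS P) w₁ < len (RS P) (r * w₁) := by omega
  have hpar : lt4g_Par U (⊥ : Subgroup G) 1 x₀ := by
    refine ⟨lt4g_Fx_bot 1, lt4g_Fx_bot x₀, ?_⟩
    intro x hx1 hx2
    rw [inv_one, one_mul, mul_one] at hx1
    rw [Subgroup.mem_bot]
    exact hO x hx1 hx2
  have hw : (1 : G)⁻¹ * x₀ ∈ CW P w₁ := by rw [inv_one, one_mul]; exact hx
  obtain ⟨g', hg'⟩ := CW_nonempty P r
  have hg'' : (1 : G)⁻¹ * g' ∈ CW P r := by rw [inv_one, one_mul]; exact hg'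
  exact lt4g_no_fix h hpar hw hr hlt hg'' (lt4g_Fx_bot g')

/-- **Main generic theorem.** -/
theorem lt4g_main [Finite G] [hp : Fact p.Prime] (h : lt3bn_Split p P U) {D : Subgroup G}
    (hDU : D ≤ U) (hGr : lt4g_Green U D)
    (hO : ∃ x₀ : G, ∀ u ∈ U, x₀⁻¹ * u * x₀ ∈ U → u = 1)
    (hR : ∀ s ∈ P.S, ∃ Ds : Subgroup G, Ds ≤ U ∧
      (∀ x ∈ P.parabolic (P.S \ {s}), ∀ d ∈ Ds, x * d * x⁻¹ ∈ Ds) ∧
      (∀ x : G, (∀ d ∈ Ds, x * d = d * x) → x ∈ P.B)) :
    D = ⊥ ∨ D = U := by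
  have hD : IsPGroup p D := h.isP.to_le hDU
  have hfx1 : lt4g_Fx U D 1 := by
    intro d hd
    rw [inv_one, one_mul, mul_one]
    exact hDU hd
  obtain ⟨y, hy, hpar⟩ := hGr 1 hfx1
  rw [mul_one] at hpar
  obtain ⟨w, hw⟩ := exists_mem_CW P ((1 : G)⁻¹ * y)
  have hsupp := lt4g_support h hD hGr _ 1 y w hfx1 hpar.2.1 hw rfl
  have hyw : y ∈ CW P w := by rwa [inv_one, one_mul] at hw
  by_cases hall : ∀ r ∈ RS P, lt4g_JJ P U D 1 r
  · left
    have hdesc : ∀ r ∈ RS P, len (RS P) (r * w) < len (RS P) w :=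
      fun r hr => (lt4g_JJ_iff h hD hpar hw hr).1 (hall r hr)
    obtain ⟨x₀, hx₀⟩ := hO
    obtain ⟨w₁, hw₁⟩ := exists_mem_CW P x₀
    have hdesc₁ := lt4g_all_descents_of_trivial h hx₀ hw₁
    obtain ⟨w0, -, -, -, huniq⟩ := (sys_RS P).exists_longest
    have key : ∀ v : W P, (∀ r ∈ RS P, len (RS P) (r * v) < len (RS P) v) → v⁻¹ = w0 := by
      intro v hv
      apply huniq
      intro r hr
      have e : v⁻¹ * r = (r * v)⁻¹ := by rw [mul_inv_rev, RS_inv P hr]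
      rw [e, (sys_RS P).len_inv, (sys_RS P).len_inv]
      exact hv r hr
    have hww : w = w₁ := inv_injective ((key w hdesc).trans (key w₁ hdesc₁).symm)
    rw [hww] at hyw
    obtain ⟨u, hu, b, hb, rfl⟩ := lt3bn_cell_orbit h hw₁ hyw
    rw [Subgroup.eq_bot_iff_forall]
    intro d hd
    have h1 : d ∈ U := hDU hd
    have h2 : (u * x₀ * b)⁻¹ * d * (u * x₀ * b) ∈ U := hpar.2.1 d hd
    have h3 : u⁻¹ * d * u = 1 := by
      apply hx₀ _ (U.mul_mem (U.mul_mem (U.inv_mem hu) h1) hu)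
      have e : x₀⁻¹ * (u⁻¹ * d * u) * x₀ =
          b * ((u * x₀ * b)⁻¹ * d * (u * x₀ * b)) * b⁻¹ := by group
      rw [e]; exact h.norm b hb _ h2
    have e : d = u * (u⁻¹ * d * u) * u⁻¹ := by group
    rw [e, h3]; group
  · right
    simp only [not_forall] at hall
    obtain ⟨r₀, hr₀, hnJ⟩ := hall
    obtain ⟨n₀, hn₀S, rfl⟩ := hr₀
    obtain ⟨Ds, hDsU, hDsN, hDsC⟩ := hR (n₀ : G) hn₀S
    have hK : (P.S \ {(n₀ : G)}) ⊆ (P.N : Set G) := fun s hs => P.subset hs.1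
    have hwK : w ∈ Subgroup.closure (Rset P (P.S \ {(n₀ : G)})) := by
      refine (Subgroup.closure_mono ?_) hsupp
      rintro r ⟨hr, hJ⟩
      obtain ⟨n, hnS, rfl⟩ := hr
      refine ⟨n, ⟨hnS, ?_⟩, rfl⟩
      intro hns
      have : n = n₀ := Subtype.ext hns
      rw [this] at hJ
      exact hnJ hJ
    obtain ⟨n, rfl⟩ := proj_surjective P w
    have hnK := (mem_closure_sup_T_iff P hK n).2 hwK
    have hnpar : (n : G) ∈ P.parabolic (P.S \ {(n₀ : G)}) := by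
      have hle : Subgroup.closure (P.S \ {(n₀ : G)}) ⊔ (P.B ⊓ P.N) ≤
          P.parabolic (P.S \ {(n₀ : G)}) :=
        sup_le (closure_le_parabolic P _) (inf_le_left.trans (B_le_parabolic P _))
      exact hle hnK
    have hypar : y ∈ P.parabolic (P.S \ {(n₀ : G)}) := by
      rw [CW_proj, mem_C] at hyw
      obtain ⟨b1, hb1, b2, hb2, rfl⟩ := hyw
      exact Subgroup.mul_mem _ (Subgroup.mul_mem _ (B_le_parabolic P _ hb1) hnpar)
        (B_le_parabolic P _ hb2)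
    have hDsD : Ds ≤ D := by
      intro d hd
      apply hpar.2.2
      · rw [inv_one, one_mul, mul_one]; exact hDsU hd
      · have := hDsN y⁻¹ (Subgroup.inv_mem _ hypar) d hd
        rw [inv_inv] at this
        exact hDsU this
    have hyB : y ∈ P.B := hDsC y (fun d hd => hy d (hDsD hd))
    apply le_antisymm hDU
    intro u hu
    apply hpar.2.2
    · rw [inv_one, one_mul, mul_one]; exact hu
    · have := h.norm y⁻¹ (P.B.inv_mem hyB) u hu
      rwa [inv_inv] at this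

end Cfsg.Agent.LT4
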