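import Mathlib
import Cfsg.Agent.LT4.GenD
import Cfsg.Agent.Helper7.BNIndex
import Cfsg.Agent.LT3.BNe

set_option autoImplicit false

/-!
# LT4 generic part E (helper5): variants of the main generic theorem

* `lt4g_main'`: the centraliser hypothesis only inside the parabolic `P_{S∖s}`;
* `lt4g_cent_le_B`: the rank-one reformulation of the centraliser hypothesis
  (no element of `t B`, `t ∈ K`, centralises `D_s`);
* `lt4g_norm_parabolic`: normalised by `B` and by the `t ∈ K` implies normalised by `P_K`;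
* `lt4g_main_data`: everything from the raw BN data (the tuple shape of `lt3bn_Data`).
-/

namespace Cfsg.Agent.LT4

open Cfsg Cfsg.Agent.Helper7.BN Cfsg.Agent.Helper7.InvWords Cfsg.Agent.LT3
  Cfsg.Agent.Lead.CoxComb Cfsg.Agent.Lead.SteinBN

variable {G : Type*} [Group G] {p : ℕ} {P : Cfsg.BNPair G} {U : Subgroup G}

/-- **Main generic theorem**, with the centraliser hypothesis only inside `P_{S∖s}`. -/
theorem lt4g_main' [Finite G] [hp : Fact p.Prime] (h : lt3bn_Split p P U) {D : Subgroup G}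
    (hDU : D ≤ U) (hGr : lt4g_Green U D)
    (hO : ∃ x₀ : G, ∀ u ∈ U, x₀⁻¹ * u * x₀ ∈ U → u = 1)
    (hR : ∀ s ∈ P.S, ∃ Ds : Subgroup G, Ds ≤ U ∧
      (∀ x ∈ P.parabolic (P.S \ {s}), ∀ d ∈ Ds, x * d * x⁻¹ ∈ Ds) ∧
      (∀ x ∈ P.parabolic (P.S \ {s}), (∀ d ∈ Ds, x * d = d * x) → x ∈ P.B)) :
    D = ⊥ ∨ D = U := by
  have hD : IsPGroup p D := h.isP.to_le hDU
  have hfx1 : lt4g_Fx U D 1 := by
    intro d hd
    rw [inv_one, one_mul, mul_one]
    exact hDU hd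
  obtain ⟨y, hy, hpar⟩ := hGr 1 hfx1
  rw [mul_one] at hpar
  obtain ⟨w, hw⟩ := exists_mem_CW P ((1 : G)⁻¹ * y)
  have hsupp := lt4g_support h hD hGr _ 1 y w hfx1 hpar.2.1 hw rfl
  have hyw : y ∈ CW P w := by rwa [inv_one, one_mul] at hw
  by_cases hall : ∀ r ∈ RS P, lt4g_JJ P U D 1 r
  · left
    have hdesc : ∀ r ∈ RS P, len (RS P) (r * w) < len (RS P) w :=
      fun r hr => (lt4g_JJ_iff h hD hpar hw hr).1 (hall r hr)
    obtain ⟨x₀, hx₀⟩ := hO
    obtain ⟨w₁, hw₁⟩ := exists_mem_CW P x₀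
    have hdesc₁ := lt4g_all_descents_of_trivial h hx₀ hw₁
    obtain ⟨w0, -, -, -, huniq⟩ := (sys_RS P).exists_longest
    have key : ∀ v : W P, (∀ r ∈ RS P, len (RS P) (r * v) < len (RS P) v) → v⁻¹ = w0 := by
      intro v hv
      apply huniq
      intro r hr
      have e : v⁻¹ * r = (r * v)⁻¹ := by rw [mul_inv_rev, RS_inv P hr]
      rw [e, (sys_RS P).len_inv, (sys_RS P).len_inv]
      exact hv r hr
    have hww : w = w₁ := inv_injective ((key w hdesc).trans (key w₁ hdesc₁).symm)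
    rw [hww] at hyw
    obtain ⟨u, hu, b, hb, rfl⟩ := lt3bn_cell_orbit h hw₁ hyw
    rw [Subgroup.eq_bot_iff_forall]
    intro d hd
    have h1 : d ∈ U := hDU hd
    have h2 : (u * x₀ * b)⁻¹ * d * (u * x₀ * b) ∈ U := hpar.2.1 d hd
    have h3 : u⁻¹ * d * u = 1 := by
      apply hx₀ _ (U.mul_mem (U.mul_mem (U.inv_mem hu) h1) hu)
      have e : x₀⁻¹ * (u⁻¹ * d * u) * x₀ =
          b * ((u * x₀ * b)⁻¹ * d * (u * x₀ * b)) * b⁻¹ := by group
      rw [e]; exact h.norm b hb _ h2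
    have e : d = u * (u⁻¹ * d * u) * u⁻¹ := by group
    rw [e, h3]; group
  · right
    simp only [not_forall] at hall
    obtain ⟨r₀, hr₀, hnJ⟩ := hall
    obtain ⟨n₀, hn₀S, rfl⟩ := hr₀
    obtain ⟨Ds, hDsU, hDsN, hDsC⟩ := hR (n₀ : G) hn₀S
    have hK : (P.S \ {(n₀ : G)}) ⊆ (P.N : Set G) := fun s hs => P.subset hs.1
    have hwK : w ∈ Subgroup.closure (Rset P (P.S \ {(n₀ : G)})) := by
      refine (Subgroup.closure_mono ?_) hsupp
      rintro r ⟨hr, hJ⟩
      obtain ⟨n, hnS, rfl⟩ := hr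
      refine ⟨n, ⟨hnS, ?_⟩, rfl⟩
      intro hns
      have : n = n₀ := Subtype.ext hns
      rw [this] at hJ
      exact hnJ hJ
    obtain ⟨n, rfl⟩ := proj_surjective P w
    have hnK := (mem_closure_sup_T_iff P hK n).2 hwK
    have hnpar : (n : G) ∈ P.parabolic (P.S \ {(n₀ : G)}) := by
      have hle : Subgroup.closure (P.S \ {(n₀ : G)}) ⊔ (P.B ⊓ P.N) ≤
          P.parabolic (P.S \ {(n₀ : G)}) :=
        sup_le (closure_le_parabolic P _) (inf_le_left.trans (B_le_parabolic P _))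
      exact hle hnK
    have hypar : y ∈ P.parabolic (P.S \ {(n₀ : G)}) := by
      rw [CW_proj, mem_C] at hyw
      obtain ⟨b1, hb1, b2, hb2, rfl⟩ := hyw
      exact Subgroup.mul_mem _ (Subgroup.mul_mem _ (B_le_parabolic P _ hb1) hnpar)
        (B_le_parabolic P _ hb2)
    have hDsD : Ds ≤ D := by
      intro d hd
      apply hpar.2.2
      · rw [inv_one, one_mul, mul_one]; exact hDsU hd
      · have := hDsN y⁻¹ (Subgroup.inv_mem _ hypar) d hd
        rw [inv_inv] at this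
        exact hDsU this
    have hyB : y ∈ P.B := hDsC y hypar (fun d hd => hy d (hDsD hd))
    apply le_antisymm hDU
    intro u hu
    apply hpar.2.2
    · rw [inv_one, one_mul, mul_one]; exact hu
    · have := h.norm y⁻¹ (P.B.inv_mem hyB) u hu
      rwa [inv_inv] at this

/-- **Rank-one reformulation of the centraliser hypothesis**: if `B` normalises `Ds` and no element
of `t B` (`t ∈ K`) centralises `Ds`, then `C_{P_K}(Ds) ≤ B`. -/
theorem lt4g_cent_le_B {K : Set G} (hK : K ⊆ P.S) {Ds : Subgroup G}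
    (hB : ∀ b ∈ P.B, ∀ d ∈ Ds, b * d * b⁻¹ ∈ Ds)
    (hno : ∀ t ∈ K, ∀ b ∈ P.B, ¬ ∀ d ∈ Ds, (t * b) * d = d * (t * b)) :
    ∀ x ∈ P.parabolic K, (∀ d ∈ Ds, x * d = d * x) → x ∈ P.B := by
  intro x hxK hxc
  set C : Subgroup G := Subgroup.centralizer (Ds : Set G) ⊓ P.parabolic K with hC
  have hnorm : ∀ b ∈ P.B, ∀ c ∈ C, b * c * b⁻¹ ∈ C := by
    intro b hb c hc
    rw [hC, Subgroup.mem_inf] at hc ⊢
    refine ⟨?_, Subgroup.mul_mem _ (Subgroup.mul_mem _ (B_le_parabolic P K hb) hc.2)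
      (Subgroup.inv_mem _ (B_le_parabolic P K hb))⟩
    rw [Subgroup.mem_centralizer_iff]
    intro d hd
    have hd' : b⁻¹ * d * b ∈ Ds := by
      have := hB b⁻¹ (P.B.inv_mem hb) d hd
      rwa [inv_inv] at this
    have hcomm := Subgroup.mem_centralizer_iff.mp hc.1 _ hd'
    calc d * (b * c * b⁻¹) = b * ((b⁻¹ * d * b) * c) * b⁻¹ := by group
      _ = b * (c * (b⁻¹ * d * b)) * b⁻¹ := by rw [hcomm]
      _ = b * c * b⁻¹ * d := by group
  have hBM : P.B ≤ C ⊔ P.B := le_sup_right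
  have hMK : C ⊔ P.B ≤ P.parabolic K := sup_le inf_le_right (B_le_parabolic P K)
  have hM := eq_parabolic_of_le P (C ⊔ P.B) hBM
  have hempty : P.S ∩ ((C ⊔ P.B : Subgroup G) : Set G) = ∅ := by
    rw [Set.eq_empty_iff_forall_notMem]
    rintro t ⟨htS, htM⟩
    have htK : t ∈ K := mem_of_mem_parabolic P hK htS (hMK htM)
    obtain ⟨c, hc, b, hb, e⟩ := lt3bn_mem_sup_of_norm C P.B hnorm htM
    have hc' : c = t * b⁻¹ := by rw [e]; group
    rw [hC, Subgroup.mem_inf, hc'] at hc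
    apply hno t htK b⁻¹ (P.B.inv_mem hb)
    intro d hd
    exact (Subgroup.mem_centralizer_iff.mp hc.1 d hd).symm
  rw [hempty] at hM
  have hxM : x ∈ C ⊔ P.B := by
    apply Subgroup.mem_sup_left
    rw [hC, Subgroup.mem_inf]
    refine ⟨?_, hxK⟩
    rw [Subgroup.mem_centralizer_iff]
    intro d hd
    exact (hxc d hd).symm
  rw [hM] at hxM
  have : P.parabolic (∅ : Set G) = P.B := by
    unfold Cfsg.BNPair.parabolic
    rw [Subgroup.closure_empty, sup_bot_eq]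
  rwa [this] at hxM

/-- in a finite group, a subgroup `Ds` mapped into itself by conjugation with `B` and with the
elements of `K` is normalised by `P_K`. -/
theorem lt4g_norm_parabolic [Finite G] {K : Set G} {Ds : Subgroup G}
    (hB : ∀ b ∈ P.B, ∀ d ∈ Ds, b * d * b⁻¹ ∈ Ds)
    (hK : ∀ t ∈ K, ∀ d ∈ Ds, t * d * t⁻¹ ∈ Ds) :
    ∀ x ∈ P.parabolic K, ∀ d ∈ Ds, x * d * x⁻¹ ∈ Ds := by
  -- the submonoid of all `x` with `x Ds x⁻¹ ≤ Ds`
  let M : Submonoid G :=
    { carrier := {x | ∀ d ∈ Ds, x * d * x⁻¹ ∈ Ds}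
      one_mem' := by
        intro d hd
        rw [one_mul, inv_one, mul_one]
        exact hd
      mul_mem' := by
        intro a b ha hb d hd
        have := ha _ (hb d hd)
        have e : a * b * d * (a * b)⁻¹ = a * (b * d * b⁻¹) * a⁻¹ := by group
        rw [e]
        exact this }
  have hinv : ∀ x ∈ M, x⁻¹ ∈ M := by
    intro x hx
    have h1 : x⁻¹ = x ^ (orderOf x - 1) := by
      apply inv_eq_of_mul_eq_one_right
      rw [← pow_succ', Nat.sub_add_cancel (orderOf_pos x), pow_orderOf_eq_one]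
    rw [h1]
    exact M.pow_mem hx _
  let M' : Subgroup G := { M with inv_mem' := fun {x} hx => hinv x hx }
  have hle : P.parabolic K ≤ M' := by
    rw [parabolic_le_iff]
    exact ⟨fun b hb => hB b hb, fun t ht => hK t ht⟩
  intro x hx
  exact hle hx

/-- **The main generic theorem from raw BN data** (`lt3bn_Data` tuple shape), with (O) as
`U ⊓ n U n⁻¹ = ⊥` and (R+) in rank-one form. -/
theorem lt4g_main_data [Finite G] [hp : Fact p.Prime] (P : Cfsg.BNPair G) (U : Subgroup G)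
    (hU : IsPGroup p U) (hidx : ¬ p ∣ U.index) (hle : U ≤ P.B)
    (hnorm : ∀ b ∈ P.B, ∀ u ∈ U, b * u * b⁻¹ ∈ U)
    (hsplit : ∀ b ∈ P.B, ∃ u ∈ U, ∃ t ∈ P.B ⊓ P.N, b = u * t)
    (hO : ∃ n : G, U ⊓ U.map (MulAut.conj n).toMonoidHom = ⊥)
    (hR : ∀ s ∈ P.S, ∃ Ds : Subgroup G, Ds ≤ U ∧ (∀ b ∈ P.B, ∀ d ∈ Ds, b * d * b⁻¹ ∈ Ds) ∧
      (∀ t ∈ P.S, t ≠ s → ∀ d ∈ Ds, t * d * t⁻¹ ∈ Ds) ∧
      (∀ t ∈ P.S, t ≠ s → ∀ b ∈ P.B, ¬ ∀ d ∈ Ds, (t * b) * d = d * (t * b)))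
    {D : Subgroup G} (hDU : D ≤ U) (hGr : lt4g_Green U D) : D = ⊥ ∨ D = U := by
  have h := lt3bn_split_of_data P U hU hidx hle hnorm hsplit
  refine lt4g_main' h hDU hGr ?_ ?_
  · obtain ⟨n, hn⟩ := hO
    refine ⟨n, ?_⟩
    intro u hu hu'
    have : u ∈ U ⊓ U.map (MulAut.conj n).toMonoidHom := by
      rw [Subgroup.mem_inf]
      refine ⟨hu, n⁻¹ * u * n, hu', ?_⟩
      simp only [MulEquiv.coe_toMonoidHom, MulAut.conj_apply]
      group
    rw [hn, Subgroup.mem_bot] at this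
    exact this
  · intro s hs
    obtain ⟨Ds, hDsU, hDsB, hDsK, hDsno⟩ := hR s hs
    refine ⟨Ds, hDsU, ?_, ?_⟩
    · exact lt4g_norm_parabolic hDsB (fun t ht => hDsK t ht.1 (fun e => ht.2 e))
    · exact lt4g_cent_le_B (fun t ht => ht.1) hDsB (fun t ht => hDsno t ht.1 (fun e => ht.2 e))

end Cfsg.Agent.LT4
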