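import Mathlib
import Cfsg.Agent.LT4.GenE
import Cfsg.Agent.ChevBlk.H8_Abs

set_option autoImplicit false

/-!
# LT4 generic part F (helper5): the bridge to the Green property of the block side

`ChevBlk.GreenProp U D` (helper7, from Green's theorem on defect groups) gives `lt4g_Green U D`, and so
`lt4bn_noGreen`: in a finite group with a split BN-pair, (O) and (R+), a subgroup `D ≤ U` with the
Green property is `⊥` or `U`.
-/

namespace Cfsg.Agent.LT4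

open Cfsg Cfsg.Agent.Helper7.BN Cfsg.Agent.LT3

variable {G : Type*} [Group G] {p : ℕ}

/-- the Green property (conjugates of `D` inside `U` are intersections `U ∩ xUx⁻¹`, `x ∈ C(D^g)`) in the
chamber language. -/
theorem lt4g_green_of_greenProp {U D : Subgroup G} (h : Cfsg.Agent.ChevBlk.GreenProp U D) :
    lt4g_Green U D := by
  intro g hg
  have hle : D.map (MulAut.conj g⁻¹).toMonoidHom ≤ U := by
    rintro _ ⟨d, hd, rfl⟩
    have := hg d hd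
    simp only [MulEquiv.coe_toMonoidHom, MulAut.conj_apply, inv_inv]
    exact this
  obtain ⟨x, hx, hxe⟩ := h g⁻¹ hle
  have hxc : ∀ d ∈ D, (g⁻¹ * d * g) * x = x * (g⁻¹ * d * g) := by
    intro d hd
    apply Subgroup.mem_centralizer_iff.mp hx
    refine ⟨d, hd, ?_⟩
    simp only [MulEquiv.coe_toMonoidHom, MulAut.conj_apply, inv_inv]
  refine ⟨g * x * g⁻¹, ?_, hg, ?_, ?_⟩
  · intro d hd
    have := hxc d hd
    calc g * x * g⁻¹ * d = g * (x * (g⁻¹ * d * g)) * g⁻¹ := by group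
      _ = g * ((g⁻¹ * d * g) * x) * g⁻¹ := by rw [this]
      _ = d * (g * x * g⁻¹) := by group
  · intro d hd
    have := hxc d hd
    have e : (g * x * g⁻¹ * g)⁻¹ * d * (g * x * g⁻¹ * g) = x⁻¹ * ((g⁻¹ * d * g) * x) := by group
    rw [e, this]
    have e2 : x⁻¹ * (x * (g⁻¹ * d * g)) = g⁻¹ * d * g := by group
    rw [e2]
    exact hg d hd
  · intro z hz1 hz2
    have hmem : g⁻¹ * z * g ∈ U ⊓ U.map (MulAut.conj x).toMonoidHom := by
      rw [Subgroup.mem_inf]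
      refine ⟨hz1, (g * x * g⁻¹ * g)⁻¹ * z * (g * x * g⁻¹ * g), hz2, ?_⟩
      simp only [MulEquiv.coe_toMonoidHom, MulAut.conj_apply]
      group
    rw [hxe] at hmem
    obtain ⟨d, hd, hde⟩ := hmem
    simp only [MulEquiv.coe_toMonoidHom, MulAut.conj_apply, inv_inv] at hde
    have : z = d := by
      have e : z = g * (g⁻¹ * z * g) * g⁻¹ := by group
      rw [e, ← hde]
      group
    rw [this]
    exact hd

/-- **No Green subgroups strictly between `⊥` and `U`** in a finite group with a split BN-pair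
satisfying (O) `U ⊓ n U n⁻¹ = ⊥` for some `n`, and (R+): for every node `s` a subgroup `D_s ≤ U`
normalised by `B` and by all `t ∈ S`, `t ≠ s`, such that no element of `t B` (`t ≠ s`)
centralises `D_s`. -/
theorem lt4bn_noGreen [Finite G] [hp : Fact p.Prime] (P : Cfsg.BNPair G) (U : Subgroup G)
    (hU : IsPGroup p U) (hidx : ¬ p ∣ U.index) (hle : U ≤ P.B)
    (hnorm : ∀ b ∈ P.B, ∀ u ∈ U, b * u * b⁻¹ ∈ U)
    (hsplit : ∀ b ∈ P.B, ∃ u ∈ U, ∃ t ∈ P.B ⊓ P.N, b = u * t)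
    (hO : ∃ n : G, U ⊓ U.map (MulAut.conj n).toMonoidHom = ⊥)
    (hR : ∀ s ∈ P.S, ∃ Ds : Subgroup G, Ds ≤ U ∧ (∀ b ∈ P.B, ∀ d ∈ Ds, b * d * b⁻¹ ∈ Ds) ∧
      (∀ t ∈ P.S, t ≠ s → ∀ d ∈ Ds, t * d * t⁻¹ ∈ Ds) ∧
      (∀ t ∈ P.S, t ≠ s → ∀ b ∈ P.B, ¬ ∀ d ∈ Ds, (t * b) * d = d * (t * b)))
    {D : Subgroup G} (hDU : D ≤ U) (hGr : Cfsg.Agent.ChevBlk.GreenProp U D) : D = ⊥ ∨ D = U :=
  lt4g_main_data P U hU hidx hle hnorm hsplit hO hR hDU (lt4g_green_of_greenProp hGr)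

/-- the same with (R+) in the form "`D_s ⊴ P_{S∖s}` and `C_{P_{S∖s}}(D_s) ≤ B`". -/
theorem lt4bn_noGreen' [Finite G] [hp : Fact p.Prime] (P : Cfsg.BNPair G) (U : Subgroup G)
    (hU : IsPGroup p U) (hidx : ¬ p ∣ U.index) (hle : U ≤ P.B)
    (hnorm : ∀ b ∈ P.B, ∀ u ∈ U, b * u * b⁻¹ ∈ U)
    (hsplit : ∀ b ∈ P.B, ∃ u ∈ U, ∃ t ∈ P.B ⊓ P.N, b = u * t)
    (hO : ∃ n : G, U ⊓ U.map (MulAut.conj n).toMonoidHom = ⊥)
    (hR : ∀ s ∈ P.S, ∃ Ds : Subgroup G, Ds ≤ U ∧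
      (∀ x ∈ P.parabolic (P.S \ {s}), ∀ d ∈ Ds, x * d * x⁻¹ ∈ Ds) ∧
      (∀ x ∈ P.parabolic (P.S \ {s}), (∀ d ∈ Ds, x * d = d * x) → x ∈ P.B))
    {D : Subgroup G} (hDU : D ≤ U) (hGr : Cfsg.Agent.ChevBlk.GreenProp U D) : D = ⊥ ∨ D = U := by
  have h := lt3bn_split_of_data P U hU hidx hle hnorm hsplit
  refine lt4g_main' h hDU (lt4g_green_of_greenProp hGr) ?_ hR
  obtain ⟨n, hn⟩ := hO
  refine ⟨n, ?_⟩
  intro u hu hu'
  have : u ∈ U ⊓ U.map (MulAut.conj n).toMonoidHom := by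
    rw [Subgroup.mem_inf]
    refine ⟨hu, n⁻¹ * u * n, hu', ?_⟩
    simp only [MulEquiv.coe_toMonoidHom, MulAut.conj_apply]
    group
  rw [hn, Subgroup.mem_bot] at this
  exact this

end Cfsg.Agent.LT4
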