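import Mathlib
import Cfsg.Agent.Helper7.ChevTwF2
import Cfsg.Agent.Helper7.ChevTw11
import Cfsg.Agent.Helper7.ChevTw12

set_option autoImplicit false
set_option linter.unusedSectionVars false
set_option linter.unusedVariables false

/-!
S5012 (swarm LT4), twisted families `²E₆`, `³D₄` (route B), datum-generic ambient part
(helper5, after helper2's `LT4/F4Rad`, `LT4/F4Cen` for `²F₄`).

`lt4tw_R D K J` is the radical `U_J` in closure form; `B` and the `n_w` (`w` a word in `J`) normalise it;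
the key lemma `lt4tw_key`: if `n = n_w` maps the roots of a set `S ⊆ Φ_J⁺` to roots of `U_J` and `n b`
(`b ∈ B`) commutes with `n d n⁻¹`, `d ∈ X_S`, then `d = 1`.
-/

namespace Cfsg.Agent.LT4

open Cfsg Cfsg.Lie Matrix Cfsg.Agent.Helper7.Chev

section ambient

variable {D : ChevalleyDatum} {K : Type*} [Field K]

/-- the radical `U_J` in closure form -/
noncomputable def lt4tw_R (D : ChevalleyDatum) (K : Type*) [Field K] (J : Set ℕ) :
    Subgroup (GL D.Idx K) :=
  Subgroup.closure (rootGen D K (InRad D J))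

theorem lt4tw_R_le_pos (J : Set ℕ) : lt4tw_R D K J ≤ D.posUnipotent K := by
  unfold lt4tw_R
  rw [posUnipotent_eq]
  apply Subgroup.closure_mono
  rintro g ⟨r, t, hr, hg⟩
  exact ⟨r, t, hr.1, hg⟩

/-- root elements of roots of the radical lie in it -/
theorem lt4tw_rootGen_le_R {J : Set ℕ} {S : ℕ → Prop} (hS : ∀ r, S r → InRad D J r) :
    Subgroup.closure (rootGen D K S) ≤ lt4tw_R D K J := by
  unfold lt4tw_R
  apply Subgroup.closure_mono
  rintro g ⟨r, t, hr, hg⟩
  exact ⟨r, t, hS r hr, hg⟩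

variable (hG : Good2 D) (hT : T0 D) (h3 : (tabOf D).T3) (h4 : (tabOf D).T4 60)
  (h6 : (tabOf D).T6) (h14 : (tabOf D).T14) {W : List (List ℤ)} (h16 : (tabOf D).T16 W)

include hG hT h3 h4 h14 in
/-- `B` normalises `U_J`. -/
theorem lt4tw_borel_le_normalizer (J : Set ℕ) :
    D.borelSubgroup K ≤ Subgroup.normalizer (lt4tw_R D K J : Set (GL D.Idx K)) := by
  unfold ChevalleyDatum.borelSubgroup lt4tw_R
  refine sup_le ?_ ?_
  · exact posUnipotent_le_normalizer_rad hG hT h3 h4 h14 J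
  · exact diagonalSubgroup_le_normalizer hG (fun r hr => hr.1.1)

include hG hT h6 in
/-- `n_w` normalises `U_J` for a word `w` in `J`. -/
theorem lt4tw_nWord_mem_normalizer {J : Set ℕ} {w : List ℕ}
    (hw : ∀ i ∈ w, i < D.rank ∧ i ∈ J) :
    (nWordGL hG w : GL D.Idx K) ∈
      Subgroup.normalizer (lt4tw_R D K J : Set (GL D.Idx K)) := by
  have h := nWordGL_mem_normalizer_rad (K := K) hG hT h6 hw
  rw [upGenS_InJPos] at h
  exact h

include hG in
/-- conjugation by `n_w` maps `X_S` into `X_{w S}` -/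
theorem lt4tw_conj_rootGen_le {S S' : ℕ → Prop} {w : List ℕ} (hw : ∀ i ∈ w, i < D.rank)
    (hS : ∀ r, S r → r < D.nroots)
    (hmove : ∀ r, S r → S' ((tabOf D).reflWord w r)) :
    (Subgroup.closure (rootGen D K S)).map
      (MulAut.conj (nWordGL hG w : GL D.Idx K)).toMonoidHom ≤ Subgroup.closure (rootGen D K S') := by
  have hG1 := hG.toGood1
  rw [MonoidHom.map_closure, Subgroup.closure_le]
  rintro y ⟨x, ⟨s, t, hs, hx⟩, rfl⟩
  have hslt : s < D.nroots := hS s hs
  obtain ⟨ε, hε, h⟩ := nWordMat_mul_x (F := K) hG hw hslt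
  have hlt := reflWord_lt hG hw hslt
  have e : (MulAut.conj (nWordGL hG w : GL D.Idx K)).toMonoidHom x = xGL hG1 hlt (ε * t) := by
    change nWordGL hG w * x * (nWordGL hG w)⁻¹ = _
    rw [mul_inv_eq_iff_eq_mul]
    apply Units.ext
    rw [Units.val_mul, Units.val_mul, nWordGL_coe hG hw, hx, xGL_coe, h t]
  rw [SetLike.mem_coe, e]
  exact Subgroup.subset_closure ⟨_, ε * t, hmove s hs, xGL_coe hG1 hlt _⟩

include hG hT h3 h4 h14 h16 in
/-- the key step: `n b` does not centralise `n d n⁻¹` unless `d = 1` -/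
theorem lt4tw_key {J : Set ℕ} {S : ℕ → Prop} {w : List ℕ} (hw : ∀ i ∈ w, i < D.rank)
    (hSJ : ∀ r, S r → InJPos D J r)
    (hmove : ∀ r, S r → InRad D J ((tabOf D).reflWord w r))
    {b d : GL D.Idx K} (hb : b ∈ D.borelSubgroup K)
    (hd : d ∈ Subgroup.closure (rootGen D K S))
    (hc : (nWordGL hG w * b) * (nWordGL hG w * d * (nWordGL hG w)⁻¹) =
      (nWordGL hG w * d * (nWordGL hG w)⁻¹) * (nWordGL hG w * b)) : d = 1 := by
  set n : GL D.Idx K := nWordGL hG w with hn
  have h1 : n * d * n⁻¹ ∈ lt4tw_R D K J :=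
    lt4tw_conj_rootGen_le hG hw (fun r hr => (hSJ r hr).1.1) hmove ⟨d, hd, rfl⟩
  have h2 : n * d * n⁻¹ = b⁻¹ * d * b := by
    have e : n * d * n⁻¹ = b⁻¹ * n⁻¹ * ((n * b) * (n * d * n⁻¹)) := by group
    rw [e, hc]
    group
  rw [h2] at h1
  have hnorm := lt4tw_borel_le_normalizer (K := K) hG hT h3 h4 h14 J hb
  have h3' : d ∈ lt4tw_R D K J := by
    have := (Subgroup.mem_set_normalizer_iff.mp hnorm (b⁻¹ * d * b)).mp h1
    have e : b * (b⁻¹ * d * b) * b⁻¹ = d := by group
    rwa [e] at this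
  have h4' := rad_inf_XJ (K := K) hG hT h16 J
  rw [upGenS_InJPos] at h4'
  have hdJ : d ∈ Subgroup.closure (rootGen D K (InJPos D J)) := by
    refine (Subgroup.closure_mono ?_) hd
    rintro g ⟨r, t, hr, hg⟩
    exact ⟨r, t, hSJ r hr, hg⟩
  have : d ∈ Subgroup.closure (rootGen D K (InRad D J)) ⊓
      Subgroup.closure (rootGen D K (InJPos D J)) := ⟨h3', hdJ⟩
  rw [h4', Subgroup.mem_bot] at this
  exact this

end ambient

end Cfsg.Agent.LT4
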