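import Mathlib
import Cfsg.Agent.LT4.TwKey
import Cfsg.Agent.LT4.GenF
import Cfsg.Agent.Helper7.ChevTw9
import Cfsg.Agent.Helper7.ChevTwU3

set_option autoImplicit false
set_option linter.unusedSectionVars false
set_option linter.unusedVariables false

/-!
S5012 (swarm LT4), twisted families `²E₆`, `³D₄` (route B), datum-generic twisted layer (helper5).

For a twisted group `G¹ = twGroup` (helper7's development) with its `(B, N)`-pair, `U¹ = U ⊓ G¹` a Sylow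
`p`-subgroup, a word in the classes for the longest element, and for every ordered pair of distinct
classes `(c_s, c_t)` a *witness* (a class word `v` and a set `J'` of fundamental roots such that the
roots `v(α)`, `α` in the class `c_s`, are positive roots of `Φ_{J'}` outside `Φ_{S ∖ c_s}` which the
word of `c_t` moves out of `Φ_{J'}`), the Sylow subgroup `U¹` has no proper non-trivial subgroup with
Green's property (`lt4tw_noGreen`).
-/

namespace Cfsg.Agent.LT4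

open Cfsg Cfsg.Lie Matrix Cfsg.Agent.Helper7.Chev

/-- the fundamental roots outside the class `c` -/
def lt4tw_Jc (ρ : ℕ → ℕ) (c : ℕ × ℕ) : Set ℕ := {i | ∀ j < c.2, ρ^[j] c.1 ≠ i}

/-- the roots `v(α)`, `α` a fundamental root of the class `c`, `v` a word in the classes -/
def lt4tw_S (D : ChevalleyDatum) (ρ : ℕ → ℕ) (c : ℕ × ℕ) (v : List (ℕ × ℕ)) (r : ℕ) : Prop :=
  ∃ j < c.2, r = (tabOf D).reflWord (v.flatMap (clsWord ρ)) (D.simple (ρ^[j] c.1))

/-- the witness for the ordered pair of classes `(cs, ct)` -/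
def lt4tw_Wit (D : ChevalleyDatum) (ρ : ℕ → ℕ) (cls : List (ℕ × ℕ)) (cs ct : ℕ × ℕ) : Prop :=
  ∃ (v : List (ℕ × ℕ)) (J' : Set ℕ), (∀ c ∈ v, c ∈ cls) ∧
    ∀ r, lt4tw_S D ρ cs v r → InRad D (lt4tw_Jc ρ cs) r ∧ InJPos D J' r ∧
      InRad D J' ((tabOf D).reflWord (clsWord ρ ct) r)

section tw

variable {D : ChevalleyDatum} {K : Type*} [Field K]

variable (hG : Good2 D) (hT : T0 D) (h3 : (tabOf D).T3) (h4 : (tabOf D).T4 60) (h5 : (tabOf D).T5)
  (h6 : (tabOf D).T6) (h7 : (tabOf D).T7) (h8 : (tabOf D).T8) (h9 : (tabOf D).T9)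
  (h14 : (tabOf D).T14) {W : List (List ℤ)} (h16 : (tabOf D).T16 W)
  {ρ ρ' σ σ' : ℕ → ℕ} {ε : ℕ → ℤ} (h18 : T18 D ρ ρ' σ σ' ε) {cls : List (ℕ × ℕ)}
  (h19 : T19 D ρ σ cls) (h20 : (tabOf D).T20 ρ cls) (f : K ≃+* K)

/-- the class element `x_S(t)` lies in the group generated by the root elements of the class -/
theorem lt4tw_clsHom_upper_mem {c : ℕ × ℕ} (hc : c ∈ cls) (t : K) :
    clsHom hG h3 h4 h19 f hc (upperSL t) ∈
      Subgroup.closure (rootGen D K (lt4tw_S D ρ c [])) := by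
  have hG1 := hG.toGood1
  obtain ⟨_, _, hlt⟩ := h19.orbit c hc
  rw [clsHom_upper, xiHom_apply]
  apply Subgroup.list_prod_mem
  intro x hx
  rw [List.mem_map] at hx
  obtain ⟨j, hj, rfl⟩ := hx
  rw [List.mem_range] at hj
  have hp : clsRoot D ρ c.1 j < D.nroots := hG1.simple_lt (hlt j hj)
  rw [xGL'_of_lt hG1 hp]
  refine Subgroup.subset_closure ⟨_, _, ⟨j, hj, ?_⟩, xGL_coe hG1 hp _⟩
  rw [List.flatMap_nil]
  rfl

include hT h7 h8 h20 in
/-- the class element `x_S(1)` is not `1` -/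
theorem lt4tw_clsHom_upper_ne_one {c : ℕ × ℕ} (hc : c ∈ cls) :
    clsHom hG h3 h4 h19 f hc (upperSL 1) ≠ 1 := by
  intro h
  have h0 : clsHom hG h3 h4 h19 f hc (upperSL 0) = 1 := by
    have : (upperSL (0 : K)) = 1 := by
      apply Subtype.ext
      change !![1, (0 : K); 0, 1] = 1
      ext i j
      fin_cases i <;> fin_cases j <;> simp
    rw [this, map_one]
  have := clsHom_upper_injective hG hT h3 h4 h7 h8 h19 h20 f hc (h.trans h0.symm)
  exact one_ne_zero this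

/-- `U¹ = U ⊓ G¹` as a subgroup of `G¹` -/
noncomputable def lt4tw_U : Subgroup ↥(twGroup hG h3 h4 h19 f) :=
  (D.posUnipotent K ⊓ twGroup hG h3 h4 h19 f).subgroupOf (twGroup hG h3 h4 h19 f)

/-- `B¹ = B ⊓ G¹` as a subgroup of `G¹` -/
noncomputable def lt4tw_B : Subgroup ↥(twGroup hG h3 h4 h19 f) :=
  (D.borelSubgroup K ⊓ twGroup hG h3 h4 h19 f).subgroupOf (twGroup hG h3 h4 h19 f)

/-- `D_J = U_J ⊓ G¹` as a subgroup of `G¹` -/
noncomputable def lt4tw_D (J : Set ℕ) : Subgroup ↥(twGroup hG h3 h4 h19 f) :=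
  (lt4tw_R D K J ⊓ twGroup hG h3 h4 h19 f).subgroupOf (twGroup hG h3 h4 h19 f)

theorem lt4tw_mem_U {x : ↥(twGroup hG h3 h4 h19 f)} :
    x ∈ lt4tw_U hG h3 h4 h19 f ↔ (x : GL D.Idx K) ∈ D.posUnipotent K := by
  unfold lt4tw_U
  rw [Subgroup.mem_subgroupOf, Subgroup.mem_inf]
  exact ⟨fun h => h.1, fun h => ⟨h, x.2⟩⟩

theorem lt4tw_mem_B {x : ↥(twGroup hG h3 h4 h19 f)} :
    x ∈ lt4tw_B hG h3 h4 h19 f ↔ (x : GL D.Idx K) ∈ D.borelSubgroup K := by
  unfold lt4tw_B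
  rw [Subgroup.mem_subgroupOf, Subgroup.mem_inf]
  exact ⟨fun h => h.1, fun h => ⟨h, x.2⟩⟩

theorem lt4tw_mem_D {J : Set ℕ} {x : ↥(twGroup hG h3 h4 h19 f)} :
    x ∈ lt4tw_D hG h3 h4 h19 f J ↔ (x : GL D.Idx K) ∈ lt4tw_R D K J := by
  unfold lt4tw_D
  rw [Subgroup.mem_subgroupOf, Subgroup.mem_inf]
  exact ⟨fun h => h.1, fun h => ⟨h, x.2⟩⟩

theorem lt4tw_D_le_U (J : Set ℕ) : lt4tw_D hG h3 h4 h19 f J ≤ lt4tw_U hG h3 h4 h19 f := by
  intro x hx
  rw [lt4tw_mem_D] at hx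
  rw [lt4tw_mem_U]
  exact lt4tw_R_le_pos J hx

/-- an element of `G¹` whose matrix normalises `U_J` normalises `D_J` -/
theorem lt4tw_norm_D {J : Set ℕ} {n : ↥(twGroup hG h3 h4 h19 f)}
    (hn : (n : GL D.Idx K) ∈ Subgroup.normalizer (lt4tw_R D K J : Set (GL D.Idx K)))
    {d : ↥(twGroup hG h3 h4 h19 f)} (hd : d ∈ lt4tw_D hG h3 h4 h19 f J) :
    n * d * n⁻¹ ∈ lt4tw_D hG h3 h4 h19 f J := by
  rw [lt4tw_mem_D] at hd ⊢
  have := (Subgroup.mem_set_normalizer_iff.mp hn (d : GL D.Idx K)).mp hd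
  simpa using this

include hT h5 h6 h7 h8 h9 h14 h16 h18 h20 in
/-- **The twisted groups, route (B)**: with `U¹` a Sylow `p`-subgroup, a class word for the longest
element and a witness for every ordered pair of distinct classes, `U¹` has no proper non-trivial
subgroup with Green's property. -/
theorem lt4tw_noGreen (p : ℕ) [hp : Fact p.Prime] [Finite ↥(twGroup hG h3 h4 h19 f)]
    (hsyl : IsPGroup p ↥(lt4tw_U hG h3 h4 h19 f) ∧ ¬ p ∣ (lt4tw_U hG h3 h4 h19 f).index)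
    {wcls : List (ℕ × ℕ)} (hwc : ∀ c ∈ wcls, c ∈ cls)
    (hw0 : (tabOf D).W0ok (wcls.flatMap (clsWord ρ)))
    (hdisj : ∀ cs ∈ cls, ∀ ct ∈ cls, cs ≠ ct → ∀ i ∈ clsWord ρ ct, i ∈ lt4tw_Jc ρ cs)
    (hwit : ∀ cs ∈ cls, ∀ ct ∈ cls, cs ≠ ct → lt4tw_Wit D ρ cls cs ct)
    (Dg : Subgroup ↥(twGroup hG h3 h4 h19 f)) (hDU : Dg ≤ lt4tw_U hG h3 h4 h19 f)
    (hGr : Cfsg.Agent.ChevBlk.GreenProp (lt4tw_U hG h3 h4 h19 f) Dg) :
    Dg = ⊥ ∨ Dg = lt4tw_U hG h3 h4 h19 f := by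
  have hG1 := hG.toGood1
  obtain ⟨P, hB, hN, hS⟩ := exists_bnPair_tw hG hT h3 h4 h5 h6 h7 h8 h9 h18 h19 h20 f
  have hBeq := borel_inf_twGroup hG hT h3 h4 h5 h6 h7 h8 h9 h18 h19 h20 f
  have hB' : P.B = lt4tw_B hG h3 h4 h19 f := hB
  -- the elements of `S`
  have hScls : ∀ s ∈ P.S, ∃ (c : ℕ × ℕ) (hc : c ∈ cls),
      (s : GL D.Idx K) = nWordGL hG (clsWord ρ c) := by
    intro s hs
    rw [hS] at hs
    obtain ⟨c, hc, e⟩ := hs
    exact ⟨c, hc, e.trans (clsHom_anti hG h3 h4 h19 f hc)⟩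
  -- normalisation of `D_J` by the elements of `S` of the other classes
  have hnormS : ∀ (cs : ℕ × ℕ), cs ∈ cls → ∀ (ct : ℕ × ℕ), ct ∈ cls → cs ≠ ct →
      ∀ t : ↥(twGroup hG h3 h4 h19 f), (t : GL D.Idx K) = nWordGL hG (clsWord ρ ct) →
      ∀ d ∈ lt4tw_D hG h3 h4 h19 f (lt4tw_Jc ρ cs), t * d * t⁻¹ ∈
        lt4tw_D hG h3 h4 h19 f (lt4tw_Jc ρ cs) := by
    intro cs hcs ct hct hne t ht d hd
    apply lt4tw_norm_D hG h3 h4 h19 f _ hd
    rw [ht]
    exact lt4tw_nWord_mem_normalizer hG hT h6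
      (fun i hi => ⟨clsWord_lt h19 hct i hi, hdisj cs hcs ct hct hne i hi⟩)
  refine lt4bn_noGreen (p := p) P (lt4tw_U hG h3 h4 h19 f) hsyl.1 hsyl.2 ?_ ?_ ?_ ?_ ?_ hDU hGr
  · -- `U ≤ B`
    rw [hB']
    intro x hx
    rw [lt4tw_mem_U] at hx
    rw [lt4tw_mem_B]
    exact (le_sup_left : D.posUnipotent K ≤ D.borelSubgroup K) hx
  · -- `B` normalises `U`
    intro b hb u hu
    rw [hB, Subgroup.mem_subgroupOf, hBeq] at hb
    unfold lt4tw_U at hu ⊢
    rw [Subgroup.mem_subgroupOf] at hu ⊢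
    have hnorm : twB hG h3 h4 h19 f ≤
        Subgroup.normalizer (twU hG h3 h4 h19 f : Set (GL D.Idx K)) :=
      sup_le Subgroup.le_normalizer (twH_le_normalizer hG h3 h4 h19 f)
    have h1 := (Subgroup.mem_set_normalizer_iff.mp (hnorm hb) (u : GL D.Idx K)).mp hu
    have h2 : ((b * u * b⁻¹ : ↥(twGroup hG h3 h4 h19 f)) : GL D.Idx K) =
        (b : GL D.Idx K) * (u : GL D.Idx K) * (b : GL D.Idx K)⁻¹ := by
      push_cast
      rfl
    rw [h2]
    exact h1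
  · -- `B = U (B ⊓ N)`
    intro b hb
    rw [hB, Subgroup.mem_subgroupOf, hBeq] at hb
    obtain ⟨u, hu, h, hh, e⟩ := twB_decomp hG h3 h4 h19 f hb
    have huG : u ∈ twGroup hG h3 h4 h19 f := ((mem_twU hG h3 h4 h19 f).mp hu).2
    have hhG : h ∈ twGroup hG h3 h4 h19 f := ((mem_twH hG h3 h4 h19 f).mp hh).2
    refine ⟨⟨u, huG⟩, ?_, ⟨h, hhG⟩, ?_, ?_⟩
    · unfold lt4tw_U
      rw [Subgroup.mem_subgroupOf]
      exact hu
    · rw [Subgroup.mem_inf, hB, hN, Subgroup.mem_subgroupOf, Subgroup.mem_subgroupOf]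
      refine ⟨Subgroup.mem_inf.mpr ⟨Subgroup.mem_sup_right ((mem_twH hG h3 h4 h19 f).mp hh).1, hhG⟩, ?_⟩
      exact twH_le_twN hG h3 h4 h19 f hh
    · apply Subtype.ext
      rw [Subgroup.coe_mul]
      exact e
  · -- (O)
    refine ⟨⟨nWordGL hG (wcls.flatMap (clsWord ρ)), nWordGL_flatMap_mem hG h3 h4 h19 f hwc⟩, ?_⟩
    rw [eq_bot_iff]
    rintro x ⟨hx1, u, hu, hxu⟩
    have hx1' : x ∈ lt4tw_U hG h3 h4 h19 f := hx1
    have hu' : u ∈ lt4tw_U hG h3 h4 h19 f := hu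
    rw [lt4tw_mem_U] at hx1' hu'
    rw [Subgroup.mem_bot]
    have hconj := nWordGL_conj_pos_eq_neg (K := K) hG hT hw0
    have hmem : (x : GL D.Idx K) ∈ D.borelSubgroup K ⊓ D.negUnipotent K := by
      refine ⟨(le_sup_left : D.posUnipotent K ≤ D.borelSubgroup K) hx1', ?_⟩
      rw [← hconj]
      refine ⟨_, hu', ?_⟩
      rw [← hxu]
      rfl
    rw [borel_inf_negUnipotent (F := K) hG hT, Subgroup.mem_bot] at hmem
    exact Subtype.ext hmem
  · -- (R+)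
    intro s hs
    obtain ⟨cs, hcs, hse⟩ := hScls s hs
    refine ⟨lt4tw_D hG h3 h4 h19 f (lt4tw_Jc ρ cs), lt4tw_D_le_U hG h3 h4 h19 f _, ?_, ?_, ?_⟩
    · intro b hb d hd
      rw [hB', lt4tw_mem_B] at hb
      exact lt4tw_norm_D hG h3 h4 h19 f
        (lt4tw_borel_le_normalizer (K := K) hG hT h3 h4 h14 _ hb) hd
    · intro t ht hts d hd
      obtain ⟨ct, hct, hte⟩ := hScls t ht
      have hne : cs ≠ ct := by
        rintro rfl
        exact hts (Subtype.ext (hte.trans hse.symm))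
      exact hnormS cs hcs ct hct hne t hte d hd
    · intro t ht hts b hb hcen
      obtain ⟨ct, hct, hte⟩ := hScls t ht
      have hne : cs ≠ ct := by
        rintro rfl
        exact hts (Subtype.ext (hte.trans hse.symm))
      rw [hB', lt4tw_mem_B] at hb
      obtain ⟨v, J', hv, hw⟩ := hwit cs hcs ct hct hne
      have hvlt : ∀ i ∈ v.flatMap (clsWord ρ), i < D.rank := flatMap_clsWord_lt h19 hv
      set nv : ↥(twGroup hG h3 h4 h19 f) :=
        ⟨nWordGL hG (v.flatMap (clsWord ρ)), nWordGL_flatMap_mem hG h3 h4 h19 f hv⟩ with hnv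
      set d0 : ↥(twGroup hG h3 h4 h19 f) :=
        ⟨clsHom hG h3 h4 h19 f hcs (upperSL 1), upper_mem_twGroup hG h3 h4 h19 f hcs Adm.one⟩
        with hd0
      -- `d = n_v d₀ n_v⁻¹`
      have hdS : ((nv * d0 * nv⁻¹ : ↥(twGroup hG h3 h4 h19 f)) : GL D.Idx K) ∈
          Subgroup.closure (rootGen D K (lt4tw_S D ρ cs v)) := by
        have hle := lt4tw_conj_rootGen_le (K := K) hG (S := lt4tw_S D ρ cs [])
          (S' := lt4tw_S D ρ cs v) hvlt
          (by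
            rintro r ⟨j, hj, rfl⟩
            rw [List.flatMap_nil]
            exact hG1.simple_lt ((h19.orbit cs hcs).2.2 j hj))
          (by
            rintro r ⟨j, hj, rfl⟩
            refine ⟨j, hj, ?_⟩
            rw [List.flatMap_nil]
            rfl)
        apply hle
        refine ⟨(d0 : GL D.Idx K), lt4tw_clsHom_upper_mem hG h3 h4 h19 f hcs 1, ?_⟩
        rfl
      have hdD : nv * d0 * nv⁻¹ ∈ lt4tw_D hG h3 h4 h19 f (lt4tw_Jc ρ cs) := by
        rw [lt4tw_mem_D]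
        exact lt4tw_rootGen_le_R (fun r hr => (hw r hr).1) hdS
      have hxD := hnormS cs hcs ct hct hne t hte _ hdD
      have h := hcen _ hxD
      have h' := congrArg (Subtype.val : ↥(twGroup hG h3 h4 h19 f) → GL D.Idx K) h
      have key := lt4tw_key (K := K) hG hT h3 h4 h14 h16 (clsWord_lt h19 hct)
        (fun r hr => (hw r hr).2.1) (fun r hr => (hw r hr).2.2) hb hdS
        (by
          rw [← hte]
          simpa using h')
      have hd1 : (d0 : GL D.Idx K) = 1 := by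
        have e : ((nv * d0 * nv⁻¹ : ↥(twGroup hG h3 h4 h19 f)) : GL D.Idx K) =
            (nv : GL D.Idx K) * (d0 : GL D.Idx K) * (nv : GL D.Idx K)⁻¹ := by
          push_cast
          rfl
        rw [e] at key
        have : (d0 : GL D.Idx K) = (nv : GL D.Idx K)⁻¹ * ((nv : GL D.Idx K) * (d0 : GL D.Idx K) *
            (nv : GL D.Idx K)⁻¹) * (nv : GL D.Idx K) := by group
        rw [this, key]
        group
      exact lt4tw_clsHom_upper_ne_one hG hT h3 h4 h7 h8 h19 h20 f hcs hd1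

end tw

end Cfsg.Agent.LT4
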