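import Mathlib
import Cfsg.Agent.LT4.TwGen

set_option autoImplicit false

/-!
S5012 (swarm LT4), twisted families (route B): decidability of the root predicates `InRootSub`, `InRad`,
`InJPos` for decidable sets of fundamental roots, so that the witnesses `lt4tw_Wit` of `LT4/TwGen` can be
checked by `decide`.
-/

namespace Cfsg.Agent.LT4

open Cfsg Cfsg.Lie Matrix Cfsg.Agent.Helper7.Chev

instance lt4tw_decInRootSub (D : ChevalleyDatum) (J : Set ℕ) [DecidablePred (· ∈ J)] (r : ℕ) :
    Decidable (D.InRootSub J r) := by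
  unfold ChevalleyDatum.InRootSub
  infer_instance

instance lt4tw_decInRad (D : ChevalleyDatum) (J : Set ℕ) [DecidablePred (· ∈ J)] (r : ℕ) :
    Decidable (InRad D J r) := by
  unfold InRad
  infer_instance

instance lt4tw_decInJPos (D : ChevalleyDatum) (J : Set ℕ) [DecidablePred (· ∈ J)] (r : ℕ) :
    Decidable (InJPos D J r) := by
  unfold InJPos
  infer_instance

instance lt4tw_decJc (ρ : ℕ → ℕ) (c : ℕ × ℕ) : DecidablePred (· ∈ lt4tw_Jc ρ c) := by
  intro i
  change Decidable (∀ j < c.2, ρ^[j] c.1 ≠ i)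
  infer_instance

/-- the set of the entries of a list, with decidable membership -/
def lt4tw_JL (L : List ℕ) : Set ℕ := {i | i ∈ L}

instance lt4tw_decJL (L : List ℕ) : DecidablePred (· ∈ lt4tw_JL L) := by
  intro i
  change Decidable (i ∈ L)
  infer_instance

/-- the three conditions of a witness on one root, for the tables of `D` -/
def lt4tw_WitRoot (D : ChevalleyDatum) (ρ : ℕ → ℕ) (cs ct : ℕ × ℕ) (L : List ℕ) (r : ℕ) : Prop :=
  InRad D (lt4tw_Jc ρ cs) r ∧ InJPos D (lt4tw_JL L) r ∧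
    InRad D (lt4tw_JL L) ((tabOf D).reflWord (clsWord ρ ct) r)

/-- a witness from the list form: `v` a class word, `L` a list of fundamental roots -/
theorem lt4tw_wit_of_list {D : ChevalleyDatum} {ρ : ℕ → ℕ} {cls : List (ℕ × ℕ)} {cs ct : ℕ × ℕ}
    (v : List (ℕ × ℕ)) (L : List ℕ) (hv : ∀ c ∈ v, c ∈ cls)
    (h : ∀ j < cs.2, lt4tw_WitRoot D ρ cs ct L
      ((tabOf D).reflWord (v.flatMap (clsWord ρ)) (D.simple (ρ^[j] cs.1)))) :
    lt4tw_Wit D ρ cls cs ct := by
  refine ⟨v, lt4tw_JL L, hv, ?_⟩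
  rintro r ⟨j, hj, rfl⟩
  exact h j hj

end Cfsg.Agent.LT4
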