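import Mathlib
import Cfsg.Agent.LT4.TwDec
import Cfsg.Agent.Helper7.ChevTwD4
import Cfsg.Agent.Helper7.ChevT14
import Cfsg.Agent.Helper7.ChevT16
import Cfsg.Agent.LT3.TwE6D4Syl

set_option autoImplicit false
set_option linter.unusedSectionVars false
set_option linter.unusedVariables false

/-!
S5012 (swarm LT4), family `³D₄(q)` (route B, helper5): the Sylow `p`-subgroup `U¹` of `³D₄(q)` has no
proper non-trivial subgroup with Green's property (`lt4tw_noGreen` of `LT4/TwGen` on the tables of `D₄`).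
-/

namespace Cfsg.Agent.LT4

open Cfsg Cfsg.Lie Matrix Cfsg.Agent.Helper7.Chev Cfsg.Agent.LT3

theorem lt4_d4_disj : ∀ cs ∈ clsD4, ∀ ct ∈ clsD4, cs ≠ ct →
    ∀ i ∈ clsWord (fun i => [2, 1, 3, 0].getD i 0) ct,
      i ∈ lt4tw_Jc (fun i => [2, 1, 3, 0].getD i 0) cs := by
  decide

theorem lt4_d4_wit1_fast : ∀ j < 1, lt4tw_WitRoot chevD4 (fun i => [2, 1, 3, 0].getD i 0) (1, 1) (0, 3) [1]
    (fastD4.reflWord (([] : List (ℕ × ℕ)).flatMap (clsWord (fun i => [2, 1, 3, 0].getD i 0)))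
      (chevD4.simple ((fun i => [2, 1, 3, 0].getD i 0)^[j] 1))) := by
  unfold lt4tw_WitRoot
  rw [tab_D4]
  decide +kernel

theorem lt4_d4_wit2_fast : ∀ j < 3, lt4tw_WitRoot chevD4 (fun i => [2, 1, 3, 0].getD i 0) (0, 3) (1, 1)
    [0, 2, 3]
    (fastD4.reflWord (([] : List (ℕ × ℕ)).flatMap (clsWord (fun i => [2, 1, 3, 0].getD i 0)))
      (chevD4.simple ((fun i => [2, 1, 3, 0].getD i 0)^[j] 0))) := by
  unfold lt4tw_WitRoot
  rw [tab_D4]
  decide +kernel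

theorem lt4_d4_wit : ∀ cs ∈ clsD4, ∀ ct ∈ clsD4, cs ≠ ct →
    lt4tw_Wit chevD4 (fun i => [2, 1, 3, 0].getD i 0) clsD4 cs ct := by
  intro cs hcs ct hct hne
  simp only [clsD4, List.mem_cons, List.not_mem_nil, or_false] at hcs hct
  rcases hcs with rfl | rfl <;> rcases hct with rfl | rfl
  · exact absurd rfl hne
  · refine lt4tw_wit_of_list [] [1] (by simp) ?_
    rw [tab_D4]
    exact lt4_d4_wit1_fast
  · refine lt4tw_wit_of_list [] [0, 2, 3] (by simp) ?_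
    rw [tab_D4]
    exact lt4_d4_wit2_fast
  · exact absurd rfl hne

/-- **`³D₄(q)`, assembly-ready**: a Sylow `p`-subgroup `U` of `³D₄(q)` without proper non-trivial
subgroups with Green's property. -/
theorem lt4_d4_noGreen {K : Type*} [Field K] [Fintype K] {q : ℕ} (hq : IsPrimePow q)
    (hK : Fintype.card K = q ^ 3) (p : ℕ) [hp : Fact p.Prime] [CharP K p] :
    ∃ U : Subgroup ↥(twistedD4 K q), IsPGroup p U ∧ ¬ p ∣ U.index ∧
      ∀ Dg : Subgroup ↥(twistedD4 K q), Dg ≤ U →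
        Cfsg.Agent.ChevBlk.GreenProp U Dg → Dg = ⊥ ∨ Dg = U := by
  classical
  have hsyl := lt3_d4_syl p hq hK
  obtain ⟨f, hf, hf3, e⟩ := twistedD4_eq hq hK
  rw [e] at hsyl ⊢
  refine ⟨lt4tw_U good2_D4 T3_D4 T4_D4 T19_D4 f, hsyl.1, hsyl.2, ?_⟩
  intro Dg hDU hGr
  exact lt4tw_noGreen good2_D4 T0_D4 T3_D4 T4_D4 T5_D4 T6_D4 T7_D4 T8_D4 T9_D4 T14_D4 T16_D4
    T18_D4a T19_D4 T20_D4 f p hsyl w0clsD4_mem W0cls_D4 lt4_d4_disj lt4_d4_wit Dg hDU hGr

end Cfsg.Agent.LT4
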