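import Mathlib
import Cfsg.Agent.LT4.TwDec
import Cfsg.Agent.Helper7.ChevTwE6
import Cfsg.Agent.Helper7.ChevT14
import Cfsg.Agent.Helper7.ChevT16
import Cfsg.Agent.LT3.TwE6D4Syl

set_option autoImplicit false
set_option linter.unusedSectionVars false
set_option linter.unusedVariables false

/-!
S5012 (swarm LT4), family `²E₆(q)` (route B, helper5): the Sylow `p`-subgroup `U¹` of `²E₆(q)` has no
proper non-trivial subgroup with Green's property (`lt4tw_noGreen` of `LT4/TwGen` on the tables of `E₆`).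
The classes are `a = (1,1)` (`α₂`), `b = (3,1)` (`α₄`), `c = (2,2)` (`α₃, α₅`), `d = (0,2)` (`α₁, α₆`),
twisted diagram `a – b ⇒ c – d`; for a non-adjacent ordered pair the witness is the class element of the
first class conjugated along the path towards the second.
-/

namespace Cfsg.Agent.LT4

open Cfsg Cfsg.Lie Matrix Cfsg.Agent.Helper7.Chev Cfsg.Agent.LT3

theorem lt4_e6_disj : ∀ cs ∈ clsE6, ∀ ct ∈ clsE6, cs ≠ ct →
    ∀ i ∈ clsWord (fun i => [5, 1, 4, 3, 2, 0].getD i 0) ct, i ∈ lt4tw_Jc (fun i => [5, 1, 4, 3, 2, 0].getD i 0) cs := by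
  decide

set_option maxRecDepth 100000 in
theorem lt4_e6_wit_ab_fast : ∀ j < 1, lt4tw_WitRoot chevE6 (fun i => [5, 1, 4, 3, 2, 0].getD i 0) (1, 1) (3, 1) [1]
    (fastE6.reflWord (([] : List (ℕ × ℕ)).flatMap (clsWord (fun i => [5, 1, 4, 3, 2, 0].getD i 0)))
      (chevE6.simple ((fun i => [5, 1, 4, 3, 2, 0].getD i 0)^[j] 1))) := by
  unfold lt4tw_WitRoot
  rw [tab_E6]
  decide +kernel

set_option maxRecDepth 100000 in
theorem lt4_e6_wit_ba_fast : ∀ j < 1, lt4tw_WitRoot chevE6 (fun i => [5, 1, 4, 3, 2, 0].getD i 0) (3, 1) (1, 1) [3]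
    (fastE6.reflWord (([] : List (ℕ × ℕ)).flatMap (clsWord (fun i => [5, 1, 4, 3, 2, 0].getD i 0)))
      (chevE6.simple ((fun i => [5, 1, 4, 3, 2, 0].getD i 0)^[j] 3))) := by
  unfold lt4tw_WitRoot
  rw [tab_E6]
  decide +kernel

set_option maxRecDepth 100000 in
theorem lt4_e6_wit_bc_fast : ∀ j < 1, lt4tw_WitRoot chevE6 (fun i => [5, 1, 4, 3, 2, 0].getD i 0) (3, 1) (2, 2) [3]
    (fastE6.reflWord (([] : List (ℕ × ℕ)).flatMap (clsWord (fun i => [5, 1, 4, 3, 2, 0].getD i 0)))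
      (chevE6.simple ((fun i => [5, 1, 4, 3, 2, 0].getD i 0)^[j] 3))) := by
  unfold lt4tw_WitRoot
  rw [tab_E6]
  decide +kernel

set_option maxRecDepth 100000 in
theorem lt4_e6_wit_cb_fast : ∀ j < 2, lt4tw_WitRoot chevE6 (fun i => [5, 1, 4, 3, 2, 0].getD i 0) (2, 2) (3, 1) [2, 4]
    (fastE6.reflWord (([] : List (ℕ × ℕ)).flatMap (clsWord (fun i => [5, 1, 4, 3, 2, 0].getD i 0)))
      (chevE6.simple ((fun i => [5, 1, 4, 3, 2, 0].getD i 0)^[j] 2))) := by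
  unfold lt4tw_WitRoot
  rw [tab_E6]
  decide +kernel

set_option maxRecDepth 100000 in
theorem lt4_e6_wit_cd_fast : ∀ j < 2, lt4tw_WitRoot chevE6 (fun i => [5, 1, 4, 3, 2, 0].getD i 0) (2, 2) (0, 2) [2, 4]
    (fastE6.reflWord (([] : List (ℕ × ℕ)).flatMap (clsWord (fun i => [5, 1, 4, 3, 2, 0].getD i 0)))
      (chevE6.simple ((fun i => [5, 1, 4, 3, 2, 0].getD i 0)^[j] 2))) := by
  unfold lt4tw_WitRoot
  rw [tab_E6]
  decide +kernel

set_option maxRecDepth 100000 in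
theorem lt4_e6_wit_dc_fast : ∀ j < 2, lt4tw_WitRoot chevE6 (fun i => [5, 1, 4, 3, 2, 0].getD i 0) (0, 2) (2, 2) [0, 5]
    (fastE6.reflWord (([] : List (ℕ × ℕ)).flatMap (clsWord (fun i => [5, 1, 4, 3, 2, 0].getD i 0)))
      (chevE6.simple ((fun i => [5, 1, 4, 3, 2, 0].getD i 0)^[j] 0))) := by
  unfold lt4tw_WitRoot
  rw [tab_E6]
  decide +kernel

set_option maxRecDepth 100000 in
theorem lt4_e6_wit_ac_fast : ∀ j < 1, lt4tw_WitRoot chevE6 (fun i => [5, 1, 4, 3, 2, 0].getD i 0) (1, 1) (2, 2) [1, 3]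
    (fastE6.reflWord (([(3, 1)] : List (ℕ × ℕ)).flatMap (clsWord (fun i => [5, 1, 4, 3, 2, 0].getD i 0)))
      (chevE6.simple ((fun i => [5, 1, 4, 3, 2, 0].getD i 0)^[j] 1))) := by
  unfold lt4tw_WitRoot
  rw [tab_E6]
  decide +kernel

set_option maxRecDepth 100000 in
theorem lt4_e6_wit_ca_fast : ∀ j < 2, lt4tw_WitRoot chevE6 (fun i => [5, 1, 4, 3, 2, 0].getD i 0) (2, 2) (1, 1) [2, 4, 3]
    (fastE6.reflWord (([(3, 1)] : List (ℕ × ℕ)).flatMap (clsWord (fun i => [5, 1, 4, 3, 2, 0].getD i 0)))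
      (chevE6.simple ((fun i => [5, 1, 4, 3, 2, 0].getD i 0)^[j] 2))) := by
  unfold lt4tw_WitRoot
  rw [tab_E6]
  decide +kernel

set_option maxRecDepth 100000 in
theorem lt4_e6_wit_bd_fast : ∀ j < 1, lt4tw_WitRoot chevE6 (fun i => [5, 1, 4, 3, 2, 0].getD i 0) (3, 1) (0, 2) [3, 2, 4]
    (fastE6.reflWord (([(2, 2)] : List (ℕ × ℕ)).flatMap (clsWord (fun i => [5, 1, 4, 3, 2, 0].getD i 0)))
      (chevE6.simple ((fun i => [5, 1, 4, 3, 2, 0].getD i 0)^[j] 3))) := by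
  unfold lt4tw_WitRoot
  rw [tab_E6]
  decide +kernel

set_option maxRecDepth 100000 in
theorem lt4_e6_wit_db_fast : ∀ j < 2, lt4tw_WitRoot chevE6 (fun i => [5, 1, 4, 3, 2, 0].getD i 0) (0, 2) (3, 1) [0, 5, 2, 4]
    (fastE6.reflWord (([(2, 2)] : List (ℕ × ℕ)).flatMap (clsWord (fun i => [5, 1, 4, 3, 2, 0].getD i 0)))
      (chevE6.simple ((fun i => [5, 1, 4, 3, 2, 0].getD i 0)^[j] 0))) := by
  unfold lt4tw_WitRoot
  rw [tab_E6]
  decide +kernel

set_option maxRecDepth 100000 in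
theorem lt4_e6_wit_ad_fast : ∀ j < 1, lt4tw_WitRoot chevE6 (fun i => [5, 1, 4, 3, 2, 0].getD i 0) (1, 1) (0, 2) [1, 3, 2, 4]
    (fastE6.reflWord (([(2, 2), (3, 1)] : List (ℕ × ℕ)).flatMap (clsWord (fun i => [5, 1, 4, 3, 2, 0].getD i 0)))
      (chevE6.simple ((fun i => [5, 1, 4, 3, 2, 0].getD i 0)^[j] 1))) := by
  unfold lt4tw_WitRoot
  rw [tab_E6]
  decide +kernel

set_option maxRecDepth 100000 in
theorem lt4_e6_wit_da_fast : ∀ j < 2, lt4tw_WitRoot chevE6 (fun i => [5, 1, 4, 3, 2, 0].getD i 0) (0, 2) (1, 1) [0, 5, 2, 4, 3]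
    (fastE6.reflWord (([(3, 1), (2, 2)] : List (ℕ × ℕ)).flatMap (clsWord (fun i => [5, 1, 4, 3, 2, 0].getD i 0)))
      (chevE6.simple ((fun i => [5, 1, 4, 3, 2, 0].getD i 0)^[j] 0))) := by
  unfold lt4tw_WitRoot
  rw [tab_E6]
  decide +kernel

theorem lt4_e6_wit : ∀ cs ∈ clsE6, ∀ ct ∈ clsE6, cs ≠ ct →
    lt4tw_Wit chevE6 (fun i => [5, 1, 4, 3, 2, 0].getD i 0) clsE6 cs ct := by
  intro cs hcs ct hct hne
  simp only [clsE6, List.mem_cons, List.not_mem_nil, or_false] at hcs hct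
  rcases hcs with rfl | rfl | rfl | rfl <;> rcases hct with rfl | rfl | rfl | rfl

  · exact absurd rfl hne

  · refine lt4tw_wit_of_list [] [1] (by decide) ?_
    rw [tab_E6]
    exact lt4_e6_wit_ab_fast

  · refine lt4tw_wit_of_list [(2, 2), (3, 1)] [1, 3, 2, 4] (by decide) ?_
    rw [tab_E6]
    exact lt4_e6_wit_ad_fast

  · refine lt4tw_wit_of_list [(3, 1)] [1, 3] (by decide) ?_
    rw [tab_E6]
    exact lt4_e6_wit_ac_fast

  · refine lt4tw_wit_of_list [] [3] (by decide) ?_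
    rw [tab_E6]
    exact lt4_e6_wit_ba_fast

  · exact absurd rfl hne

  · refine lt4tw_wit_of_list [(2, 2)] [3, 2, 4] (by decide) ?_
    rw [tab_E6]
    exact lt4_e6_wit_bd_fast

  · refine lt4tw_wit_of_list [] [3] (by decide) ?_
    rw [tab_E6]
    exact lt4_e6_wit_bc_fast

  · refine lt4tw_wit_of_list [(3, 1), (2, 2)] [0, 5, 2, 4, 3] (by decide) ?_
    rw [tab_E6]
    exact lt4_e6_wit_da_fast

  · refine lt4tw_wit_of_list [(2, 2)] [0, 5, 2, 4] (by decide) ?_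
    rw [tab_E6]
    exact lt4_e6_wit_db_fast

  · exact absurd rfl hne

  · refine lt4tw_wit_of_list [] [0, 5] (by decide) ?_
    rw [tab_E6]
    exact lt4_e6_wit_dc_fast

  · refine lt4tw_wit_of_list [(3, 1)] [2, 4, 3] (by decide) ?_
    rw [tab_E6]
    exact lt4_e6_wit_ca_fast

  · refine lt4tw_wit_of_list [] [2, 4] (by decide) ?_
    rw [tab_E6]
    exact lt4_e6_wit_cb_fast

  · refine lt4tw_wit_of_list [] [2, 4] (by decide) ?_
    rw [tab_E6]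
    exact lt4_e6_wit_cd_fast

  · exact absurd rfl hne


/-- **`²E₆(q)`, assembly-ready**: a Sylow `p`-subgroup `U` of `²E₆(q)` without proper non-trivial
subgroups with Green's property. -/
theorem lt4_e6_noGreen {K : Type*} [Field K] [Fintype K] {q : ℕ} (hq : IsPrimePow q)
    (hK : Fintype.card K = q ^ 2) (p : ℕ) [hp : Fact p.Prime] [CharP K p] :
    ∃ U : Subgroup ↥(twistedE6 K q), IsPGroup p U ∧ ¬ p ∣ U.index ∧
      ∀ Dg : Subgroup ↥(twistedE6 K q), Dg ≤ U →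
        Cfsg.Agent.ChevBlk.GreenProp U Dg → Dg = ⊥ ∨ Dg = U := by
  classical
  have hsyl := lt3_e6_syl p hq hK
  obtain ⟨f, hf, hf2, e⟩ := twistedE6_eq hq hK
  rw [e] at hsyl ⊢
  refine ⟨lt4tw_U good2_E6 T3_E6 T4_E6 T19_E6 f, hsyl.1, hsyl.2, ?_⟩
  intro Dg hDU hGr
  exact lt4tw_noGreen good2_E6 T0_E6 T3_E6 T4_E6 T5_E6 T6_E6 T7_E6 T8_E6 T9_E6 T14_E6 T16_E6
    T18_E6 T19_E6 T20_E6 f p hsyl w0clsE6_mem W0cls_E6 lt4_e6_disj lt4_e6_wit Dg hDU hGr

end Cfsg.Agent.LT4
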