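import Mathlib
import Cfsg.Prelude.Def_LieTypeChar
import Cfsg.Agent.LT4.D4tw
import Cfsg.Agent.LT4.E6tw
import Cfsg.Agent.LT4.NoGreen

set_option autoImplicit false
set_option linter.unusedSectionVars false
set_option linter.unusedVariables false

/-!
S5012 (swarm LT4), families `²E₆`, `³D₄`, assembly-ready (helper5): every `p`-block of a group isomorphic
to `²E₆(q)` or `³D₄(q)` (`q` a power of `p`) has defect `0` or full defect.
-/

namespace Cfsg.Agent.LT4

open Cfsg Cfsg.Lie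

/-- `²E₆(q)` itself -/
theorem lt4_e6 {K : Type*} [Field K] [Fintype K] {q : ℕ} (hq : IsPrimePow q)
    (hK : Fintype.card K = q ^ 2) (p : ℕ) [hp : Fact p.Prime] [CharP K p] :
    lt4_P p ↥(twistedE6 K q) := by
  classical
  obtain ⟨U, hU, hidx, h⟩ := lt4_e6_noGreen hq hK p
  refine lt4_defect_of_noGreen p (hU.toSylow hidx) (fun D hD h1 h2 hGr => ?_)
  rw [IsPGroup.toSylow_coe] at hD h2 hGr
  rcases h D hD hGr with h' | h'
  · exact h1 h'
  · exact h2 h'

/-- `³D₄(q)` itself -/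
theorem lt4_d4 {K : Type*} [Field K] [Fintype K] {q : ℕ} (hq : IsPrimePow q)
    (hK : Fintype.card K = q ^ 3) (p : ℕ) [hp : Fact p.Prime] [CharP K p] :
    lt4_P p ↥(twistedD4 K q) := by
  classical
  obtain ⟨U, hU, hidx, h⟩ := lt4_d4_noGreen hq hK p
  refine lt4_defect_of_noGreen p (hU.toSylow hidx) (fun D hD h1 h2 hGr => ?_)
  rw [IsPGroup.toSylow_coe] at hD h2 hGr
  rcases h D hD hGr with h' | h'
  · exact h1 h'
  · exact h2 h'

/-- the `IsTwistedE6D4Char p G` disjunct of `IsLieTypeChar`: assembly-ready. -/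
theorem lt4_e6d4_iso {G : Type*} [Group G] (p : ℕ) [hp : Fact p.Prime]
    (hG : Cfsg.IsTwistedE6D4Char p G) : lt4_P p G := by
  obtain ⟨K, _, _, _, q, hq, h | h⟩ := hG
  · obtain ⟨hK, ⟨e⟩⟩ := h
    exact lt4_of_iso p e (lt4_e6 hq hK p)
  · obtain ⟨hK, ⟨e⟩⟩ := h
    exact lt4_of_iso p e (lt4_d4 hq hK p)

end Cfsg.Agent.LT4
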