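import Mathlib
import Cfsg.Agent.LT3.F4Data
import Cfsg.Agent.Helper7.ChevTw11

set_option autoImplicit false
set_option linter.unusedSectionVars false
set_option linter.unusedVariables false

/-!
S5012 (swarm LT4), family ²F₄, input (O): the longest element `n₀ = (n₁ n₂)⁴` of the twisted group
conjugates `U¹ = U ⊓ ²F₄(q)` to a subgroup meeting `U¹` trivially.
-/

namespace Cfsg.Agent.LT4

open Cfsg Cfsg.Lie Matrix Cfsg.Agent.Helper7.Chev Cfsg.Agent.LT2 Cfsg.Agent.LT3

section opp

variable {K : Type*} [Field K] [CharP K 2] {m : ℕ} (hm : ∀ t : K, t ^ 2 ^ (2 * m + 1) = t)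

/-- the longest element of the twisted group, as a matrix -/
noncomputable def lt4_f4_n0 (K : Type*) [Field K] : GL chevF4.Idx K :=
  nWordGL good3_F4.toGood2 (f4AltWord true 8)

include hm in
theorem lt4_f4_n0_mem_twisted : lt4_f4_n0 K ∈ twistedF4 K (2 ^ m) := by
  have h := f4AltWord_mem_closure hm true 8
  have hle : Subgroup.closure {n : GL chevF4.Idx K | ∃ c ∈ f4ClsList hm,
      n = nWordGL good3_F4.toGood2 c.word} ≤ twistedF4 K (2 ^ m) := by
    rw [Subgroup.closure_le]
    rintro n ⟨c, hc, rfl⟩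
    unfold f4ClsList at hc
    simp only [List.mem_cons, List.not_mem_nil, or_false] at hc
    rcases hc with rfl | rfl
    · rw [f4N1_eq_word]; exact f4N1_mem_twisted
    · rw [f4N2_eq_word]; exact f4N2_mem_twisted
  exact hle h

theorem lt4_f4_n0_mem_mono : lt4_f4_n0 K ∈ chevF4.monomialSubgroup K := nWordGL_mem _ _

/-- `U ⊓ n₀ U n₀⁻¹ = ⊥` in the ambient group. -/
theorem lt4_f4_pos_inf_conj :
    chevF4.posUnipotent K ⊓ (chevF4.posUnipotent K).map (MulAut.conj (lt4_f4_n0 K)).toMonoidHom = ⊥ := by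
  unfold lt4_f4_n0
  rw [nWordGL_conj_pos_eq_neg good3_F4.toGood2 T0_F4 (f4_altW0 true), eq_bot_iff]
  intro g hg
  have h := borel_inf_negUnipotent (F := K) good3_F4.toGood2 T0_F4
  rw [← h]
  exact ⟨(le_sup_left : chevF4.posUnipotent K ≤ chevF4.borelSubgroup K) hg.1, hg.2⟩

end opp

end Cfsg.Agent.LT4
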