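import Mathlib
import Cfsg.Agent.LT4.F4Opp
import Cfsg.Agent.Helper7.ChevTwF2

set_option autoImplicit false
set_option linter.unusedSectionVars false
set_option linter.unusedVariables false

/-!
S5012 (swarm LT4), family ²F₄, input (R+), first part: the radicals `U_J` of the two maximal parabolic
subgroups of `F₄(K)` attached to the two classes `J₁ = {p₁, p₄}`, `J₂ = {p₂, p₃}`:
`U_J ≤ U`, `B` and the elements `n_w` (`w` a word in `J`) normalise `U_J`, and the class group of the
OTHER class lies in `U_J`.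
-/

namespace Cfsg.Agent.LT4

open Cfsg Cfsg.Lie Matrix Cfsg.Agent.Helper7.Chev Cfsg.Agent.LT2 Cfsg.Agent.LT3

section rad

variable {K : Type*} [Field K]

/-- the radical `U_J` in closure form -/
noncomputable def lt4_f4_R (K : Type*) [Field K] (J : Set ℕ) : Subgroup (GL chevF4.Idx K) :=
  Subgroup.closure (rootGen chevF4 K (InRad chevF4 J))

theorem lt4_f4_R_eq (J : Set ℕ) : lt4_f4_R K J = chevF4.unipotentRadical K J :=
  (unipotentRadical_eq J).symm

theorem lt4_f4_R_le_pos (J : Set ℕ) : lt4_f4_R K J ≤ chevF4.posUnipotent K := by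
  unfold lt4_f4_R
  rw [posUnipotent_eq]
  apply Subgroup.closure_mono
  rintro g ⟨r, t, hr, hg⟩
  exact ⟨r, t, hr.1, hg⟩

/-- `B` normalises `U_J`. -/
theorem lt4_f4_borel_le_normalizer (J : Set ℕ) :
    chevF4.borelSubgroup K ≤ Subgroup.normalizer (lt4_f4_R K J : Set (GL chevF4.Idx K)) := by
  unfold ChevalleyDatum.borelSubgroup lt4_f4_R
  refine sup_le ?_ ?_
  · exact posUnipotent_le_normalizer_rad good3_F4.toGood2 T0_F4 good3_F4.t3 good3_F4.t4 T14_F4 J
  · exact diagonalSubgroup_le_normalizer good3_F4.toGood2 (fun r hr => hr.1.1)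

/-- `n_w` normalises `U_J` for a word `w` in `J`. -/
theorem lt4_f4_nWord_mem_normalizer {J : Set ℕ} {w : List ℕ} (hw : ∀ i ∈ w, i < chevF4.rank ∧ i ∈ J) :
    (nWordGL good3_F4.toGood2 w : GL chevF4.Idx K) ∈
      Subgroup.normalizer (lt4_f4_R K J : Set (GL chevF4.Idx K)) := by
  have h := nWordGL_mem_normalizer_rad (K := K) good3_F4.toGood2 T0_F4 T6_F4 hw
  rw [upGenS_InJPos] at h
  exact h

theorem lt4_f4_N1_mem_normalizer :
    f4N1 K ∈ Subgroup.normalizer (lt4_f4_R K f4J1 : Set (GL chevF4.Idx K)) := by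
  have h : ∀ i ∈ [0, 3], i < chevF4.rank ∧ i ∈ f4J1 := by
    intro i hi
    simp only [List.mem_cons, List.not_mem_nil, or_false] at hi
    rcases hi with rfl | rfl
    · exact ⟨by decide, by unfold f4J1; simp⟩
    · exact ⟨by decide, by unfold f4J1; simp⟩
  exact lt4_f4_nWord_mem_normalizer h

theorem lt4_f4_N2_mem_normalizer :
    f4N2 K ∈ Subgroup.normalizer (lt4_f4_R K f4J2 : Set (GL chevF4.Idx K)) := by
  have h : ∀ i ∈ [2, 1, 2, 1], i < chevF4.rank ∧ i ∈ f4J2 := by
    intro i hi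
    simp only [List.mem_cons, List.not_mem_nil, or_false] at hi
    rcases hi with rfl | rfl | rfl | rfl
    all_goals exact ⟨by decide, by unfold f4J2; simp⟩
  exact lt4_f4_nWord_mem_normalizer h

/-- the class group of `J₁` lies in the radical of `J₂` -/
theorem lt4_f4_XJ1_le_R2 :
    Subgroup.closure (rootGen chevF4 K (InJPos chevF4 f4J1)) ≤ lt4_f4_R K f4J2 := by
  unfold lt4_f4_R
  apply Subgroup.closure_mono
  rintro g ⟨r, t, hr, hg⟩
  refine ⟨r, t, ⟨hr.1, fun h => ?_⟩, hg⟩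
  rw [f4_inJ1Pos_iff] at hr
  rw [f4_inJ2_iff] at h
  simp only [List.mem_cons, List.not_mem_nil, or_false] at h
  omega

/-- the class group of `J₂` lies in the radical of `J₁` -/
theorem lt4_f4_XJ2_le_R1 :
    Subgroup.closure (rootGen chevF4 K (InJPos chevF4 f4J2)) ≤ lt4_f4_R K f4J1 := by
  unfold lt4_f4_R
  apply Subgroup.closure_mono
  rintro g ⟨r, t, hr, hg⟩
  refine ⟨r, t, ⟨hr.1, fun h => ?_⟩, hg⟩
  rw [f4_inJ2Pos_iff] at hr
  rw [f4_inJ1_iff] at h
  simp only [List.mem_cons, List.not_mem_nil, or_false] at h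
  omega

end rad

end Cfsg.Agent.LT4
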