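import Mathlib
import Cfsg.Agent.LT4.F4Rad

set_option autoImplicit false
set_option linter.unusedSectionVars false
set_option linter.unusedVariables false

/-!
S5012 (swarm LT4), family ²F₄, input (R+), second part: no element of `n_w B` (`w` the word of one
class) centralises the radical `U_J` of the parabolic subgroup of that class `J' ≠ J`... precisely:
if `n = n_w` maps the positive roots of the class `Js` to roots of `U_{Js}` and `n b` commutes with
`n d n⁻¹`, `d ∈ X_{Js}`, `b ∈ B`, then `d = 1`.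
-/

namespace Cfsg.Agent.LT4

open Cfsg Cfsg.Lie Matrix Cfsg.Agent.Helper7.Chev Cfsg.Agent.LT2 Cfsg.Agent.LT3

section key

variable {K : Type*} [Field K]

/-- conjugation by `n_w` maps `X_{Js}` into `U_{Js}` when `w` moves the positive roots of `Js` to roots
of `U_{Js}` -/
theorem lt4_f4_conj_XJ_le {Js : Set ℕ} {w : List ℕ} (hw : ∀ i ∈ w, i < chevF4.rank)
    (hmove : ∀ r, InJPos chevF4 Js r → InRad chevF4 Js ((tabOf chevF4).reflWord w r)) :
    (Subgroup.closure (rootGen chevF4 K (InJPos chevF4 Js))).map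
      (MulAut.conj (nWordGL good3_F4.toGood2 w : GL chevF4.Idx K)).toMonoidHom ≤ lt4_f4_R K Js := by
  have hG := good3_F4.toGood2
  have hG1 := hG.toGood1
  unfold lt4_f4_R
  rw [MonoidHom.map_closure, Subgroup.closure_le]
  rintro y ⟨x, ⟨s, t, hs, hx⟩, rfl⟩
  have hslt : s < chevF4.nroots := hs.1.1
  obtain ⟨ε, hε, h⟩ := nWordMat_mul_x (F := K) hG hw hslt
  have hlt := reflWord_lt hG hw hslt
  have e : (MulAut.conj (nWordGL hG w : GL chevF4.Idx K)).toMonoidHom x = xGL hG1 hlt (ε * t) := by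
    change nWordGL hG w * x * (nWordGL hG w)⁻¹ = _
    rw [mul_inv_eq_iff_eq_mul]
    apply Units.ext
    rw [Units.val_mul, Units.val_mul, nWordGL_coe hG hw, hx, xGL_coe, h t]
  rw [SetLike.mem_coe, e]
  exact Subgroup.subset_closure ⟨_, ε * t, hmove s hs, xGL_coe hG1 hlt _⟩

/-- the key step: `n b` does not centralise `n d n⁻¹` unless `d = 1` -/
theorem lt4_f4_key {Js : Set ℕ} {w : List ℕ} (hw : ∀ i ∈ w, i < chevF4.rank)
    (hmove : ∀ r, InJPos chevF4 Js r → InRad chevF4 Js ((tabOf chevF4).reflWord w r))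
    {b d : GL chevF4.Idx K} (hb : b ∈ chevF4.borelSubgroup K)
    (hd : d ∈ Subgroup.closure (rootGen chevF4 K (InJPos chevF4 Js)))
    (hc : (nWordGL good3_F4.toGood2 w * b) *
        (nWordGL good3_F4.toGood2 w * d * (nWordGL good3_F4.toGood2 w)⁻¹) =
      (nWordGL good3_F4.toGood2 w * d * (nWordGL good3_F4.toGood2 w)⁻¹) *
        (nWordGL good3_F4.toGood2 w * b)) : d = 1 := by
  set n : GL chevF4.Idx K := nWordGL good3_F4.toGood2 w with hn
  have h1 : n * d * n⁻¹ ∈ lt4_f4_R K Js := lt4_f4_conj_XJ_le hw hmove ⟨d, hd, rfl⟩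
  have h2 : n * d * n⁻¹ = b⁻¹ * d * b := by
    have e : n * d * n⁻¹ = b⁻¹ * n⁻¹ * ((n * b) * (n * d * n⁻¹)) := by group
    rw [e, hc]
    group
  rw [h2] at h1
  have hnorm := lt4_f4_borel_le_normalizer (K := K) Js hb
  have h3 : d ∈ lt4_f4_R K Js := by
    have := (Subgroup.mem_set_normalizer_iff.mp hnorm (b⁻¹ * d * b)).mp h1
    have e : b * (b⁻¹ * d * b) * b⁻¹ = d := by group
    rwa [e] at this
  have h4 := rad_inf_XJ (K := K) good3_F4.toGood2 T0_F4 T16_F4 Js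
  rw [upGenS_InJPos] at h4
  have : d ∈ Subgroup.closure (rootGen chevF4 K (InRad chevF4 Js)) ⊓
      Subgroup.closure (rootGen chevF4 K (InJPos chevF4 Js)) := ⟨h3, hd⟩
  rw [h4, Subgroup.mem_bot] at this
  exact this

theorem lt4_f4_move1_fast : ∀ r ∈ [24, 33], 24 ≤ fastF4.reflWord [2, 1, 2, 1] r ∧
    fastF4.reflWord [2, 1, 2, 1] r < 48 ∧ fastF4.reflWord [2, 1, 2, 1] r ∉ [14, 23, 24, 33] := by
  decide +kernel

theorem lt4_f4_move2_fast : ∀ r ∈ [25, 27, 28, 30], 24 ≤ fastF4.reflWord [0, 3] r ∧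
    fastF4.reflWord [0, 3] r < 48 ∧
    fastF4.reflWord [0, 3] r ∉ [17, 19, 20, 22, 25, 27, 28, 30] := by
  decide +kernel

theorem lt4_f4_move1 : ∀ r ∈ [24, 33], 24 ≤ (tabOf chevF4).reflWord [2, 1, 2, 1] r ∧
    (tabOf chevF4).reflWord [2, 1, 2, 1] r < 48 ∧
    (tabOf chevF4).reflWord [2, 1, 2, 1] r ∉ [14, 23, 24, 33] := tab_F4 ▸ lt4_f4_move1_fast

theorem lt4_f4_move2 : ∀ r ∈ [25, 27, 28, 30], 24 ≤ (tabOf chevF4).reflWord [0, 3] r ∧
    (tabOf chevF4).reflWord [0, 3] r < 48 ∧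
    (tabOf chevF4).reflWord [0, 3] r ∉ [17, 19, 20, 22, 25, 27, 28, 30] := tab_F4 ▸ lt4_f4_move2_fast

/-- the word of the class `J₂` moves the roots of `J₁` into `U_{J₁}` -/
theorem lt4_f4_hmove1 : ∀ r, InJPos chevF4 f4J1 r →
    InRad chevF4 f4J1 ((tabOf chevF4).reflWord [2, 1, 2, 1] r) := by
  intro r hr
  rw [f4_inJ1Pos_iff] at hr
  have hr' : r ∈ [24, 33] := by
    simp only [List.mem_cons, List.not_mem_nil, or_false]; exact hr
  obtain ⟨h1, h2, h3⟩ := lt4_f4_move1 r hr'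
  refine ⟨(f4_isPosRoot _).mpr ⟨h1, h2⟩, fun h => ?_⟩
  rw [f4_inJ1_iff] at h
  exact h3 h

/-- the word of the class `J₁` moves the roots of `J₂` into `U_{J₂}` -/
theorem lt4_f4_hmove2 : ∀ r, InJPos chevF4 f4J2 r →
    InRad chevF4 f4J2 ((tabOf chevF4).reflWord [0, 3] r) := by
  intro r hr
  rw [f4_inJ2Pos_iff] at hr
  have hr' : r ∈ [25, 27, 28, 30] := by
    simp only [List.mem_cons, List.not_mem_nil, or_false]; exact hr
  obtain ⟨h1, h2, h3⟩ := lt4_f4_move2 r hr'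
  refine ⟨(f4_isPosRoot _).mpr ⟨h1, h2⟩, fun h => ?_⟩
  rw [f4_inJ2_iff] at h
  exact h3 h

end key

end Cfsg.Agent.LT4
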