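import Mathlib
import Cfsg.Agent.LT4.F4Cen

set_option autoImplicit false
set_option linter.unusedSectionVars false
set_option linter.unusedVariables false

/-!
S5012 (swarm LT4), family ²F₄: the inputs (O) and (R+) inside the twisted group `²F₄(q)`.
`D₁ = U_{J₂} ⊓ ²F₄(q)` is normalised by `B¹` and `n₂`, contains the class group of `J₁`, and no element
of `n₂ B¹` centralises it; symmetrically for `D₂ = U_{J₁} ⊓ ²F₄(q)`.
-/

namespace Cfsg.Agent.LT4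

open Cfsg Cfsg.Lie Matrix Cfsg.Agent.Helper7.Chev Cfsg.Agent.LT2 Cfsg.Agent.LT3

section tw

variable {K : Type*} [Field K] [CharP K 2] {m : ℕ} (hm : ∀ t : K, t ^ 2 ^ (2 * m + 1) = t)

/-- `U¹` -/
noncomputable def lt4_f4_U (K : Type*) [Field K] (m : ℕ) : Subgroup ↥(twistedF4 K (2 ^ m)) :=
  (chevF4.posUnipotent K ⊓ twistedF4 K (2 ^ m)).subgroupOf (twistedF4 K (2 ^ m))

/-- `B¹` -/
noncomputable def lt4_f4_B (K : Type*) [Field K] (m : ℕ) : Subgroup ↥(twistedF4 K (2 ^ m)) :=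
  (chevF4.borelSubgroup K ⊓ twistedF4 K (2 ^ m)).subgroupOf (twistedF4 K (2 ^ m))

/-- `U_J ⊓ ²F₄(q)` -/
noncomputable def lt4_f4_D (K : Type*) [Field K] (m : ℕ) (J : Set ℕ) : Subgroup ↥(twistedF4 K (2 ^ m)) :=
  (lt4_f4_R K J ⊓ twistedF4 K (2 ^ m)).subgroupOf (twistedF4 K (2 ^ m))

theorem lt4_f4_mem_D {J : Set ℕ} {x : ↥(twistedF4 K (2 ^ m))} :
    x ∈ lt4_f4_D K m J ↔ (x : GL chevF4.Idx K) ∈ lt4_f4_R K J := by
  unfold lt4_f4_D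
  rw [Subgroup.mem_subgroupOf, Subgroup.mem_inf]
  exact ⟨fun h => h.1, fun h => ⟨h, x.2⟩⟩

theorem lt4_f4_mem_U {x : ↥(twistedF4 K (2 ^ m))} :
    x ∈ lt4_f4_U K m ↔ (x : GL chevF4.Idx K) ∈ chevF4.posUnipotent K := by
  unfold lt4_f4_U
  rw [Subgroup.mem_subgroupOf, Subgroup.mem_inf]
  exact ⟨fun h => h.1, fun h => ⟨h, x.2⟩⟩

theorem lt4_f4_mem_B {x : ↥(twistedF4 K (2 ^ m))} :
    x ∈ lt4_f4_B K m ↔ (x : GL chevF4.Idx K) ∈ chevF4.borelSubgroup K := by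
  unfold lt4_f4_B
  rw [Subgroup.mem_subgroupOf, Subgroup.mem_inf]
  exact ⟨fun h => h.1, fun h => ⟨h, x.2⟩⟩

theorem lt4_f4_D_le_U (J : Set ℕ) : lt4_f4_D K m J ≤ lt4_f4_U K m := by
  intro x hx
  rw [lt4_f4_mem_D] at hx
  rw [lt4_f4_mem_U]
  exact lt4_f4_R_le_pos J hx

/-- `B¹` normalises `D_J`. -/
theorem lt4_f4_B_norm_D (J : Set ℕ) {b : ↥(twistedF4 K (2 ^ m))} (hb : b ∈ lt4_f4_B K m)
    {d : ↥(twistedF4 K (2 ^ m))} (hd : d ∈ lt4_f4_D K m J) : b * d * b⁻¹ ∈ lt4_f4_D K m J := by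
  rw [lt4_f4_mem_D] at hd ⊢
  rw [lt4_f4_mem_B] at hb
  have hnorm := lt4_f4_borel_le_normalizer (K := K) J hb
  have := (Subgroup.mem_set_normalizer_iff.mp hnorm _).mp hd
  simpa using this

/-- an element of the twisted group whose matrix normalises `U_J` normalises `D_J` -/
theorem lt4_f4_norm_D {J : Set ℕ} {n : ↥(twistedF4 K (2 ^ m))}
    (hn : (n : GL chevF4.Idx K) ∈ Subgroup.normalizer (lt4_f4_R K J : Set (GL chevF4.Idx K)))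
    {d : ↥(twistedF4 K (2 ^ m))} : n * d * n⁻¹ ∈ lt4_f4_D K m J ↔ d ∈ lt4_f4_D K m J := by
  rw [lt4_f4_mem_D, lt4_f4_mem_D]
  have := (Subgroup.mem_set_normalizer_iff.mp hn (d : GL chevF4.Idx K))
  constructor
  · intro h
    apply this.mpr
    simpa using h
  · intro h
    have := this.mp h
    simpa using this

/-- the element `n₁` of the twisted group -/
noncomputable def lt4_f4_s1 (K : Type*) [Field K] [CharP K 2] (m : ℕ) : ↥(twistedF4 K (2 ^ m)) :=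
  ⟨f4N1 K, f4N1_mem_twisted⟩

/-- the element `n₂` of the twisted group -/
noncomputable def lt4_f4_s2 (K : Type*) [Field K] [CharP K 2] (m : ℕ) : ↥(twistedF4 K (2 ^ m)) :=
  ⟨f4N2 K, f4N2_mem_twisted⟩

include hm in
/-- no element of `n₂ B¹` centralises `D₁ = U_{J₂} ⊓ ²F₄(q)` -/
theorem lt4_f4_not_centr1 {b : ↥(twistedF4 K (2 ^ m))} (hb : b ∈ lt4_f4_B K m) :
    ¬ ∀ d ∈ lt4_f4_D K m f4J2, (lt4_f4_s2 K m * b) * d = d * (lt4_f4_s2 K m * b) := by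
  intro hc
  set d0 : ↥(twistedF4 K (2 ^ m)) := ⟨xP 33 24 m (1 : K), xP_pos_mem_twisted 1⟩ with hd0
  have hd0X : (d0 : GL chevF4.Idx K) ∈ Subgroup.closure (rootGen chevF4 K (InJPos chevF4 f4J1)) :=
    ((mem_XJ1_fix_iff hm).mpr ⟨1, rfl⟩).1
  have hd0D : d0 ∈ lt4_f4_D K m f4J2 := lt4_f4_mem_D.mpr (lt4_f4_XJ1_le_R2 hd0X)
  have hd' : lt4_f4_s2 K m * d0 * (lt4_f4_s2 K m)⁻¹ ∈ lt4_f4_D K m f4J2 :=
    (lt4_f4_norm_D (n := lt4_f4_s2 K m) lt4_f4_N2_mem_normalizer).mpr hd0D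
  have h := hc _ hd'
  have h' := congrArg (Subtype.val : ↥(twistedF4 K (2 ^ m)) → GL chevF4.Idx K) h
  have hw : ∀ i ∈ [2, 1, 2, 1], i < chevF4.rank := by decide
  have key := lt4_f4_key (K := K) hw lt4_f4_hmove1 (lt4_f4_mem_B.mp hb) hd0X
    (by simpa [lt4_f4_s2, f4N2] using h')
  exact xP_ne_one (K := K) (m := m) key

include hm in
/-- no element of `n₁ B¹` centralises `D₂ = U_{J₁} ⊓ ²F₄(q)` -/
theorem lt4_f4_not_centr2 {b : ↥(twistedF4 K (2 ^ m))} (hb : b ∈ lt4_f4_B K m) :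
    ¬ ∀ d ∈ lt4_f4_D K m f4J1, (lt4_f4_s1 K m * b) * d = d * (lt4_f4_s1 K m * b) := by
  intro hc
  set d0 : ↥(twistedF4 K (2 ^ m)) := ⟨(quadPos K).xS m (1 : K) 0, xS_pos_mem_twisted 1 0⟩ with hd0
  have hd0X : (d0 : GL chevF4.Idx K) ∈ Subgroup.closure (rootGen chevF4 K (InJPos chevF4 f4J2)) :=
    ((mem_XJ2_fix_iff hm).mpr ⟨1, 0, rfl⟩).1
  have hd0D : d0 ∈ lt4_f4_D K m f4J1 := lt4_f4_mem_D.mpr (lt4_f4_XJ2_le_R1 hd0X)
  have hd' : lt4_f4_s1 K m * d0 * (lt4_f4_s1 K m)⁻¹ ∈ lt4_f4_D K m f4J1 :=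
    (lt4_f4_norm_D (n := lt4_f4_s1 K m) lt4_f4_N1_mem_normalizer).mpr hd0D
  have h := hc _ hd'
  have h' := congrArg (Subtype.val : ↥(twistedF4 K (2 ^ m)) → GL chevF4.Idx K) h
  have hw : ∀ i ∈ [0, 3], i < chevF4.rank := by decide
  have key := lt4_f4_key (K := K) hw lt4_f4_hmove2 (lt4_f4_mem_B.mp hb) hd0X
    (by simpa [lt4_f4_s1, f4N1] using h')
  exact xS_ne_one (K := K) (m := m) key

include hm in
/-- input (O): `U¹ ⊓ n₀⁻¹... ` trivial -/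
theorem lt4_f4_O : ∃ x₀ : ↥(twistedF4 K (2 ^ m)), ∀ u ∈ lt4_f4_U K m,
    x₀⁻¹ * u * x₀ ∈ lt4_f4_U K m → u = 1 := by
  refine ⟨⟨lt4_f4_n0 K, lt4_f4_n0_mem_twisted hm⟩, fun u hu hu' => ?_⟩
  rw [lt4_f4_mem_U] at hu hu'
  have h := lt4_f4_pos_inf_conj (K := K)
  have hmem : (u : GL chevF4.Idx K) ∈ chevF4.posUnipotent K ⊓
      (chevF4.posUnipotent K).map (MulAut.conj (lt4_f4_n0 K)).toMonoidHom := by
    refine ⟨hu, ⟨_, hu', ?_⟩⟩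
    change lt4_f4_n0 K * _ * (lt4_f4_n0 K)⁻¹ = _
    simp only [Subgroup.coe_mul, Subgroup.coe_inv]
    group
  rw [h, Subgroup.mem_bot] at hmem
  exact Subtype.ext hmem

end tw

end Cfsg.Agent.LT4
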