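import Mathlib
import Cfsg.Agent.LT4.F4In
import Cfsg.Agent.LT4.GenF

set_option autoImplicit false
set_option linter.unusedSectionVars false
set_option linter.unusedVariables false

/-!
S5012 (swarm LT4), family ²F₄: the Sylow 2-subgroup `U¹` of `²F₄(q)` has no proper non-trivial
subgroup with Green's property (helper5's generic `lt4bn_noGreen` on the inputs (O), (R+) of `F4In`).
-/

namespace Cfsg.Agent.LT4

open Cfsg Cfsg.Lie Matrix Cfsg.Agent.Helper7.Chev Cfsg.Agent.LT2 Cfsg.Agent.LT3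

section fin

variable {K : Type*} [Field K] [Fintype K] [CharP K 2] {m : ℕ}

/-- with the characteristic-2 instance given -/
theorem lt4_f4_noGreen_aux (hK : Fintype.card K = 2 ^ (2 * m + 1)) :
    IsPGroup 2 (lt4_f4_U K m) ∧ ¬ 2 ∣ (lt4_f4_U K m).index ∧
      ∀ D : Subgroup ↥(twistedF4 K (2 ^ m)), D ≤ lt4_f4_U K m →
        Cfsg.Agent.ChevBlk.GreenProp (lt4_f4_U K m) D → D = ⊥ ∨ D = lt4_f4_U K m := by
  have hm := pow_card_two hK
  obtain ⟨P, hB, hN, hS⟩ := f4_exists_bnPair hm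
  obtain ⟨hUp, hidx⟩ := lt2_f4_syl (m := m) hK
  have hG := good3_F4.toGood2
  have hB' : P.B = lt4_f4_B K m := hB
  refine ⟨hUp, hidx, fun D hDU hGr => ?_⟩
  have : Fact (Nat.Prime 2) := ⟨Nat.prime_two⟩
  -- the elements of `S`
  have hS1 : lt4_f4_s1 K m ∈ P.S := by
    rw [hS]
    exact ⟨f4Cls1 hm, List.mem_cons_self, (f4N1_eq_word hm).symm⟩
  have hS2 : lt4_f4_s2 K m ∈ P.S := by
    rw [hS]
    exact ⟨f4Cls2 hm, List.mem_cons_of_mem _ List.mem_cons_self, (f4N2_eq_word hm).symm⟩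
  have hScases : ∀ s ∈ P.S, s = lt4_f4_s1 K m ∨ s = lt4_f4_s2 K m := by
    intro s hs
    rw [hS] at hs
    obtain ⟨c, hc, e⟩ := hs
    unfold f4ClsList at hc
    simp only [List.mem_cons, List.not_mem_nil, or_false] at hc
    rcases hc with rfl | rfl
    · left; exact Subtype.ext (e.trans (f4N1_eq_word hm))
    · right; exact Subtype.ext (e.trans (f4N2_eq_word hm))
  refine lt4bn_noGreen (p := 2) P (lt4_f4_U K m) hUp hidx ?_ ?_ ?_ ?_ ?_ hDU hGr
  · -- `U ≤ B`
    rw [hB']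
    intro x hx
    rw [lt4_f4_mem_U] at hx
    rw [lt4_f4_mem_B]
    exact (le_sup_left : chevF4.posUnipotent K ≤ chevF4.borelSubgroup K) hx
  · -- `B` normalises `U`
    rw [hB']
    intro b hb u hu
    rw [lt4_f4_mem_B] at hb
    rw [lt4_f4_mem_U] at hu ⊢
    have hnorm := borel_le_normalizer_pos (F := K) good3_F4.toGood2 hb
    have h1 := (Subgroup.mem_set_normalizer_iff.mp hnorm _).mp hu
    simpa using h1
  · -- `B = U (B ⊓ N)`
    rw [hB, hN]
    intro b hb
    rw [Subgroup.mem_subgroupOf] at hb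
    obtain ⟨u, hu, h, hh, e⟩ := borel_fix_decomp good3_F4.toGood2 T0_F4 good3_F4.t3 good3_F4.t4 T5_F4
      T6_F4 T8_F4 T9_F4 (f4Tau_rootAut hm) (twistedF4_le_fixSub hm) (f4_posFix_le hm) hb
    refine ⟨⟨u, hu.2⟩, ?_, ⟨h, hh.2⟩, ?_, ?_⟩
    · rw [lt4_f4_mem_U]; exact hu.1
    · refine Subgroup.mem_inf.mpr ⟨?_, ?_⟩
      · rw [Subgroup.mem_subgroupOf]
        exact Subgroup.mem_inf.mpr
          ⟨(le_sup_right : chevF4.diagonalSubgroup K ≤ chevF4.borelSubgroup K) hh.1, hh.2⟩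
      · rw [Subgroup.mem_subgroupOf]
        exact Subgroup.mem_inf.mpr
          ⟨(le_sup_left : chevF4.diagonalSubgroup K ≤ chevF4.monomialSubgroup K) hh.1, hh.2⟩
    · apply Subtype.ext
      exact e
  · -- (O)
    refine ⟨⟨lt4_f4_n0 K, lt4_f4_n0_mem_twisted hm⟩, ?_⟩
    rw [eq_bot_iff]
    rintro x ⟨hx1, u, hu, hxu⟩
    have hx1' : x ∈ lt4_f4_U K m := hx1
    have hu' : u ∈ lt4_f4_U K m := hu
    rw [lt4_f4_mem_U] at hx1' hu'
    rw [Subgroup.mem_bot]
    have h := lt4_f4_pos_inf_conj (K := K)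
    have hmem : (x : GL chevF4.Idx K) ∈ chevF4.posUnipotent K ⊓
        (chevF4.posUnipotent K).map (MulAut.conj (lt4_f4_n0 K)).toMonoidHom := by
      refine ⟨hx1', ⟨_, hu', ?_⟩⟩
      rw [← hxu]
      rfl
    rw [h, Subgroup.mem_bot] at hmem
    exact Subtype.ext hmem
  · -- (R+)
    intro s hs
    rcases hScases s hs with rfl | rfl
    · refine ⟨lt4_f4_D K m f4J2, lt4_f4_D_le_U _, ?_, ?_, ?_⟩
      · intro b hb d hd
        rw [hB'] at hb
        exact lt4_f4_B_norm_D f4J2 hb hd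
      · intro t ht hts d hd
        rcases hScases t ht with rfl | rfl
        · exact absurd rfl hts
        · exact (lt4_f4_norm_D (n := lt4_f4_s2 K m) lt4_f4_N2_mem_normalizer).mpr hd
      · intro t ht hts b hb
        rcases hScases t ht with rfl | rfl
        · exact absurd rfl hts
        · rw [hB'] at hb
          exact lt4_f4_not_centr1 hm hb
    · refine ⟨lt4_f4_D K m f4J1, lt4_f4_D_le_U _, ?_, ?_, ?_⟩
      · intro b hb d hd
        rw [hB'] at hb
        exact lt4_f4_B_norm_D f4J1 hb hd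
      · intro t ht hts d hd
        rcases hScases t ht with rfl | rfl
        · exact (lt4_f4_norm_D (n := lt4_f4_s1 K m) lt4_f4_N1_mem_normalizer).mpr hd
        · exact absurd rfl hts
      · intro t ht hts b hb
        rcases hScases t ht with rfl | rfl
        · rw [hB'] at hb
          exact lt4_f4_not_centr2 hm hb
        · exact absurd rfl hts

end fin

/-- **²F₄, assembly-ready**: a Sylow 2-subgroup `U` of `²F₄(q)` without proper non-trivial subgroups
with Green's property. -/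
theorem lt4_f4_noGreen {K : Type*} [Field K] [Fintype K] {m : ℕ}
    (hK : Fintype.card K = 2 ^ (2 * m + 1)) :
    ∃ U : Subgroup ↥(twistedF4 K (2 ^ m)), IsPGroup 2 U ∧ ¬ 2 ∣ U.index ∧
      ∀ D : Subgroup ↥(twistedF4 K (2 ^ m)), D ≤ U →
        Cfsg.Agent.ChevBlk.GreenProp U D → D = ⊥ ∨ D = U := by
  have := charP_two_of_card (by omega) hK
  exact ⟨lt4_f4_U K m, lt4_f4_noGreen_aux hK⟩

end Cfsg.Agent.LT4
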