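import Mathlib
import Cfsg.Prelude.Def_LieTypeChar
import Cfsg.Agent.LT4.F4Fin
import Cfsg.Agent.LT4.NoGreen

set_option autoImplicit false
set_option linter.unusedSectionVars false
set_option linter.unusedVariables false

/-!
S5012 (swarm LT4), family ²F₄, assembly-ready: every 2-block of a group isomorphic to `²F₄(q)` has
defect `0` or full defect.
-/

namespace Cfsg.Agent.LT4

open Cfsg Cfsg.Lie

/-- `²F₄(q)` itself -/
theorem lt4_f4 {K : Type*} [Field K] [Fintype K] {m : ℕ} (hK : Fintype.card K = 2 ^ (2 * m + 1)) :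
    lt4_P 2 ↥(twistedF4 K (2 ^ m)) := by
  have : Fact (Nat.Prime 2) := ⟨Nat.prime_two⟩
  obtain ⟨U, hU, hidx, h⟩ := lt4_f4_noGreen hK
  refine lt4_defect_of_noGreen 2 (hU.toSylow hidx) (fun D hD h1 h2 hGr => ?_)
  rw [IsPGroup.toSylow_coe] at hD h2 hGr
  rcases h D hD hGr with h' | h'
  · exact h1 h'
  · exact h2 h'

/-- the `(p = 2 ∧ Lie.Iso2F4 G)` disjunct of `IsLieTypeChar`: assembly-ready. -/
theorem lt4_f4_iso {G : Type*} [Group G] (hG : Cfsg.Lie.Iso2F4 G) : lt4_P 2 G := by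
  obtain ⟨K, _, _, m, hm, hK, ⟨e⟩⟩ := hG
  exact lt4_of_iso 2 e (lt4_f4 hK)

end Cfsg.Agent.LT4
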