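import Mathlib
import Cfsg.Agent.SLBlk.L_RadA
import Cfsg.Agent.Helper4.PGroupFixedVector

set_option autoImplicit false

/-!
# LT4 (S5012): generic fixed-space lemmas for the classical families (lead)

`X` any group with a matrix representation `ρ : X →* Matrix ι ι F`.  For a subgroup `D ≤ X`:
`lt4_fix ρ D` is the fixed space on `ι → F`; it is non-zero for a `p`-group `D` in characteristic
`p`, proper when `ρ` is injective and `D ≠ ⊥`, and stable under `N_X(D)`.  `lt4_rad_of_Q` is the
abstract radical step: if `D = O_p(N_X(D))`, `Q` is a `p`-subgroup normalised by `N_X(D)` whose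
centraliser has only central `p`-regular elements, then so has `C_X(D)`.
-/

namespace Cfsg.Agent.LT4

open Matrix Subgroup

variable {X : Type*} [Group X] {ι : Type*} [Fintype ι] [DecidableEq ι] {F : Type*} [Field F]

/-- The fixed space of a subgroup on the natural module of a matrix representation. -/
def lt4_fix (ρ : X →* Matrix ι ι F) (D : Subgroup X) : Submodule F (ι → F) where
  carrier := {v | ∀ d ∈ D, ρ d *ᵥ v = v}
  add_mem' := by
    intro a b ha hb d hd
    rw [Matrix.mulVec_add, ha d hd, hb d hd]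
  zero_mem' := by
    intro d _
    exact Matrix.mulVec_zero _
  smul_mem' := by
    intro c v hv d hd
    rw [Matrix.mulVec_smul, hv d hd]

theorem lt4_mem_fix (ρ : X →* Matrix ι ι F) (D : Subgroup X) (v : ι → F) :
    v ∈ lt4_fix ρ D ↔ ∀ d ∈ D, ρ d *ᵥ v = v := Iff.rfl

theorem lt4_fix_anti (ρ : X →* Matrix ι ι F) {D E : Subgroup X} (h : D ≤ E) :
    lt4_fix ρ E ≤ lt4_fix ρ D := fun _ hv d hd => hv d (h hd)

/-- `ρ x⁻¹` undoes `ρ x`. -/
theorem lt4_inv_mulVec (ρ : X →* Matrix ι ι F) (x : X) (v : ι → F) :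
    ρ x⁻¹ *ᵥ (ρ x *ᵥ v) = v := by
  rw [Matrix.mulVec_mulVec, ← map_mul, inv_mul_cancel, map_one, Matrix.one_mulVec]

theorem lt4_mulVec_inv (ρ : X →* Matrix ι ι F) (x : X) (v : ι → F) :
    ρ x *ᵥ (ρ x⁻¹ *ᵥ v) = v := by
  rw [Matrix.mulVec_mulVec, ← map_mul, mul_inv_cancel, map_one, Matrix.one_mulVec]

/-- The normaliser of `D` stabilises the fixed space of `D`. -/
theorem lt4_normalizer_fix (ρ : X →* Matrix ι ι F) (D : Subgroup X) (x : X)
    (hx : x ∈ normalizer (D : Set X)) (v : ι → F) (hv : v ∈ lt4_fix ρ D) :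
    ρ x *ᵥ v ∈ lt4_fix ρ D := by
  intro d hd
  have h1 : x⁻¹ * d * x ∈ D := by
    have hx' : x⁻¹ ∈ normalizer (D : Set X) := inv_mem hx
    have := (mem_normalizer_iff.mp hx' d).mp hd
    simpa using this
  have h2 : d * x = x * (x⁻¹ * d * x) := by group
  rw [Matrix.mulVec_mulVec, ← map_mul, h2, map_mul, ← Matrix.mulVec_mulVec, hv _ h1]

/-- The normaliser of `D` stabilises the fixed space of `D` (equality form). -/
theorem lt4_normalizer_fix_map (ρ : X →* Matrix ι ι F) (D : Subgroup X) (x : X)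
    (hx : x ∈ normalizer (D : Set X)) (v : ι → F) :
    ρ x *ᵥ v ∈ lt4_fix ρ D ↔ v ∈ lt4_fix ρ D := by
  constructor
  · intro h
    have := lt4_normalizer_fix ρ D x⁻¹ (inv_mem hx) _ h
    rwa [lt4_inv_mulVec] at this
  · exact lt4_normalizer_fix ρ D x hx v

/-- A non-trivial subgroup of a faithful representation does not fix every vector. -/
theorem lt4_fix_ne_top (ρ : X →* Matrix ι ι F) (hρ : Function.Injective ρ) (D : Subgroup X)
    (hD : D ≠ ⊥) : lt4_fix ρ D ≠ ⊤ := by
  intro htop
  apply hD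
  rw [eq_bot_iff]
  intro d hd
  rw [Subgroup.mem_bot]
  apply hρ
  rw [map_one]
  apply Matrix.toLin'.injective
  apply LinearMap.ext
  intro v
  rw [Matrix.toLin'_apply, Matrix.toLin'_apply, Matrix.one_mulVec]
  have hv : v ∈ lt4_fix ρ D := by rw [htop]; exact Submodule.mem_top
  exact hv d hd

section charp

variable (p : ℕ) [Fact p.Prime] [CharP F p]

/-- A finite `p`-subgroup has a non-zero fixed vector in every non-zero subspace it stabilises. -/
theorem lt4_exists_fixed_in [Finite X] (ρ : X →* Matrix ι ι F) (D : Subgroup X)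
    (hD : IsPGroup p D) (W : Submodule F (ι → F)) (hW : W ≠ ⊥)
    (hstab : ∀ d ∈ D, ∀ v ∈ W, ρ d *ᵥ v ∈ W) :
    ∃ v ∈ W, v ≠ 0 ∧ v ∈ lt4_fix ρ D := by
  let σ : ↥D →* AddMonoid.End (ι → F) :=
    { toFun := fun d =>
        { toFun := fun v => ρ (d : X) *ᵥ v
          map_zero' := Matrix.mulVec_zero _
          map_add' := fun a b => Matrix.mulVec_add _ a b }
      map_one' := by
        ext v : 1
        change ρ ((1 : ↥D) : X) *ᵥ v = v
        rw [Subgroup.coe_one, map_one, Matrix.one_mulVec]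
      map_mul' := by
        intro a b
        ext v : 1
        change ρ ((a * b : ↥D) : X) *ᵥ v = _
        rw [Subgroup.coe_mul, map_mul, ← Matrix.mulVec_mulVec]
        rfl }
  have hV : ∀ v : ι → F, p • v = 0 := by
    intro v
    ext i
    rw [Pi.smul_apply, Pi.zero_apply, nsmul_eq_mul, CharP.cast_eq_zero F p, zero_mul]
  have hne : W.toAddSubgroup ≠ ⊥ := by
    intro h
    apply hW
    rw [eq_bot_iff]
    intro x hx
    have : x ∈ W.toAddSubgroup := hx
    rw [h, AddSubgroup.mem_bot] at this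
    rw [Submodule.mem_bot]; exact this
  obtain ⟨v, hvW, hv0, hv⟩ := Cfsg.Agent.Helper4.exists_fixed_ne_zero_of_pgroup hD σ hV
    W.toAddSubgroup (fun g u hu => hstab g g.2 u hu) hne
  exact ⟨v, hvW, hv0, fun d hd => hv ⟨d, hd⟩⟩

/-- A finite `p`-subgroup has a non-zero fixed vector. -/
theorem lt4_fix_ne_bot [Finite X] [Nonempty ι] (ρ : X →* Matrix ι ι F) (D : Subgroup X)
    (hD : IsPGroup p D) : lt4_fix ρ D ≠ ⊥ := by
  have htop : (⊤ : Submodule F (ι → F)) ≠ ⊥ := by
    intro h
    have h1 : (fun _ : ι => (1 : F)) ∈ (⊥ : Submodule F (ι → F)) := by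
      rw [← h]; exact Submodule.mem_top
    rw [Submodule.mem_bot] at h1
    have := congrFun h1 (Classical.arbitrary ι)
    simp at this
  obtain ⟨v, -, hv0, hv⟩ := lt4_exists_fixed_in p ρ D hD ⊤ htop
    (fun _ _ _ _ => Submodule.mem_top)
  intro hbot
  apply hv0
  rw [hbot, Submodule.mem_bot] at hv
  exact hv

/-- The abstract radical step: `D = O_p(N_X(D))`, `Q` a `p`-subgroup normalised by `N_X(D)`
such that the `p`-regular elements of `C_X(Q)` are central; then the `p`-regular elements of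
`C_X(D)` are central. -/
theorem lt4_rad_of_Q [Finite X] (D Q : Subgroup X) (hDp : IsPGroup p D) (hQp : IsPGroup p Q)
    (hrad : (Cfsg.pCore p ↥(normalizer (D : Set X))).map (normalizer (D : Set X)).subtype = D)
    (hNQ : normalizer (D : Set X) ≤ normalizer (Q : Set X))
    (hQ : ∀ x ∈ centralizer (Q : Set X), ¬ p ∣ orderOf x → x ∈ center X)
    (x : X) (hx : x ∈ centralizer (D : Set X)) (hreg : ¬ p ∣ orderOf x) : x ∈ center X := by
  have hQD : Q ≤ D :=
    Cfsg.Agent.SLBlk.l_le_of_radical p D Q hDp hQp hrad (le_trans le_normalizer hNQ) hNQ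
  apply hQ x _ hreg
  rw [mem_centralizer_iff] at hx ⊢
  intro q hq
  exact hx q (hQD hq)

end charp

end Cfsg.Agent.LT4
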