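import Mathlib
import Cfsg.Agent.Helper8.Af13B

set_option autoImplicit false

/-!
# LT4 (S5012), orthogonal families, part A: the radical subgroup of a totally singular subspace
(helper8)

For a totally singular subspace `T` of a quadratic space, the Siegel transformations `ρ_{e,v}`,
`e ∈ T`, `v ∈ T^⊥`, generate a `p`-subgroup `lt4o_QT Q T` of the Siegel group (the unipotent radical
of the stabiliser of `T`), normalised by the stabiliser of `T`.
-/

namespace Cfsg.Agent.LT4

open Module Cfsg.Agent.Helper8.QuadForm Cfsg.Agent.Helper8.WittQuad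
  Cfsg.Agent.Helper8.OrthOrder Cfsg.Agent.Helper8.Siegel Cfsg.Agent.Helper8.SiegelGroup
  Cfsg.Agent.Helper8.OGenA Cfsg.Agent.Helper8.OGenB Cfsg.Agent.Helper8.OSt

variable {F : Type*} [Field F] {V : Type*} [AddCommGroup V] [Module F V]
variable {Q : QuadraticForm F V}

/-- orthogonal complement with respect to the polar form -/
def lt4o_perp (Q : QuadraticForm F V) (T : Submodule F V) : Submodule F V :=
  LinearMap.BilinForm.orthogonal (QuadraticMap.polarBilin Q) T

theorem lt4o_mem_perp {T : Submodule F V} {v : V} :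
    v ∈ lt4o_perp Q T ↔ ∀ t ∈ T, QuadraticMap.polar Q t v = 0 := Iff.rfl

/-- the polar form vanishes on a totally singular subspace -/
theorem lt4o_polar_of_ts {T : Submodule F V} (hT : ∀ t ∈ T, Q t = 0) {a b : V} (ha : a ∈ T)
    (hb : b ∈ T) : QuadraticMap.polar Q a b = 0 := by
  unfold QuadraticMap.polar
  rw [hT _ (T.add_mem ha hb), hT a ha, hT b hb]
  simp

theorem lt4o_le_perp {T : Submodule F V} (hT : ∀ t ∈ T, Q t = 0) : T ≤ lt4o_perp Q T :=
  fun _ hb _ ha => lt4o_polar_of_ts hT ha hb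

/-- the Siegel generators of the unipotent radical of the stabiliser of `T` -/
def lt4o_gens (Q : QuadraticForm F V) (T : Submodule F V) : Set ↥(Isom Q) :=
  {s | ∃ e ∈ T, ∃ v ∈ lt4o_perp Q T, s = siegG Q e v}

/-- the subgroup of the Siegel group generated by them -/
def lt4o_QT (Q : QuadraticForm F V) (T : Submodule F V) : Subgroup ↥(SG Q) :=
  (Subgroup.closure (lt4o_gens Q T)).subgroupOf (SG Q)

theorem lt4o_mem_QT {T : Submodule F V} (g : ↥(SG Q)) :
    g ∈ lt4o_QT Q T ↔ (g : ↥(Isom Q)) ∈ Subgroup.closure (lt4o_gens Q T) :=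
  Subgroup.mem_subgroupOf

/-- the unipotent group of the flag `0 < T < T^⊥ < V` -/
def lt4o_UT (Q : QuadraticForm F V) (T : Submodule F V) : Subgroup ↥(Isom Q) where
  carrier := {g | (∀ t ∈ T, g • t = t) ∧ ∀ v ∈ lt4o_perp Q T, g • v - v ∈ T}
  one_mem' := ⟨fun t _ => one_smul _ t, fun v _ => by
    rw [one_smul, sub_self]
    exact T.zero_mem⟩
  mul_mem' := by
    rintro a b ⟨ha1, ha2⟩ ⟨hb1, hb2⟩
    refine ⟨fun t ht => by rw [mul_smul, hb1 t ht, ha1 t ht], fun v hv => ?_⟩
    have h1 := hb2 v hv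
    have h2 : a • (b • v) = a • (b • v - v) + a • v := by rw [← smul_add, sub_add_cancel]
    have h3 : (a * b) • v - v = (b • v - v) + (a • v - v) := by
      rw [mul_smul, h2, ha1 _ h1]
      abel
    rw [h3]
    exact T.add_mem h1 (ha2 v hv)
  inv_mem' := by
    rintro a ⟨ha1, ha2⟩
    have hinv : ∀ t ∈ T, a⁻¹ • t = t := fun t ht => by rw [inv_smul_eq_iff, ha1 t ht]
    refine ⟨hinv, fun v hv => ?_⟩
    have h1 := ha2 v hv
    have h2 : a⁻¹ • (a • v - v) = a • v - v := hinv _ h1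
    rw [smul_sub, inv_smul_smul] at h2
    have h3 : a⁻¹ • v - v = -(a • v - v) := by
      rw [← h2]
      abel
    rw [h3]
    exact T.neg_mem h1

theorem lt4o_mem_UT {T : Submodule F V} {g : ↥(Isom Q)} :
    g ∈ lt4o_UT Q T ↔ (∀ t ∈ T, g • t = t) ∧ ∀ v ∈ lt4o_perp Q T, g • v - v ∈ T := Iff.rfl

/-- the generators lie in the unipotent group -/
theorem lt4o_gens_le_UT {T : Submodule F V} (hT : ∀ t ∈ T, Q t = 0) :
    Subgroup.closure (lt4o_gens Q T) ≤ lt4o_UT Q T := by
  rw [Subgroup.closure_le]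
  rintro s ⟨e, he, v, hv, rfl⟩
  have hQe : Q e = 0 := hT e he
  have hev : QuadraticMap.polar Q e v = 0 := hv e he
  refine ⟨fun t ht => ?_, fun x hx => ?_⟩
  · exact siegG_smul_fix Q (lt4o_polar_of_ts hT ht he) (hv t ht)
  · rw [siegG_smul Q hQe hev]
    have hxe : QuadraticMap.polar Q x e = 0 := by
      rw [QuadraticMap.polar_comm]
      exact hx e he
    rw [hxe]
    simp only [zero_smul, mul_zero, sub_zero, add_sub_cancel_left]
    exact T.smul_mem _ he

/-- `g - 1` maps into `T^⊥` for `g` fixing `T` pointwise -/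
theorem lt4o_sub_mem_perp {T : Submodule F V} {g : ↥(Isom Q)} (hg : ∀ t ∈ T, g • t = t) (z : V) :
    g • z - z ∈ lt4o_perp Q T := by
  intro t ht
  have h1 : QuadraticMap.polar Q t (g • z) = QuadraticMap.polar Q t z := by
    have := polar_smul_smul g t z
    rw [hg t ht] at this
    exact this
  show QuadraticMap.polar Q t (g • z - z) = 0
  rw [QuadraticMap.polar_sub_right, h1, sub_self]

/-- elements of the unipotent group have order dividing `p ^ 2` -/
theorem lt4o_UT_pow (p : ℕ) [Fact p.Prime] [CharP F p] {T : Submodule F V}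
    {g : ↥(Isom Q)} (hg : g ∈ lt4o_UT Q T) : g ^ p ^ 2 = 1 := by
  rcases subsingleton_or_nontrivial V with hV | hV
  · apply Subtype.ext
    apply LinearEquiv.ext
    intro z
    exact Subsingleton.elim _ _
  have : CharP (Module.End F V) p :=
    charP_of_injective_algebraMap (algebraMap F (Module.End F V)).injective p
  obtain ⟨hg1, hg2⟩ := hg
  set φ : (V ≃ₗ[F] V) →* Module.End F V :=
    LinearEquiv.automorphismGroup.toLinearMapMonoidHom with hφ
  set N : Module.End F V := φ (g : V ≃ₗ[F] V) - 1 with hN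
  have hNz : ∀ z : V, N z = g • z - z := fun z => rfl
  have hN3 : N ^ 3 = 0 := by
    apply LinearMap.ext
    intro z
    have h1 : N z ∈ lt4o_perp Q T := by rw [hNz]; exact lt4o_sub_mem_perp hg1 z
    have h2 : N (N z) ∈ T := by rw [hNz (N z)]; exact hg2 _ h1
    have h3 : N (N (N z)) = 0 := by rw [hNz (N (N z)), hg1 _ h2, sub_self]
    show (N ^ 3) z = 0
    rw [pow_succ, pow_succ, pow_one]
    exact h3
  have hφg : φ (g : V ≃ₗ[F] V) = 1 + N := by rw [hN]; abel
  have hpow : φ ((g : V ≃ₗ[F] V) ^ p ^ 2) = 1 := by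
    rw [map_pow, hφg, add_pow_char_pow_of_commute p 2 (Commute.one_left N), one_pow]
    have h3 : 3 ≤ p ^ 2 := by
      have := (Fact.out : p.Prime).two_le
      nlinarith
    obtain ⟨k, hk⟩ := Nat.exists_eq_add_of_le h3
    rw [hk, pow_add, hN3, zero_mul, add_zero]
  apply Subtype.ext
  rw [Subgroup.coe_pow, Subgroup.coe_one]
  apply LinearEquiv.ext
  intro z
  have := congrArg (fun f : Module.End F V => f z) hpow
  exact this

/-- (A1) the radical subgroup is a `p`-group -/
theorem lt4o_isPGroup_QT (p : ℕ) [Fact p.Prime] [CharP F p] {T : Submodule F V}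
    (hT : ∀ t ∈ T, Q t = 0) : IsPGroup p ↥(lt4o_QT Q T) := by
  intro g
  refine ⟨2, ?_⟩
  have h1 : ((g : ↥(SG Q)) : ↥(Isom Q)) ∈ lt4o_UT Q T :=
    lt4o_gens_le_UT hT ((lt4o_mem_QT _).mp g.2)
  have h2 := lt4o_UT_pow p h1
  apply Subtype.ext
  apply Subtype.ext
  rw [Subgroup.coe_pow, Subgroup.coe_pow, Subgroup.coe_one, Subgroup.coe_one]
  exact h2

/-- conjugation by an isometry stabilising `T` preserves the generated subgroup -/
theorem lt4o_conj_mem {T : Submodule F V} (g : ↥(Isom Q)) (hg : ∀ t ∈ T, g • t ∈ T)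
    (hg' : ∀ t ∈ T, g⁻¹ • t ∈ T) {s : ↥(Isom Q)} (hs : s ∈ Subgroup.closure (lt4o_gens Q T)) :
    g * s * g⁻¹ ∈ Subgroup.closure (lt4o_gens Q T) := by
  induction hs using Subgroup.closure_induction with
  | mem s hs =>
    obtain ⟨e, he, v, hv, rfl⟩ := hs
    rw [siegG_conj]
    apply Subgroup.subset_closure
    refine ⟨_, hg e he, _, ?_, rfl⟩
    intro t ht
    have h1 := polar_smul_smul g (g⁻¹ • t) v
    rw [smul_inv_smul] at h1
    show QuadraticMap.polar Q t (g • v) = 0
    rw [h1]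
    exact hv _ (hg' t ht)
  | one =>
    rw [mul_one, mul_inv_cancel]
    exact Subgroup.one_mem _
  | mul a b _ _ iha ihb =>
    have : g * (a * b) * g⁻¹ = (g * a * g⁻¹) * (g * b * g⁻¹) := by group
    rw [this]
    exact Subgroup.mul_mem _ iha ihb
  | inv a _ iha =>
    have : g * a⁻¹ * g⁻¹ = (g * a * g⁻¹)⁻¹ := by group
    rw [this]
    exact Subgroup.inv_mem _ iha

/-- (A2) the radical subgroup is normalised by the stabiliser of `T` -/
theorem lt4o_normalizer_QT {T : Submodule F V} (g : ↥(SG Q))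
    (hg : ∀ t ∈ T, (g : ↥(Isom Q)) • t ∈ T) (hg' : ∀ t ∈ T, (g : ↥(Isom Q))⁻¹ • t ∈ T) :
    g ∈ Subgroup.normalizer ((lt4o_QT Q T : Subgroup ↥(SG Q)) : Set ↥(SG Q)) := by
  rw [Subgroup.mem_normalizer_iff]
  intro h
  rw [lt4o_mem_QT, lt4o_mem_QT]
  constructor
  · intro hh
    have := lt4o_conj_mem (g : ↥(Isom Q)) hg hg' hh
    simpa using this
  · intro hh
    have hh' : (g : ↥(Isom Q)) * (h : ↥(Isom Q)) * (g : ↥(Isom Q))⁻¹ ∈
        Subgroup.closure (lt4o_gens Q T) := by simpa using hh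
    have := lt4o_conj_mem ((g : ↥(Isom Q))⁻¹) hg' (by rw [inv_inv]; exact hg) hh'
    have e : (g : ↥(Isom Q))⁻¹ * ((g : ↥(Isom Q)) * (h : ↥(Isom Q)) * (g : ↥(Isom Q))⁻¹) *
        ((g : ↥(Isom Q))⁻¹)⁻¹ = (h : ↥(Isom Q)) := by group
    rwa [e] at this

end Cfsg.Agent.LT4
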