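import Mathlib
import Cfsg.Agent.LT4.OmA
import Cfsg.Agent.Helper8.Af13D

set_option autoImplicit false

/-!
# LT4 (S5012), orthogonal families, part B: the centraliser of the radical subgroup (helper8)

An isometry commuting with all Siegel transformations `ρ_{e,v}`, `e ∈ T`, `v ∈ T^⊥` (`T ≠ 0`
totally singular, dimension at least five), whose order is prime to the characteristic, is `±1`.
-/

namespace Cfsg.Agent.LT4

open Module Cfsg.Agent.Helper8.QuadForm Cfsg.Agent.Helper8.WittQuad
  Cfsg.Agent.Helper8.OrthOrder Cfsg.Agent.Helper8.Siegel Cfsg.Agent.Helper8.SiegelGroup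
  Cfsg.Agent.Helper8.OGenA Cfsg.Agent.Helper8.OGenB Cfsg.Agent.Helper8.OSt
  Cfsg.Agent.Helper8.Af13

variable {F : Type*} [Field F] {V : Type*} [AddCommGroup V] [Module F V]
variable {Q : QuadraticForm F V}

/-! ### linear algebra of the polar form -/

theorem lt4o_isRefl (Q : QuadraticForm F V) : (QuadraticMap.polarBilin Q).IsRefl := by
  intro a b h
  show QuadraticMap.polar Q b a = 0
  rw [QuadraticMap.polar_comm]
  exact h

theorem lt4o_finrank_perp [FiniteDimensional F V] (hQ : Nondeg Q) (T : Submodule F V) :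
    finrank F ↥(lt4o_perp Q T) = finrank F V - finrank F ↥T :=
  LinearMap.BilinForm.finrank_orthogonal ((nondeg_iff Q).mpr hQ) T

theorem lt4o_perp_perp [FiniteDimensional F V] (hQ : Nondeg Q) (T : Submodule F V) :
    lt4o_perp Q (lt4o_perp Q T) = T :=
  LinearMap.BilinForm.orthogonal_orthogonal ((nondeg_iff Q).mpr hQ) (lt4o_isRefl Q) T

/-- a totally singular subspace of a space of dimension at least five has an orthogonal complement
of dimension at least three -/
theorem lt4o_three_le_finrank_perp [FiniteDimensional F V] (hQ : Nondeg Q) (h5 : 5 ≤ finrank F V)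
    {T : Submodule F V} (hT : ∀ t ∈ T, Q t = 0) : 3 ≤ finrank F ↥(lt4o_perp Q T) := by
  have h1 := lt4o_finrank_perp hQ T
  have h2 : finrank F ↥T ≤ finrank F ↥(lt4o_perp Q T) :=
    Submodule.finrank_mono (lt4o_le_perp hT)
  have h3 : finrank F ↥T ≤ finrank F V := Submodule.finrank_le T
  omega

/-- a vector orthogonal to everything orthogonal to `e` and `y` lies in their span -/
theorem lt4o_mem_span_pair [FiniteDimensional F V] (hQ : Nondeg Q) {e y v : V}
    (h : ∀ z, QuadraticMap.polar Q z e = 0 → QuadraticMap.polar Q z y = 0 →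
      QuadraticMap.polar Q z v = 0) : v ∈ Submodule.span F ({e, y} : Set V) := by
  rw [← lt4o_perp_perp hQ (Submodule.span F ({e, y} : Set V))]
  intro z hz
  have h1 : QuadraticMap.polar Q e z = 0 :=
    hz e (Submodule.subset_span (Set.mem_insert _ _))
  have h2 : QuadraticMap.polar Q y z = 0 :=
    hz y (Submodule.subset_span (Set.mem_insert_of_mem _ (Set.mem_singleton _)))
  show QuadraticMap.polar Q z v = 0
  apply h z
  · rw [QuadraticMap.polar_comm]; exact h1
  · rw [QuadraticMap.polar_comm]; exact h2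

theorem lt4o_finrank_span_pair_le (e y : V) :
    finrank F ↥(Submodule.span F ({e, y} : Set V)) ≤ 2 := by
  classical
  have h1 := finrank_span_finset_le_card (R := F) ({e, y} : Finset V)
  have h2 : ({e, y} : Finset V).card ≤ 2 := Finset.card_le_two
  have h3 : ((({e, y} : Finset V) : Set V)) = ({e, y} : Set V) := by
    simp
  rw [h3] at h1
  have h4 : finrank F ↥(Submodule.span F ({e, y} : Set V)) ≤ ({e, y} : Finset V).card := h1
  omega

/-! ### the lines of `T` are fixed -/

/-- (L1) an isometry commuting with the generators fixes every line of `T` -/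
theorem lt4o_line [FiniteDimensional F V] (hQ : Nondeg Q) (h5 : 5 ≤ finrank F V)
    {T : Submodule F V} (hT : ∀ t ∈ T, Q t = 0) {x : ↥(Isom Q)}
    (hx : ∀ s ∈ lt4o_gens Q T, x * s = s * x) {e : V} (he : e ∈ T) (he0 : e ≠ 0) :
    ∃ c : F, x • e = c • e := by
  by_contra hne
  have hQe : Q e = 0 := hT e he
  have hall : ∀ v ∈ lt4o_perp Q T, v ∈ Submodule.span F ({e, x • e} : Set V) := by
    intro v hv
    apply lt4o_mem_span_pair hQ
    intro z hze hzy
    have hev : QuadraticMap.polar Q e v = 0 := hv e he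
    have hcomm : x * siegG Q e v = siegG Q e v * x := hx _ ⟨e, he, v, hv, rfl⟩
    have hkey := af13_key hQe hev hcomm hze hzy
    by_contra hzv
    apply hne
    -- e is a multiple of x • e, hence x • e is a multiple of e
    have h1 : e = ((QuadraticMap.polar Q z v)⁻¹ * QuadraticMap.polar Q z (x • v)) • (x • e) := by
      rw [mul_smul, hkey, smul_smul, inv_mul_cancel₀ hzv, one_smul]
    set a : F := (QuadraticMap.polar Q z v)⁻¹ * QuadraticMap.polar Q z (x • v) with ha
    have ha0 : a ≠ 0 := by
      intro h0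
      rw [h0, zero_smul] at h1
      exact he0 h1
    refine ⟨a⁻¹, ?_⟩
    conv_rhs => rw [h1]
    rw [smul_smul, inv_mul_cancel₀ ha0, one_smul]
  have hle : lt4o_perp Q T ≤ Submodule.span F ({e, x • e} : Set V) := hall
  have h1 := Submodule.finrank_mono hle
  have h2 := lt4o_finrank_span_pair_le (F := F) e (x • e)
  have h3 := lt4o_three_le_finrank_perp hQ h5 hT
  omega

/-! ### the scalar on `T` and the action on `T^⊥` -/

/-- (L2) modulo the fixed line, `c x` is the identity on `T^⊥` -/
theorem lt4o_sub (hQ : Nondeg Q) {T : Submodule F V} (hT : ∀ t ∈ T, Q t = 0) {x : ↥(Isom Q)}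
    (hx : ∀ s ∈ lt4o_gens Q T, x * s = s * x) {e : V} (he : e ∈ T) (he0 : e ≠ 0) {c : F}
    (hc : x • e = c • e) {v : V} (hv : v ∈ lt4o_perp Q T) :
    ∃ d : F, c • (x • v) - v = d • e := by
  have hQe : Q e = 0 := hT e he
  obtain ⟨f, -, hef⟩ := exists_hyperbolic_pair Q hQ he0 hQe
  have hfe : QuadraticMap.polar Q f e = 1 := by rw [QuadraticMap.polar_comm]; exact hef
  exact af13_smul_sub_mem hQe hfe (hv e he) hc (hx _ ⟨e, he, v, hv, rfl⟩)

/-- (L3) the scalar squares to one -/
theorem lt4o_scalar_sq [FiniteDimensional F V] (hQ : Nondeg Q) (h5 : 5 ≤ finrank F V)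
    {T : Submodule F V} (hT : ∀ t ∈ T, Q t = 0) {x : ↥(Isom Q)}
    (hx : ∀ s ∈ lt4o_gens Q T, x * s = s * x) {e : V} (he : e ∈ T) (he0 : e ≠ 0) {c : F}
    (hc : x • e = c • e) : c * c = 1 := by
  have hQe : Q e = 0 := hT e he
  by_cases hex : ∃ v ∈ lt4o_perp Q T, Q v ≠ 0
  · obtain ⟨v, hv, hQv⟩ := hex
    obtain ⟨d, hd⟩ := lt4o_sub hQ hT hx he he0 hc hv
    have h1 : c • (x • v) = v + d • e := by rw [← hd]; abel
    have h2 := congrArg Q h1
    have hve : QuadraticMap.polar Q v e = 0 := by
      rw [QuadraticMap.polar_comm]; exact hv e he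
    rw [QuadraticMap.map_smul, Q_smul, QuadraticMap.map_add Q, QuadraticMap.map_smul, hQe,
      QuadraticMap.polar_smul_right, hve] at h2
    simp only [smul_eq_mul, mul_zero, add_zero] at h2
    have h3 : (c * c - 1) * Q v = 0 := by rw [sub_mul, h2, one_mul, sub_self]
    rcases mul_eq_zero.mp h3 with h4 | h4
    · exact sub_eq_zero.mp h4
    · exact absurd h4 hQv
  · push Not at hex
    -- `T^⊥` is totally singular, hence equal to `T`
    have hle : lt4o_perp Q T ≤ T := by
      have h1 := lt4o_le_perp (Q := Q) (T := lt4o_perp Q T) hex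
      rwa [lt4o_perp_perp hQ] at h1
    have h3 : 3 ≤ finrank F ↥T :=
      le_trans (lt4o_three_le_finrank_perp hQ h5 hT) (Submodule.finrank_mono hle)
    -- a vector of `T` outside the line of `e`
    have hlt : Submodule.span F ({e} : Set V) < T := by
      refine lt_of_le_of_ne ?_ ?_
      · rw [Submodule.span_le]
        intro y hy
        rw [Set.mem_singleton_iff] at hy
        rw [hy]; exact he
      · intro heq
        have h4 : finrank F ↥(Submodule.span F ({e} : Set V)) ≤ 1 := by
          have := finrank_span_le_card (R := F) ({e} : Set V)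
          simpa using this
        rw [heq] at h4
        omega
    obtain ⟨e', he', hne'⟩ := SetLike.exists_of_lt hlt
    have hnot : ∀ a b : F, a • e' = b • e → a = 0 := by
      intro a b hab
      by_contra ha
      apply hne'
      rw [Submodule.mem_span_singleton]
      refine ⟨a⁻¹ * b, ?_⟩
      rw [mul_smul, ← hab, smul_smul, inv_mul_cancel₀ ha, one_smul]
    have he'0 : e' ≠ 0 := by
      intro h0
      apply hne'
      rw [h0]; exact Submodule.zero_mem _
    have hsum0 : e + e' ≠ 0 := by
      intro h0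
      have : (1 : F) • e' = (-1 : F) • e := by
        rw [one_smul, neg_smul, one_smul]
        exact eq_neg_of_add_eq_zero_right h0
      exact one_ne_zero (hnot 1 (-1) this)
    obtain ⟨c', hc'⟩ := lt4o_line hQ h5 hT hx he' he'0
    obtain ⟨c'', hc''⟩ := lt4o_line hQ h5 hT hx (T.add_mem he he') hsum0
    rw [smul_add, hc, hc', smul_add] at hc''
    have h4 : (c' - c'') • e' = (c'' - c) • e := by
      rw [sub_smul, sub_smul]
      have : c • e + c' • e' - (c'' • e + c'' • e') = 0 := sub_eq_zero.mpr hc''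
      rw [← sub_eq_zero]
      rw [← this]
      abel
    have h5' : c' = c'' := sub_eq_zero.mp (hnot _ _ h4)
    have h6 : c'' = c := by
      rw [h5', sub_self, zero_smul] at h4
      have := smul_eq_zero.mp h4.symm
      rcases this with h | h
      · exact sub_eq_zero.mp h
      · exact absurd h he0
    have hcc : c' = c := h5'.trans h6
    obtain ⟨d, hd⟩ := lt4o_sub hQ hT hx he he0 hc (lt4o_le_perp hT he')
    rw [hc', hcc, smul_smul] at hd
    have h7 : (c * c - 1) • e' = d • e := by rw [sub_smul, one_smul]; exact hd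
    exact sub_eq_zero.mp (hnot _ _ h7)

/-! ### unipotent isometries -/

/-- (L4) an isometry fixing `e`, acting trivially on `T^⊥` modulo `e`, has order dividing `p ^ 2` -/
theorem lt4o_pow_of_flag (p : ℕ) [Fact p.Prime] [CharP F p] {T : Submodule F V}
    (hT : ∀ t ∈ T, Q t = 0) {y : ↥(Isom Q)} {e : V} (he : e ∈ T) (hye : y • e = e)
    (hy : ∀ v ∈ lt4o_perp Q T, ∃ d : F, y • v - v = d • e) : y ^ p ^ 2 = 1 := by
  rcases subsingleton_or_nontrivial V with hV | hV
  · apply Subtype.ext
    apply LinearEquiv.ext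
    intro z
    exact Subsingleton.elim _ _
  have : CharP (Module.End F V) p :=
    charP_of_injective_algebraMap (algebraMap F (Module.End F V)).injective p
  set φ : (V ≃ₗ[F] V) →* Module.End F V :=
    LinearEquiv.automorphismGroup.toLinearMapMonoidHom with hφ
  set N : Module.End F V := φ (y : V ≃ₗ[F] V) - 1 with hN
  have hNz : ∀ z : V, N z = y • z - z := fun z => rfl
  -- a) the image of `N` is orthogonal to `e`
  have ha : ∀ z : V, QuadraticMap.polar Q e (N z) = 0 := by
    intro z
    have h1 := polar_smul_smul y e z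
    rw [hye] at h1
    rw [hNz, QuadraticMap.polar_sub_right, h1, sub_self]
  -- b) vectors orthogonal to `e` are mapped into `T^⊥`
  have hb : ∀ z : V, QuadraticMap.polar Q e z = 0 → N z ∈ lt4o_perp Q T := by
    intro z hz t ht
    obtain ⟨d, hd⟩ := hy t (lt4o_le_perp hT ht)
    have h1 : y • t = t + d • e := by rw [← hd]; abel
    have h2 := polar_smul_smul y t z
    have h3 := polar_smul_smul y e z
    rw [hye] at h3
    rw [h1, QuadraticMap.polar_add_left, QuadraticMap.polar_smul_left, h3, hz, smul_zero,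
      add_zero] at h2
    show QuadraticMap.polar Q t (N z) = 0
    rw [hNz, QuadraticMap.polar_sub_right, h2, sub_self]
  have hN4 : N ^ 4 = 0 := by
    apply LinearMap.ext
    intro z
    have h1 := ha z
    have h2 := hb (N z) h1
    obtain ⟨d, hd⟩ := hy (N (N z)) h2
    have h3 : N (N (N z)) = d • e := by rw [hNz (N (N z))]; exact hd
    have h4 : N (N (N (N z))) = 0 := by
      rw [h3, hNz, smul_comm, hye, sub_self]
    show (N ^ 4) z = 0
    rw [pow_succ, pow_succ, pow_succ, pow_one]
    exact h4
  have hφy : φ (y : V ≃ₗ[F] V) = 1 + N := by rw [hN]; abel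
  have hpow : φ ((y : V ≃ₗ[F] V) ^ p ^ 2) = 1 := by
    rw [map_pow, hφy, add_pow_char_pow_of_commute p 2 (Commute.one_left N), one_pow]
    have h4 : 4 ≤ p ^ 2 := by
      have := (Fact.out : p.Prime).two_le
      nlinarith
    obtain ⟨k, hk⟩ := Nat.exists_eq_add_of_le h4
    rw [hk, pow_add, hN4, zero_mul, add_zero]
  apply Subtype.ext
  rw [Subgroup.coe_pow, Subgroup.coe_one]
  apply LinearEquiv.ext
  intro z
  have := congrArg (fun f : Module.End F V => f z) hpow
  exact this

/-! ### the centraliser -/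

theorem lt4o_eq_one_of_pow {G : Type*} [Group G] {y : G} {a b : ℕ} (hab : Nat.Coprime a b)
    (ha : y ^ a = 1) (hb : y ^ b = 1) : y = 1 := by
  have h1 := orderOf_dvd_of_pow_eq_one ha
  have h2 := orderOf_dvd_of_pow_eq_one hb
  have h3 : orderOf y ∣ Nat.gcd a b := Nat.dvd_gcd h1 h2
  have h4 : Nat.gcd a b = 1 := hab
  rw [h4] at h3
  exact orderOf_eq_one_iff.mp (Nat.dvd_one.mp h3)

/-- (B) an isometry of order prime to the characteristic commuting with all the generators of
`Q_T` (`T ≠ 0` totally singular, dimension at least five) is `1` or `-1` -/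
theorem lt4o_centralizer_QT [FiniteDimensional F V] (p : ℕ) [Fact p.Prime] [CharP F p]
    (hQ : Nondeg Q) (h5 : 5 ≤ finrank F V) {T : Submodule F V} (hT : ∀ t ∈ T, Q t = 0)
    (hT0 : T ≠ ⊥) (x : ↥(Isom Q)) (hx : ∀ s ∈ lt4o_gens Q T, x * s = s * x)
    (hreg : ¬ p ∣ orderOf x) : x = 1 ∨ x = negI Q := by
  have hp : p.Prime := Fact.out
  obtain ⟨e, he, he0⟩ := Submodule.exists_mem_ne_zero_of_ne_bot hT0
  obtain ⟨c, hc⟩ := lt4o_line hQ h5 hT hx he he0
  have hcc := lt4o_scalar_sq hQ h5 hT hx he he0 hc
  have hm : x ^ orderOf x = 1 := pow_orderOf_eq_one x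
  have hpm : Nat.Coprime p (orderOf x) := (Nat.Prime.coprime_iff_not_dvd hp).mpr hreg
  have hcop : Nat.Coprime (p ^ 2) (orderOf x) := Nat.Coprime.pow_left 2 hpm
  rcases mul_self_eq_one_iff.mp hcc with h1 | h1
  · left
    have hy : ∀ v ∈ lt4o_perp Q T, ∃ d : F, x • v - v = d • e := by
      intro v hv
      obtain ⟨d, hd⟩ := lt4o_sub hQ hT hx he he0 hc hv
      rw [h1, one_smul] at hd
      exact ⟨d, hd⟩
    rw [h1, one_smul] at hc
    have hpow := lt4o_pow_of_flag p hT he hc hy
    exact lt4o_eq_one_of_pow hcop hpow hm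
  · have hye : (negI Q * x) • e = e := by
      rw [mul_smul, hc, h1, negI_smul, neg_smul, one_smul, neg_neg]
    have hy : ∀ v ∈ lt4o_perp Q T, ∃ d : F, (negI Q * x) • v - v = d • e := by
      intro v hv
      obtain ⟨d, hd⟩ := lt4o_sub hQ hT hx he he0 hc hv
      rw [h1, neg_smul, one_smul] at hd
      refine ⟨d, ?_⟩
      rw [mul_smul, negI_smul]
      exact hd
    have hpow := lt4o_pow_of_flag p hT he hye hy
    by_cases hp2 : p = 2
    · left
      subst hp2
      have hneg : negI Q = 1 := negI_eq_one_of_char_two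
      rw [hneg, one_mul] at hpow
      exact lt4o_eq_one_of_pow hcop hpow hm
    · right
      have hcomm : Commute (negI Q) x := negI_mul_comm x
      have h2m : (negI Q * x) ^ (2 * orderOf x) = 1 := by
        rw [hcomm.mul_pow, pow_mul, pow_two, negI_mul_self, one_pow, one_mul, mul_comm 2,
          pow_mul, hm, one_pow]
      have hp2' : Nat.Coprime p 2 :=
        (Nat.Prime.coprime_iff_not_dvd hp).mpr
          (fun h => hp2 ((Nat.prime_dvd_prime_iff_eq hp Nat.prime_two).mp h))
      have hcop2 : Nat.Coprime (p ^ 2) (2 * orderOf x) :=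
        Nat.Coprime.pow_left 2 (Nat.Coprime.mul_right hp2' hpm)
      have hy1 : negI Q * x = 1 := lt4o_eq_one_of_pow hcop2 hpow h2m
      calc x = (negI Q * negI Q) * x := by rw [negI_mul_self, one_mul]
        _ = negI Q * (negI Q * x) := mul_assoc _ _ _
        _ = negI Q * 1 := by rw [hy1]
        _ = negI Q := mul_one _

end Cfsg.Agent.LT4
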