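import Mathlib
import Cfsg.Agent.LT4.OmB
import Cfsg.Agent.Helper4.PGroupFixedVector
import Cfsg.Agent.Helper8.DicksonA
import Cfsg.Agent.Helper8.OStW

set_option autoImplicit false

/-!
# LT4 (S5012), orthogonal families, part C: the fixed space of a `p`-subgroup (helper8)

For a nontrivial `p`-subgroup `D` of the Siegel group of a nondegenerate quadratic space over a
finite field of characteristic `p`, the radical `W ∩ W^⊥` of the fixed space `W` of `D` is not zero;
in characteristic two it contains a nonzero singular vector (otherwise `D` would be generated by a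
reflection, which does not lie in the commutator subgroup of the isometry group).
-/

namespace Cfsg.Agent.LT4

open Module Cfsg.Agent.Helper8.QuadForm Cfsg.Agent.Helper8.WittQuad
  Cfsg.Agent.Helper8.OrthOrder Cfsg.Agent.Helper8.Siegel Cfsg.Agent.Helper8.SiegelGroup
  Cfsg.Agent.Helper8.OGenA Cfsg.Agent.Helper8.OGenB Cfsg.Agent.Helper8.OSt
  Cfsg.Agent.Helper8.Af13 Cfsg.Agent.Helper8.Dickson

variable {F : Type*} [Field F] {V : Type*} [AddCommGroup V] [Module F V]
variable {Q : QuadraticForm F V}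

/-- the fixed space of a subgroup of the Siegel group -/
def lt4o_fix (D : Subgroup ↥(SG Q)) : Submodule F V where
  carrier := {v | ∀ d ∈ D, ((d : ↥(SG Q)) : ↥(Isom Q)) • v = v}
  add_mem' := by
    intro a b ha hb d hd
    rw [smul_add, ha d hd, hb d hd]
  zero_mem' := by
    intro d _
    rw [smul_zero]
  smul_mem' := by
    intro c a ha d hd
    rw [smul_comm, ha d hd]

theorem lt4o_mem_fix {D : Subgroup ↥(SG Q)} {v : V} :
    v ∈ lt4o_fix D ↔ ∀ d ∈ D, ((d : ↥(SG Q)) : ↥(Isom Q)) • v = v := Iff.rfl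

theorem lt4o_finite_SG [Finite F] [FiniteDimensional F V] : Finite ↥(SG Q) := by
  have : Finite V := Module.finite_of_finite F
  have : Finite (V ≃ₗ[F] V) :=
    Finite.of_injective (fun g : V ≃ₗ[F] V => (g : V → V)) DFunLike.coe_injective
  infer_instance

/-- the action of `D` on the quotient by a stable subspace -/
noncomputable def lt4o_sigma (D : Subgroup ↥(SG Q)) (A : Submodule F V)
    (hA : ∀ d ∈ D, ∀ v ∈ A, ((d : ↥(SG Q)) : ↥(Isom Q)) • v ∈ A) :
    ↥D →* AddMonoid.End (V ⧸ A) where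
  toFun d := (A.mapQ A ((((d : ↥(SG Q)) : ↥(Isom Q)) : V ≃ₗ[F] V) : V →ₗ[F] V)
      (fun v hv => hA d d.2 v hv)).toAddMonoidHom
  map_one' := by
    apply AddMonoidHom.ext
    intro x
    obtain ⟨v, rfl⟩ := Submodule.Quotient.mk_surjective A x
    rfl
  map_mul' := by
    intro a b
    apply AddMonoidHom.ext
    intro x
    obtain ⟨v, rfl⟩ := Submodule.Quotient.mk_surjective A x
    rfl

theorem lt4o_sigma_mk (D : Subgroup ↥(SG Q)) (A : Submodule F V)
    (hA : ∀ d ∈ D, ∀ v ∈ A, ((d : ↥(SG Q)) : ↥(Isom Q)) • v ∈ A) (d : ↥D) (v : V) :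
    lt4o_sigma D A hA d (Submodule.Quotient.mk v)
      = Submodule.Quotient.mk ((((d : ↥(SG Q)) : ↥(Isom Q))) • v) := rfl

/-- a `p`-group stabilising subspaces `A < B` fixes a vector of `B` outside `A` modulo `A` -/
theorem lt4o_exists_fixed_mod [Finite F] [FiniteDimensional F V] (p : ℕ) [Fact p.Prime]
    [CharP F p] (D : Subgroup ↥(SG Q)) (hD : IsPGroup p D) (A B : Submodule F V) (hAB : A < B)
    (hA : ∀ d ∈ D, ∀ v ∈ A, ((d : ↥(SG Q)) : ↥(Isom Q)) • v ∈ A)
    (hB : ∀ d ∈ D, ∀ v ∈ B, ((d : ↥(SG Q)) : ↥(Isom Q)) • v ∈ B) :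
    ∃ u ∈ B, u ∉ A ∧ ∀ d ∈ D, ((d : ↥(SG Q)) : ↥(Isom Q)) • u - u ∈ A := by
  have hfin : Finite ↥(SG Q) := lt4o_finite_SG
  have hV : ∀ x : V ⧸ A, p • x = 0 := by
    intro x
    rw [← Nat.cast_smul_eq_nsmul F p x, CharP.cast_eq_zero F p, zero_smul]
  obtain ⟨b, hbB, hbA⟩ := SetLike.exists_of_lt hAB
  have hne : (B.map A.mkQ).toAddSubgroup ≠ ⊥ := by
    intro h
    have h1 : A.mkQ b ∈ (B.map A.mkQ).toAddSubgroup := Submodule.mem_map_of_mem hbB
    rw [h, AddSubgroup.mem_bot] at h1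
    exact hbA ((Submodule.Quotient.mk_eq_zero A).mp h1)
  have hU : ∀ g : ↥D, ∀ x ∈ (B.map A.mkQ).toAddSubgroup,
      lt4o_sigma D A hA g x ∈ (B.map A.mkQ).toAddSubgroup := by
    intro g x hx
    obtain ⟨u, huB, rfl⟩ := Submodule.mem_map.mp hx
    exact Submodule.mem_map_of_mem (hB g g.2 u huB)
  obtain ⟨x, hxU, hx0, hx⟩ := Cfsg.Agent.Helper4.exists_fixed_ne_zero_of_pgroup hD
    (lt4o_sigma D A hA) hV (B.map A.mkQ).toAddSubgroup hU hne
  obtain ⟨u, huB, rfl⟩ := Submodule.mem_map.mp hxU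
  refine ⟨u, huB, ?_, ?_⟩
  · intro huA
    exact hx0 ((Submodule.Quotient.mk_eq_zero A).mpr huA)
  · intro d hd
    have := hx ⟨d, hd⟩
    exact (Submodule.Quotient.eq A).mp this

/-- `D` stabilises the orthogonal complement of its fixed space -/
theorem lt4o_fix_stable_perp (D : Subgroup ↥(SG Q)) :
    ∀ d ∈ D, ∀ v ∈ lt4o_perp Q (lt4o_fix D),
      ((d : ↥(SG Q)) : ↥(Isom Q)) • v ∈ lt4o_perp Q (lt4o_fix D) := by
  intro d hd v hv t ht
  have h1 := polar_smul_smul ((d : ↥(SG Q)) : ↥(Isom Q)) t v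
  rw [ht d hd] at h1
  show QuadraticMap.polar Q t (((d : ↥(SG Q)) : ↥(Isom Q)) • v) = 0
  rw [h1]
  exact hv t ht

theorem lt4o_fix_ne_top {D : Subgroup ↥(SG Q)} (hD1 : D ≠ ⊥) : lt4o_fix D ≠ ⊤ := by
  intro h
  apply hD1
  rw [eq_bot_iff]
  intro d hd
  rw [Subgroup.mem_bot]
  apply Subtype.ext
  apply Subtype.ext
  apply LinearEquiv.ext
  intro v
  have : v ∈ lt4o_fix D := by rw [h]; exact Submodule.mem_top
  exact this d hd

/-- (C1) the radical of the fixed space is not zero -/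
theorem lt4o_rad_ne_bot [Finite F] [FiniteDimensional F V] (p : ℕ) [Fact p.Prime] [CharP F p]
    (hQ : Nondeg Q) (D : Subgroup ↥(SG Q)) (hD : IsPGroup p D) (hD1 : D ≠ ⊥) :
    lt4o_fix D ⊓ lt4o_perp Q (lt4o_fix D) ≠ ⊥ := by
  have hW := lt4o_fix_ne_top hD1
  have hperp : (⊥ : Submodule F V) < lt4o_perp Q (lt4o_fix D) := by
    rw [bot_lt_iff_ne_bot]
    intro h
    have h1 := lt4o_finrank_perp hQ (lt4o_fix D)
    rw [h, finrank_bot] at h1
    have h2 : finrank F ↥(lt4o_fix D) < finrank F V :=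
      Submodule.finrank_lt hW
    omega
  obtain ⟨u, huB, hu0, hu⟩ := lt4o_exists_fixed_mod p D hD ⊥ _ hperp
    (by
      intro d _ v hv
      rw [Submodule.mem_bot] at hv ⊢
      rw [hv, smul_zero])
    (lt4o_fix_stable_perp D)
  intro hbot
  apply hu0
  have h1 : u ∈ lt4o_fix D ⊓ lt4o_perp Q (lt4o_fix D) :=
    ⟨fun d hd => sub_eq_zero.mp ((Submodule.mem_bot F).mp (hu d hd)), huB⟩
  rw [hbot] at h1
  exact h1

/-- (C2) characteristic two: the radical of the fixed space contains a nonzero singular vector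
(otherwise `D` would be generated by a reflection, which is not in the Siegel group) -/
theorem lt4o_exists_singular_two [Fintype F] [FiniteDimensional F V] [CharP F 2]
    (hQ : Nondeg Q) (h5 : 5 ≤ finrank F V)
    (hgen : Subgroup.closure {g : ↥(Isom Q) | ∃ z, Q z ≠ 0 ∧ g = reflG Q z} = ⊤)
    (D : Subgroup ↥(SG Q)) (hD : IsPGroup 2 D) (hD1 : D ≠ ⊥) :
    ∃ r ∈ lt4o_fix D ⊓ lt4o_perp Q (lt4o_fix D), r ≠ 0 ∧ Q r = 0 := by
  by_contra hcon
  push Not at hcon
  have hF2 : Fact (Nat.Prime 2) := ⟨Nat.prime_two⟩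
  have hR := lt4o_rad_ne_bot 2 hQ D hD hD1
  obtain ⟨w, hwR, hw0⟩ := Submodule.exists_mem_ne_zero_of_ne_bot hR
  have hQw : Q w ≠ 0 := hcon w hwR hw0
  have hwW : w ∈ lt4o_fix D := hwR.1
  have hwP : w ∈ lt4o_perp Q (lt4o_fix D) := hwR.2
  have h2 : ∀ a : F, a + a = 0 := CharTwo.add_self_eq_zero
  -- the radical is the line of `w`
  have hRle : ∀ r ∈ lt4o_fix D ⊓ lt4o_perp Q (lt4o_fix D),
      r ∈ Submodule.span F ({w} : Set V) := by
    intro r hr
    obtain ⟨c, hc⟩ := FiniteField.isSquare_of_char_two (ringChar.eq F 2) (Q r / Q w)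
    have hr' : r + c • w ∈ lt4o_fix D ⊓ lt4o_perp Q (lt4o_fix D) :=
      Submodule.add_mem _ hr (Submodule.smul_mem _ c hwR)
    have hrw : QuadraticMap.polar Q r w = 0 := hwP r hr.1
    have hQr' : Q (r + c • w) = 0 := by
      rw [QuadraticMap.map_add Q, QuadraticMap.map_smul, QuadraticMap.polar_smul_right, hrw,
        smul_zero, add_zero, smul_eq_mul, ← hc, div_mul_cancel₀ _ hQw]
      exact h2 _
    have h0 : r + c • w = 0 := by
      by_contra hne
      exact hcon _ hr' hne hQr'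
    rw [Submodule.mem_span_singleton]
    refine ⟨-c, ?_⟩
    rw [neg_smul]
    exact (eq_neg_of_add_eq_zero_left h0).symm
  have hAle : Submodule.span F ({w} : Set V) ≤ lt4o_perp Q (lt4o_fix D) := by
    rw [Submodule.span_le]
    intro y hy
    rw [Set.mem_singleton_iff] at hy
    rw [hy]
    exact hwP
  -- the orthogonal complement of the fixed space is the line of `w`
  have hPle : lt4o_perp Q (lt4o_fix D) ≤ Submodule.span F ({w} : Set V) := by
    by_contra hnle
    have hlt : Submodule.span F ({w} : Set V) < lt4o_perp Q (lt4o_fix D) :=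
      lt_of_le_of_ne hAle (fun h => hnle (le_of_eq h.symm))
    have hstab : ∀ d ∈ D, ∀ v ∈ Submodule.span F ({w} : Set V),
        ((d : ↥(SG Q)) : ↥(Isom Q)) • v ∈ Submodule.span F ({w} : Set V) := by
      intro d hd v hv
      obtain ⟨a, rfl⟩ := Submodule.mem_span_singleton.mp hv
      rw [smul_comm, hwW d hd]
      exact Submodule.smul_mem _ a (Submodule.mem_span_singleton_self w)
    obtain ⟨u, huB, huA, hu⟩ := lt4o_exists_fixed_mod 2 D hD _ _ hlt hstab
      (lt4o_fix_stable_perp D)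
    apply huA
    apply hRle
    refine ⟨?_, huB⟩
    intro d hd
    obtain ⟨l, hl⟩ := Submodule.mem_span_singleton.mp (hu d hd)
    have h1 : ((d : ↥(SG Q)) : ↥(Isom Q)) • u = u + l • w := by rw [hl]; abel
    have huw : QuadraticMap.polar Q u w = 0 := by
      rw [QuadraticMap.polar_comm]
      exact huB w hwW
    have h3 := Q_smul ((d : ↥(SG Q)) : ↥(Isom Q)) u
    rw [h1, QuadraticMap.map_add Q, QuadraticMap.map_smul, QuadraticMap.polar_smul_right, huw,
      smul_zero, add_zero, smul_eq_mul] at h3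
    have h4 : l * l * Q w = 0 := by
      have := congrArg (fun t => t - Q u) h3
      simpa using this
    have hl0 : l = 0 := by
      rcases mul_eq_zero.mp h4 with h | h
      · exact mul_self_eq_zero.mp h
      · exact absurd h hQw
    rw [h1, hl0, zero_smul, add_zero]
  have hPeq : lt4o_perp Q (lt4o_fix D) = Submodule.span F ({w} : Set V) := le_antisymm hPle hAle
  -- the fixed space is the hyperplane orthogonal to `w`
  have hWeq : ∀ v, QuadraticMap.polar Q w v = 0 → v ∈ lt4o_fix D := by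
    intro v hv
    have h1 : v ∈ lt4o_perp Q (lt4o_perp Q (lt4o_fix D)) := by
      rw [hPeq]
      intro t ht
      obtain ⟨a, rfl⟩ := Submodule.mem_span_singleton.mp ht
      show QuadraticMap.polar Q (a • w) v = 0
      rw [QuadraticMap.polar_smul_left, hv, smul_zero]
    rwa [lt4o_perp_perp hQ] at h1
  obtain ⟨d, hdD, hd1⟩ : ∃ d ∈ D, d ≠ 1 := by
    by_contra h
    push Not at h
    apply hD1
    rw [eq_bot_iff]
    intro d hd
    rw [Subgroup.mem_bot]
    exact h d hd
  have hgW : ∀ v ∈ lt4o_fix D, ((d : ↥(SG Q)) : ↥(Isom Q)) • v = v := fun v hv => hv d hdD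
  obtain ⟨z₀, hz₀⟩ : ∃ z₀, QuadraticMap.polar Q w z₀ ≠ 0 := by
    by_contra h
    push Not at h
    exact hw0 (hQ w h)
  have hdec : ∀ z : V,
      z - (QuadraticMap.polar Q w z / QuadraticMap.polar Q w z₀) • z₀ ∈ lt4o_fix D := by
    intro z
    apply hWeq
    rw [QuadraticMap.polar_sub_right, QuadraticMap.polar_smul_right, smul_eq_mul,
      div_mul_cancel₀ _ hz₀, sub_self]
  -- two isometries agreeing on the hyperplane and on `z₀` are equal
  have hext : ∀ g₁ g₂ : ↥(Isom Q), (∀ v ∈ lt4o_fix D, g₁ • v = g₂ • v) → g₁ • z₀ = g₂ • z₀ →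
      g₁ = g₂ := by
    intro g₁ g₂ h1 h2'
    apply Subtype.ext
    apply LinearEquiv.ext
    intro z
    have h3 := h1 _ (hdec z)
    rw [smul_sub, smul_sub, smul_comm g₁, smul_comm g₂, h2'] at h3
    exact sub_left_injective h3
  have hgz : ((d : ↥(SG Q)) : ↥(Isom Q)) • z₀ - z₀ ∈ lt4o_perp Q (lt4o_fix D) := by
    intro t ht
    show QuadraticMap.polar Q t (((d : ↥(SG Q)) : ↥(Isom Q)) • z₀ - z₀) = 0
    have h1 := polar_smul_smul ((d : ↥(SG Q)) : ↥(Isom Q)) t z₀
    rw [hgW t ht] at h1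
    rw [QuadraticMap.polar_sub_right, h1, sub_self]
  rw [hPeq] at hgz
  obtain ⟨l, hl⟩ := Submodule.mem_span_singleton.mp hgz
  have h1 : ((d : ↥(SG Q)) : ↥(Isom Q)) • z₀ = z₀ + l • w := by rw [hl]; abel
  have h3 := Q_smul ((d : ↥(SG Q)) : ↥(Isom Q)) z₀
  rw [h1, QuadraticMap.map_add Q, QuadraticMap.map_smul, QuadraticMap.polar_smul_right,
    QuadraticMap.polar_comm, smul_eq_mul, smul_eq_mul] at h3
  have h4 : l * (l * Q w + QuadraticMap.polar Q w z₀) = 0 := by linear_combination h3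
  rcases mul_eq_zero.mp h4 with hl0 | hl1
  · -- `d` fixes `z₀`, hence is trivial
    apply hd1
    have h5' : ((d : ↥(SG Q)) : ↥(Isom Q)) = 1 :=
      hext _ 1 (fun v hv => by rw [hgW v hv, one_smul])
        (by rw [h1, hl0, zero_smul, add_zero, one_smul])
    apply Subtype.ext
    rw [h5', Subgroup.coe_one]
  · -- `d` is the reflection in `w`
    have hl' : l = -(QuadraticMap.polar Q w z₀ / Q w) := by
      field_simp
      linear_combination hl1
    have hgr : ((d : ↥(SG Q)) : ↥(Isom Q)) = reflG Q w := by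
      apply hext
      · intro v hv
        have hwv : QuadraticMap.polar Q w v = 0 := by
          rw [QuadraticMap.polar_comm]
          exact hwP v hv
        rw [hgW v hv, reflG_smul_of_perp hwv]
      · rw [h1, reflG_smul_eq, hl', neg_smul, sub_eq_add_neg]
    have hmem : reflG Q w ∈ SG Q := by
      rw [← hgr]
      exact d.2
    have hcomm := SG_le_commutator Q hQ h5 hmem
    exact reflG_not_mem_commutator hQ hgen hQw (Subgroup.commutator_mono le_top le_top hcomm)

end Cfsg.Agent.LT4
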