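import Mathlib
import Cfsg.Agent.LT4.OmC
import Cfsg.Agent.LT4.FixGen

set_option autoImplicit false

/-!
# LT4 (S5012), orthogonal families, part D: the radical property of the Siegel group (helper8)

`D = O_p(N(D)) ≠ 1` a `p`-subgroup of the Siegel group `SG Q = Ω(Q)` of a nondegenerate quadratic
space of dimension at least five over a finite field of characteristic `p`: the `p`-regular elements
of the centraliser of `D` are central.  (`T` = the singular vectors of the radical of the fixed space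
of `D`, a nonzero totally singular subspace stabilised by `N(D)`; `Q_T` is a `p`-subgroup normalised
by `N(D)` whose centraliser has only `±1` as `p`-regular elements.)
-/

namespace Cfsg.Agent.LT4

open Module Cfsg.Agent.Helper8.QuadForm Cfsg.Agent.Helper8.WittQuad
  Cfsg.Agent.Helper8.OrthOrder Cfsg.Agent.Helper8.Siegel Cfsg.Agent.Helper8.SiegelGroup
  Cfsg.Agent.Helper8.OGenA Cfsg.Agent.Helper8.OGenB Cfsg.Agent.Helper8.OSt
  Cfsg.Agent.Helper8.Af13 Cfsg.Agent.Helper8.Dickson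

variable {F : Type*} [Field F] {V : Type*} [AddCommGroup V] [Module F V]
variable {Q : QuadraticForm F V}

/-- the singular vectors of the radical of the fixed space -/
def lt4o_T (D : Subgroup ↥(SG Q)) : Submodule F V where
  carrier := {r | r ∈ lt4o_fix D ⊓ lt4o_perp Q (lt4o_fix D) ∧ Q r = 0}
  add_mem' := by
    rintro a b ⟨ha, hQa⟩ ⟨hb, hQb⟩
    refine ⟨Submodule.add_mem _ ha hb, ?_⟩
    have hab : QuadraticMap.polar Q a b = 0 := hb.2 a ha.1
    rw [QuadraticMap.map_add Q, hQa, hQb, hab, add_zero, add_zero]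
  zero_mem' := ⟨Submodule.zero_mem _, QuadraticMap.map_zero Q⟩
  smul_mem' := by
    rintro c a ⟨ha, hQa⟩
    refine ⟨Submodule.smul_mem _ c ha, ?_⟩
    rw [QuadraticMap.map_smul, hQa, smul_zero]

theorem lt4o_mem_T {D : Subgroup ↥(SG Q)} {r : V} :
    r ∈ lt4o_T D ↔ r ∈ lt4o_fix D ⊓ lt4o_perp Q (lt4o_fix D) ∧ Q r = 0 := Iff.rfl

theorem lt4o_T_ne_bot [Fintype F] [FiniteDimensional F V] (p : ℕ) [Fact p.Prime] [CharP F p]
    (hQ : Nondeg Q) (h5 : 5 ≤ finrank F V)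
    (hgen : Subgroup.closure {g : ↥(Isom Q) | ∃ z, Q z ≠ 0 ∧ g = reflG Q z} = ⊤)
    (D : Subgroup ↥(SG Q)) (hD : IsPGroup p D) (hD1 : D ≠ ⊥) : lt4o_T D ≠ ⊥ := by
  by_cases hp2 : p = 2
  · subst hp2
    obtain ⟨r, hr, hr0, hQr⟩ := lt4o_exists_singular_two hQ h5 hgen D hD hD1
    intro h
    have h1 : r ∈ lt4o_T D := ⟨hr, hQr⟩
    rw [h, Submodule.mem_bot] at h1
    exact hr0 h1
  · obtain ⟨r, hr, hr0⟩ :=
      Submodule.exists_mem_ne_zero_of_ne_bot (lt4o_rad_ne_bot p hQ D hD hD1)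
    have h2 : (2 : F) ≠ 0 := by
      intro h
      have h' : ((2 : ℕ) : F) = 0 := by exact_mod_cast h
      have h3 := (CharP.cast_eq_zero_iff F p 2).mp h'
      exact hp2 ((Nat.prime_dvd_prime_iff_eq Fact.out Nat.prime_two).mp h3)
    have hQr : Q r = 0 := by
      have h1 : QuadraticMap.polar Q r r = 0 := hr.2 r hr.1
      rw [polar_self'] at h1
      exact (mul_eq_zero.mp h1).resolve_left h2
    intro h
    have h1 : r ∈ lt4o_T D := ⟨hr, hQr⟩
    rw [h, Submodule.mem_bot] at h1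
    exact hr0 h1

/-- the normaliser of `D` stabilises the fixed space -/
theorem lt4o_normalizer_fix {D : Subgroup ↥(SG Q)} {g : ↥(SG Q)}
    (hg : g ∈ Subgroup.normalizer (D : Set ↥(SG Q))) {v : V} (hv : v ∈ lt4o_fix D) :
    ((g : ↥(SG Q)) : ↥(Isom Q)) • v ∈ lt4o_fix D := by
  intro d hd
  have hg' : g⁻¹ ∈ Subgroup.normalizer (D : Set ↥(SG Q)) := Subgroup.inv_mem _ hg
  have h1 : g⁻¹ * d * g⁻¹⁻¹ ∈ D := (Subgroup.mem_normalizer_iff.mp hg' d).mp hd
  rw [inv_inv] at h1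
  have h2 := hv _ h1
  have h3 : d * g = g * (g⁻¹ * d * g) := by group
  calc ((d : ↥(SG Q)) : ↥(Isom Q)) • ((g : ↥(SG Q)) : ↥(Isom Q)) • v
      = ((d * g : ↥(SG Q)) : ↥(Isom Q)) • v := by rw [Subgroup.coe_mul, mul_smul]
    _ = ((g * (g⁻¹ * d * g) : ↥(SG Q)) : ↥(Isom Q)) • v := by rw [← h3]
    _ = ((g : ↥(SG Q)) : ↥(Isom Q)) • ((g⁻¹ * d * g : ↥(SG Q)) : ↥(Isom Q)) • v := by
      rw [Subgroup.coe_mul, mul_smul]
    _ = ((g : ↥(SG Q)) : ↥(Isom Q)) • v := by rw [h2]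

/-- the normaliser of `D` stabilises the orthogonal complement of the fixed space -/
theorem lt4o_normalizer_perp {D : Subgroup ↥(SG Q)} {g : ↥(SG Q)}
    (hg : g ∈ Subgroup.normalizer (D : Set ↥(SG Q))) {v : V}
    (hv : v ∈ lt4o_perp Q (lt4o_fix D)) :
    ((g : ↥(SG Q)) : ↥(Isom Q)) • v ∈ lt4o_perp Q (lt4o_fix D) := by
  intro t ht
  show QuadraticMap.polar Q t (((g : ↥(SG Q)) : ↥(Isom Q)) • v) = 0
  have hg' : g⁻¹ ∈ Subgroup.normalizer (D : Set ↥(SG Q)) := Subgroup.inv_mem _ hg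
  have h1 := lt4o_normalizer_fix hg' ht
  have h2 := polar_smul_smul ((g : ↥(SG Q)) : ↥(Isom Q)) (((g⁻¹ : ↥(SG Q)) : ↥(Isom Q)) • t) v
  have h3 : ((g : ↥(SG Q)) : ↥(Isom Q)) • ((g⁻¹ : ↥(SG Q)) : ↥(Isom Q)) • t = t := by
    rw [← mul_smul, ← Subgroup.coe_mul, mul_inv_cancel, Subgroup.coe_one, one_smul]
  rw [h3] at h2
  rw [h2]
  exact hv _ h1

/-- the normaliser of `D` stabilises `T` -/
theorem lt4o_normalizer_T {D : Subgroup ↥(SG Q)} {g : ↥(SG Q)}
    (hg : g ∈ Subgroup.normalizer (D : Set ↥(SG Q))) {t : V} (ht : t ∈ lt4o_T D) :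
    ((g : ↥(SG Q)) : ↥(Isom Q)) • t ∈ lt4o_T D :=
  ⟨⟨lt4o_normalizer_fix hg ht.1.1, lt4o_normalizer_perp hg ht.1.2⟩, by rw [Q_smul]; exact ht.2⟩

/-- (D) **the radical property of the Siegel group** -/
theorem lt4o_rad_SG [Fintype F] [FiniteDimensional F V] (p : ℕ) [Fact p.Prime] [CharP F p]
    (hQ : Nondeg Q) (h5 : 5 ≤ finrank F V)
    (hgen : Subgroup.closure {g : ↥(Isom Q) | ∃ z, Q z ≠ 0 ∧ g = reflG Q z} = ⊤)
    (D : Subgroup ↥(SG Q)) (hDp : IsPGroup p D) (hD1 : D ≠ ⊥)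
    (hrad : (Cfsg.pCore p ↥(Subgroup.normalizer (D : Set ↥(SG Q)))).map
      (Subgroup.normalizer (D : Set ↥(SG Q))).subtype = D)
    (x : ↥(SG Q)) (hx : x ∈ Subgroup.centralizer (D : Set ↥(SG Q))) (hreg : ¬ p ∣ orderOf x) :
    x ∈ Subgroup.center ↥(SG Q) := by
  have hfin : Finite ↥(SG Q) := lt4o_finite_SG
  have hT : ∀ t ∈ lt4o_T D, Q t = 0 := fun t ht => ht.2
  have hT0 := lt4o_T_ne_bot p hQ h5 hgen D hDp hD1
  refine lt4_rad_of_Q p D (lt4o_QT Q (lt4o_T D)) hDp (lt4o_isPGroup_QT p hT) hrad ?_ ?_ x hx hreg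
  · intro g hg
    apply lt4o_normalizer_QT g
    · intro t ht
      exact lt4o_normalizer_T hg ht
    · intro t ht
      have h1 := lt4o_normalizer_T (Subgroup.inv_mem _ hg) ht
      rwa [Subgroup.coe_inv] at h1
  · intro y hy hyreg
    have hcomm : ∀ s ∈ lt4o_gens Q (lt4o_T D),
        ((y : ↥(SG Q)) : ↥(Isom Q)) * s = s * ((y : ↥(SG Q)) : ↥(Isom Q)) := by
      intro s hs
      have hsc : s ∈ Subgroup.closure (lt4o_gens Q (lt4o_T D)) := Subgroup.subset_closure hs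
      obtain ⟨e, he, v, hv, rfl⟩ := hs
      have hsSG : siegG Q e v ∈ SG Q := siegG_mem_SG Q (hT e he) (hv e he)
      have hmem : (⟨siegG Q e v, hsSG⟩ : ↥(SG Q)) ∈ lt4o_QT Q (lt4o_T D) :=
        (lt4o_mem_QT _).mpr hsc
      have h1 := Subgroup.mem_centralizer_iff.mp hy _ hmem
      exact (congrArg Subtype.val h1).symm
    have hyord : ¬ p ∣ orderOf ((y : ↥(SG Q)) : ↥(Isom Q)) := by
      rwa [Subgroup.orderOf_coe]
    rcases lt4o_centralizer_QT p hQ h5 hT hT0 _ hcomm hyord with h | h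
    · have h1 : y = 1 := Subtype.ext h
      rw [h1]
      exact Subgroup.one_mem _
    · rw [Subgroup.mem_center_iff]
      intro z
      apply Subtype.ext
      rw [Subgroup.coe_mul, Subgroup.coe_mul, h]
      exact (negI_mul_comm _).symm

end Cfsg.Agent.LT4
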