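import Mathlib
import Cfsg.Agent.S0906
import Cfsg.Agent.S0908
import Cfsg.Agent.S0955
import Cfsg.Agent.S0956

set_option autoImplicit false

/-!
# LT4 (S5012), route (A): the radical property gives "defect zero or full" (helper7)

`lt4_RadProp p X`: for every non-trivial radical `p`-subgroup `D` of `X` (radical in the shape
`O_p(N_X(D)) = D` used by `Cfsg.Agent.SLBlk.l_radical_SL` and `Cfsg.Agent.LT4.lt4_rad_of_Q`), the
`p`-regular elements of `C_X(D)` are central in `X`.  `lt4_defect_of_rad`: then every `p`-block
of `X` has defect `0` or the full defect.  This is lead's `SLBlk.l_defect` with `l_radical_SL`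
abstracted.
-/

namespace Cfsg.Agent.LT4

open Subgroup

/-- The radical property: `p`-regular elements centralising a non-trivial radical `p`-subgroup
are central. -/
def lt4_RadProp (p : ℕ) (X : Type*) [Group X] : Prop :=
  ∀ D : Subgroup X, IsPGroup p D → D ≠ ⊥ →
    (Cfsg.pCore p ↥(normalizer (D : Set X))).map (normalizer (D : Set X)).subtype = D →
    ∀ x ∈ centralizer (D : Set X), ¬ p ∣ orderOf x → x ∈ center X

/-- The radical property gives: every `p`-block has defect `0` or the full defect. -/
theorem lt4_defect_of_rad {X : Type*} [Group X] [Finite X] (p : ℕ) [Fact p.Prime]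
    (hX : lt4_RadProp p X) (M : Ideal Cfsg.AlgInt) (hM : Cfsg.IsPModular p M)
    (B : Set (Cfsg.IrrCharacter X)) (hB : Cfsg.IsPBlock M B) :
    Cfsg.blockDefect p B = 0 ∨ Cfsg.blockDefect p B = (Nat.card X).factorization p := by
  have hp : p.Prime := Fact.out
  obtain ⟨g, hg⟩ := Cfsg.Agent.S0906.result p M hM B hB
  obtain ⟨P0⟩ : Nonempty (Sylow p ↥(centralizer ({g} : Set X))) := inferInstance
  obtain ⟨D, hDdef⟩ : ∃ D : Subgroup X,
      D = (P0 : Subgroup ↥(centralizer ({g} : Set X))).map
        (centralizer ({g} : Set X)).subtype := ⟨_, rfl⟩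
  have hDG : Cfsg.IsDefectGroup p M B D := ⟨g, hg, P0, hDdef⟩
  have hcard := Cfsg.Agent.S0908.result p M hM B hB D hDG
  have hrad := Cfsg.Agent.S0955.result p M hM B hB D hDG
  have hDp : IsPGroup p D := by
    rw [hDdef]
    exact P0.isPGroup'.map _
  obtain ⟨P, hDP⟩ := hDp.exists_le_sylow
  obtain ⟨x, hxreg, ⟨S, hS⟩, -⟩ := Cfsg.Agent.S0956.result p M hM B hB D hDG P hDP
  by_cases hD : D = ⊥
  · left
    rw [hD, Subgroup.card_bot] at hcard
    by_contra h0
    have : 1 < p ^ Cfsg.blockDefect p B := Nat.one_lt_pow h0 hp.one_lt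
    omega
  · right
    have hxc : x ∈ centralizer (D : Set X) := by
      rw [mem_centralizer_iff]
      intro d hd
      rw [← hS] at hd
      obtain ⟨y, -, rfl⟩ := hd
      have := y.2
      rw [mem_centralizer_iff] at this
      exact (this x (Set.mem_singleton x)).symm
    have hxz := hX D hDp hD hrad x hxc hxreg
    have htop : centralizer ({x} : Set X) = ⊤ := by
      rw [eq_top_iff]
      intro y _
      rw [mem_centralizer_iff]
      intro z hz
      rw [Set.mem_singleton_iff] at hz
      rw [hz]
      exact (Subgroup.mem_center_iff.mp hxz y).symm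
    have hcS : Nat.card D = Nat.card (S : Subgroup ↥(centralizer ({x} : Set X))) := by
      rw [← hS]
      exact Subgroup.card_map_of_injective (Subgroup.subtype_injective _)
    have hcC : Nat.card ↥(centralizer ({x} : Set X)) = Nat.card X := by
      rw [htop]
      exact Subgroup.card_top
    have hS2 := Sylow.card_eq_multiplicity S
    rw [hcC] at hS2
    rw [hcS, hS2] at hcard
    exact (Nat.pow_right_injective hp.two_le hcard).symm

end Cfsg.Agent.LT4
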