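import Mathlib
import Cfsg.Prelude.Def_Solvable
import Cfsg.Agent.Helper9.Core
import Cfsg.Agent.SLBlk.L_RadA
import Cfsg.Agent.LT4.Rad

set_option autoImplicit false

/-!
# LT4 (G2): the radical property passes to central quotients (helper6)

`lt4_RadProp p X` (helper7, `LT4/Rad.lean`): every `p`-regular element centralising a
nontrivial radical `p`-subgroup `D = O_p(N_X(D))` is central.  We prove that it is inherited by
`Y` along any surjective homomorphism `f : X →* Y` with central kernel (`lt4_rad_map`), in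
particular by `X ⧸ Z` for `Z ≤ Z(X)` (`lt4_rad_quot`), with NO condition on `|Z|`, and along
isomorphisms (`lt4_rad_iso`).
-/

namespace Cfsg.Agent.LT4

open Subgroup

section aux

variable {G : Type*} [Group G]

/-- A cyclic group generated by an element killed by a power of `p` is a `p`-group. -/
theorem lt4q_zpowers_isPGroup (p : ℕ) [hp : Fact p.Prime] (g : G) (k : ℕ) (hg : g ^ p ^ k = 1) :
    IsPGroup p (zpowers g) := by
  obtain ⟨j, -, hj⟩ := (Nat.dvd_prime_pow hp.out).1 (orderOf_dvd_of_pow_eq_one hg)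
  exact IsPGroup.of_card (n := j) (by rw [Nat.card_zpowers, hj])

/-- In a group with a normal Sylow `p`-subgroup `P`, every `p`-element lies in `P`. -/
theorem lt4q_mem_normal_sylow (p : ℕ) [hp : Fact p.Prime] (P : Sylow p G)
    [hn : (P : Subgroup G).Normal] (g : G) (k : ℕ) (hg : g ^ p ^ k = 1) : g ∈ (P : Subgroup G) := by
  have hz := lt4q_zpowers_isPGroup p g k hg
  have h1 : IsPGroup p ↥((P : Subgroup G) ⊔ zpowers g) := P.isPGroup'.to_sup_of_normal_left hz
  have h2 := P.is_maximal' h1 le_sup_left
  have h3 : g ∈ (P : Subgroup G) ⊔ zpowers g := (le_sup_right : zpowers g ≤ _) (mem_zpowers g)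
  rwa [h2] at h3

/-- Central commutators are multiplicative in the right variable. -/
theorem lt4q_comm_pow_right {x d z : G} (hz : ∀ g : G, z * g = g * z) (h : x * d = z * d * x)
    (n : ℕ) : x * d ^ n = z ^ n * d ^ n * x := by
  induction n with
  | zero => simp
  | succ n ih =>
    have hzn : ∀ g : G, z ^ n * g = g * z ^ n := fun g => ((Commute.pow_left (hz g) n)).eq
    calc x * d ^ (n + 1) = (x * d ^ n) * d := by rw [pow_succ, mul_assoc]
      _ = z ^ n * d ^ n * (x * d) := by rw [ih]; simp only [mul_assoc]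
      _ = z ^ n * d ^ n * (z * d * x) := by rw [h]
      _ = z ^ n * (d ^ n * z) * d * x := by simp only [mul_assoc]
      _ = z ^ n * (z * d ^ n) * d * x := by rw [hz (d ^ n)]
      _ = z ^ (n + 1) * d ^ (n + 1) * x := by rw [pow_succ, pow_succ]; simp only [mul_assoc]

/-- Central commutators are multiplicative in the left variable. -/
theorem lt4q_comm_pow_left {x d z : G} (hz : ∀ g : G, z * g = g * z) (h : x * d = z * d * x)
    (n : ℕ) : x ^ n * d = z ^ n * d * x ^ n := by
  induction n with
  | zero => simp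
  | succ n ih =>
    have hzn : ∀ g : G, z ^ n * g = g * z ^ n := fun g => ((Commute.pow_left (hz g) n)).eq
    calc x ^ (n + 1) * d = x * (x ^ n * d) := by rw [pow_succ', mul_assoc]
      _ = x * (z ^ n * d * x ^ n) := by rw [ih]
      _ = (x * z ^ n) * d * x ^ n := by simp only [mul_assoc]
      _ = z ^ n * (x * d) * x ^ n := by rw [← hzn x]; simp only [mul_assoc]
      _ = z ^ n * (z * d * x) * x ^ n := by rw [h]
      _ = z ^ (n + 1) * d * x ^ (n + 1) := by
        rw [pow_succ z, pow_succ' x]; simp only [mul_assoc]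

/-- Lifting along a homomorphism from a finite group with control of the order: if
`|X| ∣ u * v` and `u` is coprime to the order of `y = f x`, then `y` has a preimage killed by `v`. -/
theorem lt4q_lift {X Y : Type*} [Group X] [Group Y] [Finite X] (f : X →* Y) (x : X) (u v : ℕ)
    (huv : Nat.card X ∣ u * v) (hc : u.Coprime (orderOf (f x))) :
    ∃ x' : X, f x' = f x ∧ x' ^ v = 1 := by
  obtain ⟨k, hk⟩ := exists_pow_eq_self_of_coprime hc
  refine ⟨(x ^ u) ^ k, by rw [map_pow, map_pow, hk], ?_⟩
  have h1 : x ^ (u * v) = 1 := by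
    obtain ⟨c, hc'⟩ := huv
    rw [hc', pow_mul, pow_card_eq_one', one_pow]
  calc ((x ^ u) ^ k) ^ v = (x ^ (u * v)) ^ k := by
        rw [← pow_mul, ← pow_mul, ← pow_mul]; congr 1; ring
    _ = 1 := by rw [h1, one_pow]

end aux

variable {X Y : Type*} [Group X] [Group Y]

/-- **G2, general form**: the radical property is inherited along a surjective homomorphism with
central kernel. -/
theorem lt4_rad_map [Finite X] (p : ℕ) [hp : Fact p.Prime] (h : lt4_RadProp p X) (f : X →* Y)
    (hf : Function.Surjective f) (hker : f.ker ≤ center X) :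
    lt4_RadProp p Y := by
  intro Dbar hDbp hDbne hDbrad ybar hyb hybreg
  have : Finite Y := Finite.of_surjective f hf
  have hp' : p.Prime := hp.out
  have hcardX : Nat.card X ≠ 0 := Nat.card_pos.ne'
  set a : ℕ := ordProj[p] (Nat.card X) with ha
  set m : ℕ := ordCompl[p] (Nat.card X) with hm
  have ham : a * m = Nat.card X := Nat.ordProj_mul_ordCompl_eq_self _ _
  have hpm : ¬ p ∣ m := Nat.not_dvd_ordCompl hp' hcardX
  have hcopm : p.Coprime m := (Nat.Prime.coprime_iff_not_dvd hp').2 hpm
  -- the full preimage of `Dbar`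
  set D₁ : Subgroup X := Dbar.comap f with hD₁
  -- nilpotency of `D₁`
  let φ : ↥D₁ →* ↥Dbar := (f.comp D₁.subtype).codRestrict Dbar (fun x => x.2)
  have hφker : φ.ker ≤ center ↥D₁ := by
    intro e he
    rw [MonoidHom.mem_ker] at he
    have he' : f (e : X) = 1 := congrArg Subtype.val he
    have hc : (e : X) ∈ center X := hker (by rw [MonoidHom.mem_ker]; exact he')
    rw [mem_center_iff] at hc ⊢
    intro g
    exact Subtype.ext (hc (g : X))
  have : Finite ↥Dbar := inferInstance
  have hnilD : Group.IsNilpotent ↥Dbar := hDbp.isNilpotent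
  have hnil : Group.IsNilpotent ↥D₁ := Subgroup.isNilpotent_of_ker_le_center φ hφker
  obtain ⟨P⟩ := (inferInstance : Nonempty (Sylow p ↥D₁))
  have hPn : (P : Subgroup ↥D₁).Normal := inferInstance
  set D : Subgroup X := (P : Subgroup ↥D₁).map D₁.subtype with hD
  have hDp : IsPGroup p D := P.isPGroup'.map _
  have hDle : D ≤ D₁ := map_subtype_le _
  -- (c) every `p`-element of `D₁` lies in `D`
  have hc : ∀ x ∈ D₁, ∀ k : ℕ, x ^ p ^ k = 1 → x ∈ D := by
    intro x hx k hxk
    have h1 : (⟨x, hx⟩ : ↥D₁) ^ p ^ k = 1 := Subtype.ext (by simpa using hxk)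
    have h2 := lt4q_mem_normal_sylow p P ⟨x, hx⟩ k h1
    exact mem_map.2 ⟨⟨x, hx⟩, h2, rfl⟩
  have hDpow : ∀ d ∈ D, ∃ k : ℕ, d ^ p ^ k = 1 := by
    intro d hd
    obtain ⟨k, hk⟩ := hDp ⟨d, hd⟩
    exact ⟨k, by simpa using congrArg Subtype.val hk⟩
  -- (d) `f(D) = Dbar`
  have hmapD : D.map f = Dbar := by
    apply le_antisymm
    · rintro _ ⟨d, hd, rfl⟩
      exact hDle hd
    · intro yb hyb'
      obtain ⟨x, rfl⟩ := hf yb
      obtain ⟨k, hk⟩ := hDbp ⟨f x, hyb'⟩
      have hk' : (f x) ^ p ^ k = 1 := by simpa using congrArg Subtype.val hk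
      have hco : m.Coprime (orderOf (f x)) :=
        Nat.Coprime.coprime_dvd_right (orderOf_dvd_of_pow_eq_one hk')
          (Nat.Coprime.pow_right k hcopm.symm)
      obtain ⟨x', hx'f, hx'a⟩ := lt4q_lift f x m a (by rw [mul_comm, ham]) hco
      have hx'D₁ : x' ∈ D₁ := by
        rw [hD₁, mem_comap, hx'f]; exact hyb'
      have hx'D : x' ∈ D := hc x' hx'D₁ ((Nat.card X).factorization p) (by simpa [ha] using hx'a)
      exact ⟨x', hx'D, hx'f⟩
  have hDne : D ≠ ⊥ := by
    intro h0
    apply hDbne
    rw [← hmapD, h0, Subgroup.map_bot]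
  -- conjugation by a preimage of a normalising element preserves `D`
  have hconj : ∀ g : X, f g ∈ normalizer (Dbar : Set Y) → ∀ d ∈ D, g * d * g⁻¹ ∈ D := by
    intro g hg d hd
    have hgD₁ : g ∈ normalizer (D₁ : Set X) := le_normalizer_comap f hg
    have h1 : g * d * g⁻¹ ∈ D₁ := (mem_normalizer_iff.mp hgD₁ d).mp (hDle hd)
    obtain ⟨k, hk⟩ := hDpow d hd
    refine hc _ h1 k ?_
    rw [conj_pow, hk, mul_one, mul_inv_cancel]
  -- (e) `N_X(D) = f⁻¹(N_Y(Dbar))`
  have hN : normalizer (D : Set X) = (normalizer (Dbar : Set Y)).comap f := by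
    apply le_antisymm
    · intro g hg
      rw [mem_comap]
      have : f g ∈ normalizer ((D.map f : Subgroup Y) : Set Y) :=
        le_normalizer_map f (mem_map_of_mem f hg)
      rwa [hmapD] at this
    · intro g hg
      rw [mem_comap] at hg
      rw [mem_normalizer_iff]
      intro d
      constructor
      · exact hconj g hg d
      · intro hd
        have hg' : f g⁻¹ ∈ normalizer (Dbar : Set Y) := by
          rw [map_inv]; exact inv_mem hg
        have := hconj g⁻¹ hg' _ hd
        have e : g⁻¹ * (g * d * g⁻¹) * g⁻¹⁻¹ = d := by group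
        rwa [e] at this
  -- (f) `D` is radical
  set N : Subgroup X := normalizer (D : Set X) with hNdef
  set R : Subgroup X := (Cfsg.pCore p ↥N).map N.subtype with hR
  have hRp : IsPGroup p R := (Cfsg.Agent.Helper9.pCore_isPGroup (p := p) (G := ↥N)).map _
  have hRN : R ≤ N := map_subtype_le _
  have hNR : N ≤ normalizer (R : Set X) := by
    have := Cfsg.Agent.Helper9.pCore_normal (p := p) (G := ↥N)
    have h1 := le_normalizer_map N.subtype (H := Cfsg.pCore p ↥N)
    rw [normalizer_eq_top] at h1
    rwa [← MonoidHom.range_eq_map, range_subtype] at h1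
  have hDR : D ≤ R := by
    have hDN : D ≤ N := le_normalizer
    have : (D.subgroupOf N).Normal := normal_in_normalizer
    have h1 : D.subgroupOf N ≤ Cfsg.pCore p ↥N :=
      Cfsg.Agent.Helper9.le_pCore _ inferInstance (hDp.comap_subtype)
    have h2 := map_mono (f := N.subtype) h1
    rwa [subgroupOf_map_subtype, inf_of_le_left hDN] at h2
  have hRD : R ≤ D := by
    set Rbar : Subgroup Y := R.map f with hRbar
    have hRbp : IsPGroup p Rbar := hRp.map f
    have hNbR : normalizer (Dbar : Set Y) ≤ normalizer (Rbar : Set Y) := by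
      intro nb hnb
      obtain ⟨n, rfl⟩ := hf nb
      have hnN : n ∈ N := by rw [hN, mem_comap]; exact hnb
      exact le_normalizer_map f (mem_map_of_mem f (hNR hnN))
    have hRbN : Rbar ≤ normalizer (Dbar : Set Y) := by
      rintro _ ⟨r, hr, rfl⟩
      have : r ∈ N := hRN hr
      rw [hN, mem_comap] at this
      exact this
    have h1 := Cfsg.Agent.SLBlk.l_inf_le_core p Dbar Rbar hRbp hNbR
    rw [hDbrad, inf_of_le_left hRbN] at h1
    intro r hr
    have hrD₁ : r ∈ D₁ := by
      rw [hD₁, mem_comap]; exact h1 (mem_map_of_mem f hr)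
    obtain ⟨k, hk⟩ := hRp ⟨r, hr⟩
    exact hc r hrD₁ k (by simpa using congrArg Subtype.val hk)
  have hrad : (Cfsg.pCore p ↥(normalizer (D : Set X))).map (normalizer (D : Set X)).subtype = D :=
    le_antisymm hRD hDR
  have key := h D hDp hDne hrad
  -- (i) a `p`-regular lift of `ybar`
  obtain ⟨x, rfl⟩ := hf ybar
  have hco : a.Coprime (orderOf (f x)) := by
    rw [ha]
    exact Nat.Coprime.pow_left _ ((Nat.Prime.coprime_iff_not_dvd hp').2 hybreg)
  obtain ⟨x', hx'f, hx'm⟩ := lt4q_lift f x a m (by rw [ham]) hco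
  have hx'reg : ¬ p ∣ orderOf x' := fun hdvd =>
    hpm (dvd_trans hdvd (orderOf_dvd_of_pow_eq_one hx'm))
  have hx'cent : x' ∈ centralizer (D : Set X) := by
    rw [mem_centralizer_iff]
    intro d hd
    have hd' : d ∈ D := hd
    set z : X := x' * d * x'⁻¹ * d⁻¹ with hz
    have hzker : z ∈ f.ker := by
      rw [MonoidHom.mem_ker, hz]
      simp only [map_mul, map_inv, hx'f]
      have hcomm : f d * f x = f x * f d :=
        (mem_centralizer_iff.mp hyb) (f d) (by rw [← hmapD]; exact mem_map_of_mem f hd')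
      rw [← hcomm]
      group
    have hzc : ∀ g : X, z * g = g * z := fun g => ((mem_center_iff.mp (hker hzker)) g).symm
    have hxd : x' * d = z * d * x' := by rw [hz]; group
    obtain ⟨k, hk⟩ := hDpow d hd'
    have h1 := lt4q_comm_pow_right hzc hxd (p ^ k)
    rw [hk, mul_one, mul_one] at h1
    have hz1 : z ^ p ^ k = 1 := by
      have := congrArg (· * x'⁻¹) h1
      simpa using this.symm
    have h2 := lt4q_comm_pow_left hzc hxd m
    rw [hx'm, one_mul, mul_one] at h2
    have hz2 : z ^ m = 1 := by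
      have := congrArg (· * d⁻¹) h2
      simpa using this.symm
    have ho : orderOf z = 1 := by
      have d1 := orderOf_dvd_of_pow_eq_one hz1
      have d2 := orderOf_dvd_of_pow_eq_one hz2
      exact Nat.eq_one_of_dvd_coprimes (Nat.Coprime.pow_left k hcopm) d1 d2
    have hz0 : z = 1 := orderOf_eq_one_iff.mp ho
    rw [hxd, hz0, one_mul]
  have hx'Z := key x' hx'cent hx'reg
  rw [← hx'f, mem_center_iff]
  intro yb
  obtain ⟨g, rfl⟩ := hf yb
  rw [← map_mul, ← map_mul, (mem_center_iff.mp hx'Z) g]

/-- **G2**: the radical property passes to the quotient by ANY central subgroup. -/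
theorem lt4_rad_quot [Finite X] (p : ℕ) [Fact p.Prime] (hX : lt4_RadProp p X)
    (Z : Subgroup X) [Z.Normal] (hZ : Z ≤ Subgroup.center X) : lt4_RadProp p (X ⧸ Z) :=
  lt4_rad_map p hX (QuotientGroup.mk' Z) (QuotientGroup.mk'_surjective Z)
    (by rw [QuotientGroup.ker_mk']; exact hZ)

/-- The radical property is invariant under isomorphism. -/
theorem lt4_rad_iso [Finite X] (p : ℕ) [Fact p.Prime] (hX : lt4_RadProp p X) (e : X ≃* Y) :
    lt4_RadProp p Y :=
  lt4_rad_map p hX e.toMonoidHom e.surjective
    (by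
      intro x hx
      have : x = 1 := by
        rw [MonoidHom.mem_ker] at hx
        exact e.injective (by simpa using hx)
      rw [this]; exact one_mem _)

end Cfsg.Agent.LT4

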