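import Mathlib
import Cfsg.Prelude.Def_LieTypeChar
import Cfsg.Agent.LT4.OmD
import Cfsg.Agent.LT4.Rad
import Cfsg.Agent.LT4.RadQuot
import Cfsg.Agent.LT4.Quot
import Cfsg.Agent.Helper8.Af13F

set_option autoImplicit false

/-!
# LT4 (S5012), orthogonal families: the three disjuncts of `IsLieTypeChar` (helper4, on helper8's OmA–OmD)

`lt4o_rad_SG` (helper8: the radical property of the Siegel group `SG Q = Ω(Q)`) is pushed to the central
quotient by helper6's `lt4_rad_quot`, turned into "defect zero or full" by helper7's `lt4_defect_of_rad`,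
and transported to `PΩ(Q)` along helper8's `quotCenterEquiv (omegaEquiv Q hQ h5)` by helper3's `lt4_of_iso`.
-/

namespace Cfsg.Agent.LT4

open Module Cfsg Cfsg.Agent.Helper8.QuadForm Cfsg.Agent.Helper8.WittQuad
  Cfsg.Agent.Helper8.OrthOrder
  Cfsg.Agent.Helper8.Siegel Cfsg.Agent.Helper8.SiegelGroup Cfsg.Agent.Helper8.OGenA
  Cfsg.Agent.Helper8.OGenB Cfsg.Agent.Helper8.OSt
  Cfsg.Agent.Helper8.StdForms Cfsg.Agent.Helper8.OmegaStd Cfsg.Agent.Helper8.Af13

universe u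

/-- the generic middle step: `PΩ(Q)` for a quadratic form with non-degenerate polar form in at least
five variables over a finite field of characteristic `p`. -/
theorem lt4o_POmega_h4 {F : Type u} [Field F] [Fintype F] {ι : Type} [Fintype ι] [DecidableEq ι]
    (Q : QuadraticForm F (ι → F)) (hQ : (QuadraticMap.polarBilin Q).Nondegenerate)
    (h5 : 5 ≤ Fintype.card ι) (p : ℕ) [Fact p.Prime] [CharP F p] :
    lt4_P p (Cfsg.POmega F ⇑Q) := by
  have hQ' : Nondeg Q := (nondeg_iff Q).mp hQ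
  have hfin := af13_finite_SG Q
  have h5' : 5 ≤ finrank F (ι → F) := by
    rw [Module.finrank_fintype_fun_eq_card]
    exact h5
  have hgen := Cfsg.Agent.Helper8.OmegaSimple.closure_reflG Q hQ h5
  have hX : lt4_RadProp p ↥(SG Q) :=
    fun D hDp hD1 hrad x hx hreg => lt4o_rad_SG p hQ' h5' hgen D hDp hD1 hrad x hx hreg
  have hquot : lt4_RadProp p (↥(SG Q) ⧸ Subgroup.center ↥(SG Q)) :=
    lt4_rad_quot p hX (Subgroup.center ↥(SG Q)) le_rfl
  have hP : lt4_P p (↥(SG Q) ⧸ Subgroup.center ↥(SG Q)) :=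
    fun M hM B hB => lt4_defect_of_rad p hquot M hM B hB
  exact lt4_of_iso p (Cfsg.Agent.Helper8.SL2HermOmega.quotCenterEquiv
    (Cfsg.Agent.Helper8.OmegaSimple.omegaEquiv Q hQ h5)) hP

section families

variable (F : Type u) [Field F] [Fintype F] (p : ℕ) [Fact p.Prime] [CharP F p]

/-- `PΩ_{2m+1}(q)`, `q` odd, `m ≥ 3`. -/
theorem lt4o_odd_h4 (k : ℕ) (hodd : Odd (Fintype.card F)) :
    lt4_P p (POmega F (quadFormOdd (k + 3) F)) := by
  have h2 : (2 : F) ≠ 0 := Cfsg.Agent.Helper8.OmegaStd.two_ne_zero_of_odd hodd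
  have hfun : (⇑(oddForm F (k + 3)) : (Unit ⊕ (Fin (k + 3) ⊕ Fin (k + 3)) → F) → F)
      = quadFormOdd (k + 3) F := funext (oddForm_apply F (k + 3))
  have h5 : 5 ≤ Fintype.card (Unit ⊕ (Fin (k + 3) ⊕ Fin (k + 3))) := by
    simp only [Fintype.card_sum, Fintype.card_unit, Fintype.card_fin]
    omega
  have hQ := oddForm_nondeg F (k + 3) h2
  have := lt4o_POmega_h4 (oddForm F (k + 3)) hQ h5 p
  rw [hfun] at this
  exact this

/-- `PΩ⁺_{2m}(q)`, `m ≥ 3`. -/
theorem lt4o_plus_h4 (k : ℕ) : lt4_P p (POmega F (quadFormPlus (k + 3) F)) := by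
  have hfun : (⇑(plusForm F (k + 3)) : (Fin (k + 3) ⊕ Fin (k + 3) → F) → F)
      = quadFormPlus (k + 3) F := funext (plusForm_apply F (k + 3))
  have h5 : 5 ≤ Fintype.card (Fin (k + 3) ⊕ Fin (k + 3)) := by
    simp only [Fintype.card_sum, Fintype.card_fin]
    omega
  have hQ := plusForm_nondeg F (k + 3)
  have := lt4o_POmega_h4 (plusForm F (k + 3)) hQ h5 p
  rw [hfun] at this
  exact this

/-- `PΩ⁻_{2m+2}(q)`, `m ≥ 3`. -/
theorem lt4o_minus_h4 (k : ℕ) (a b : F)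
    (hab : ∀ z₁ z₂ : F, z₁ ^ 2 + a * z₁ * z₂ + b * z₂ ^ 2 = 0 → z₁ = 0 ∧ z₂ = 0) :
    lt4_P p (POmega F (quadFormMinus (k + 3) F a b)) := by
  have hfun : (⇑(minusForm F (k + 3) a b) : ((Fin (k + 3) ⊕ Fin (k + 3)) ⊕ Fin 2 → F) → F)
      = quadFormMinus (k + 3) F a b := funext (minusForm_apply F (k + 3) a b)
  have h5 : 5 ≤ Fintype.card ((Fin (k + 3) ⊕ Fin (k + 3)) ⊕ Fin 2) := by
    simp only [Fintype.card_sum, Fintype.card_fin]
    omega
  have hQ := minusForm_nondeg F (k + 3) hab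
  have := lt4o_POmega_h4 (minusForm F (k + 3) a b) hQ h5 p
  rw [hfun] at this
  exact this

end families

/-- S5012 for odd-dimensional orthogonal groups -/
theorem lt4_oo_h8 {G : Type*} [Group G] (p : ℕ) [Fact p.Prime] (hG : Cfsg.IsPOmegaOddChar p G) :
    lt4_P p G := by
  obtain ⟨F, _, _, _, m, hm, hodd, ⟨e⟩⟩ := hG
  obtain ⟨k, rfl⟩ : ∃ k, m = k + 3 := ⟨m - 3, by omega⟩
  exact lt4_of_iso p e (lt4o_odd_h4 F p k hodd)

/-- S5012 for even-dimensional orthogonal groups of plus type -/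
theorem lt4_op_h8 {G : Type*} [Group G] (p : ℕ) [Fact p.Prime] (hG : Cfsg.IsPOmegaPlusChar p G) :
    lt4_P p G := by
  obtain ⟨F, _, _, _, m, hm, ⟨e⟩⟩ := hG
  obtain ⟨k, rfl⟩ : ∃ k, m = k + 3 := ⟨m - 3, by omega⟩
  exact lt4_of_iso p e (lt4o_plus_h4 F p k)

/-- S5012 for even-dimensional orthogonal groups of minus type -/
theorem lt4_om_h8 {G : Type*} [Group G] (p : ℕ) [Fact p.Prime] (hG : Cfsg.IsPOmegaMinusChar p G) :
    lt4_P p G := by
  obtain ⟨F, _, _, _, m, a, b, hm, hab, ⟨e⟩⟩ := hG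
  obtain ⟨k, rfl⟩ : ∃ k, m = k + 4 := ⟨m - 4, by omega⟩
  exact lt4_of_iso p e (lt4o_minus_h4 F p k a b hab)

end Cfsg.Agent.LT4
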