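import Mathlib
import Cfsg.Prelude.Def_LieTypeChar
import Cfsg.Agent.SLBlk.L_RadD
import Cfsg.Agent.LT4.Quot
import Cfsg.Agent.LT4.Rad
import Cfsg.Agent.LT4.RadQuot

set_option autoImplicit false

/-!
# S5012 (swarm "LT4"), the family `PSL_n(F)`

`SL_n(F)` has the radical property by lead's `SLBlk.l_radical_SL`; it passes to the central
quotient `PSL_n(F)` (`lt4_rad_quot`), and `lt4_defect_of_rad` gives the block statement.
-/

namespace Cfsg.Agent.LT4

open Matrix Subgroup

variable {F : Type*} [Field F] [Fintype F] (p : ℕ) [Fact p.Prime] [CharP F p]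

/-- the radical property of `SL_n(F)` (lead's `l_radical_SL`) -/
theorem lt4_rad_sl (n : ℕ) (hn : 0 < n) : lt4_RadProp p (SpecialLinearGroup (Fin n) F) :=
  fun D hDp hD hrad x hx hreg => Cfsg.Agent.SLBlk.l_radical_SL p hn D hDp hD hrad x hx hreg

theorem lt4_finite_sl (n : ℕ) : Finite (SpecialLinearGroup (Fin n) F) := by
  have : Function.Injective (fun g : SpecialLinearGroup (Fin n) F =>
      (g : Matrix (Fin n) (Fin n) F)) := Subtype.val_injective
  exact Finite.of_injective _ this

/-- **S5012 for `PSL_n(F)`**, `n ≥ 1`. -/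
theorem lt4_psl (n : ℕ) (hn : 0 < n) :
    lt4_P p (Matrix.ProjectiveSpecialLinearGroup (Fin n) F) := by
  have hfin : Finite (SpecialLinearGroup (Fin n) F) := lt4_finite_sl n
  have hq : lt4_RadProp p (SpecialLinearGroup (Fin n) F ⧸
      center (SpecialLinearGroup (Fin n) F)) :=
    lt4_rad_quot p (lt4_rad_sl p n hn) (center (SpecialLinearGroup (Fin n) F)) le_rfl
  exact fun M hM B hB => lt4_defect_of_rad p hq M hM B hB

/-- the `IsPSLChar` disjunct of `IsLieTypeChar`: assembly-ready. -/
theorem lt4_psl_iso {G : Type*} [Group G] (hG : Cfsg.IsPSLChar p G) : lt4_P p G := by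
  obtain ⟨F, _, _, _, n, hn, -, ⟨e⟩⟩ := hG
  exact lt4_of_iso p e (lt4_psl p n (by omega))

end Cfsg.Agent.LT4
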