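import Mathlib
import Cfsg.Agent.Helper1.SUJa
import Cfsg.Agent.LT4.FixGen

set_option autoImplicit false

/-!
# LT4 (S5012), family `PSU_n`, part a: the antidiagonal hermitian form on `Fin n → K`

`lt4u_h u v = ∑ i, u i * star (v i.rev)`; the adjoint of a matrix is `dag`; the unitary group `UG n K`
preserves it; orthogonal complements; `W ≠ ⊤ → W^⊥ ≠ ⊥`.
-/

namespace Cfsg.Agent.LT4

open Matrix Cfsg.Agent.Helper1.SUJ

variable {K : Type*} [Field K] [StarRing K] {n : ℕ}

/-- the antidiagonal hermitian form -/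
def lt4u_h (u v : Fin n → K) : K := ∑ i, u i * star (v i.rev)

theorem lt4u_h_add_left (u u' v : Fin n → K) : lt4u_h (u + u') v = lt4u_h u v + lt4u_h u' v := by
  unfold lt4u_h
  rw [← Finset.sum_add_distrib]
  apply Finset.sum_congr rfl
  intro i _
  rw [Pi.add_apply, add_mul]

theorem lt4u_h_add_right (u v v' : Fin n → K) : lt4u_h u (v + v') = lt4u_h u v + lt4u_h u v' := by
  unfold lt4u_h
  rw [← Finset.sum_add_distrib]
  apply Finset.sum_congr rfl
  intro i _
  rw [Pi.add_apply, star_add, mul_add]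

theorem lt4u_h_smul_left (c : K) (u v : Fin n → K) : lt4u_h (c • u) v = c * lt4u_h u v := by
  unfold lt4u_h
  rw [Finset.mul_sum]
  apply Finset.sum_congr rfl
  intro i _
  rw [Pi.smul_apply, smul_eq_mul, mul_assoc]

theorem lt4u_h_smul_right (c : K) (u v : Fin n → K) :
    lt4u_h u (c • v) = star c * lt4u_h u v := by
  unfold lt4u_h
  rw [Finset.mul_sum]
  apply Finset.sum_congr rfl
  intro i _
  rw [Pi.smul_apply, smul_eq_mul, star_mul', mul_left_comm]

theorem lt4u_h_zero_left (v : Fin n → K) : lt4u_h 0 v = 0 := by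
  unfold lt4u_h
  simp

theorem lt4u_h_zero_right (u : Fin n → K) : lt4u_h u 0 = 0 := by
  unfold lt4u_h
  simp

theorem lt4u_h_neg_left (u v : Fin n → K) : lt4u_h (-u) v = -lt4u_h u v := by
  have := lt4u_h_smul_left (-1 : K) u v
  rwa [neg_one_smul, neg_one_mul] at this

theorem lt4u_h_neg_right (u v : Fin n → K) : lt4u_h u (-v) = -lt4u_h u v := by
  have := lt4u_h_smul_right (-1 : K) u v
  rwa [neg_one_smul, star_neg, star_one, neg_one_mul] at this

theorem lt4u_h_sub_left (u u' v : Fin n → K) : lt4u_h (u - u') v = lt4u_h u v - lt4u_h u' v := by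
  rw [sub_eq_add_neg, lt4u_h_add_left, lt4u_h_neg_left, ← sub_eq_add_neg]

theorem lt4u_h_sub_right (u v v' : Fin n → K) : lt4u_h u (v - v') = lt4u_h u v - lt4u_h u v' := by
  rw [sub_eq_add_neg, lt4u_h_add_right, lt4u_h_neg_right, ← sub_eq_add_neg]

/-- hermitian symmetry -/
theorem lt4u_h_star (u v : Fin n → K) : star (lt4u_h u v) = lt4u_h v u := by
  unfold lt4u_h
  rw [star_sum]
  rw [← Equiv.sum_comp (Fin.revPerm : Equiv.Perm (Fin n))]
  apply Finset.sum_congr rfl
  intro i _
  rw [Fin.revPerm_apply, star_mul', star_star, Fin.rev_rev, mul_comm]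

theorem lt4u_h_eq_zero_symm {u v : Fin n → K} (h : lt4u_h u v = 0) : lt4u_h v u = 0 := by
  rw [← lt4u_h_star, h, star_zero]

/-- evaluation against a coordinate vector -/
theorem lt4u_h_single (u : Fin n → K) (j : Fin n) :
    lt4u_h u (Pi.single j.rev 1) = u j := by
  unfold lt4u_h
  rw [Finset.sum_eq_single j]
  · rw [Pi.single_eq_same, star_one, mul_one]
  · intro i _ hij
    rw [Pi.single_eq_of_ne (fun e => hij (Fin.rev_injective e)), star_zero, mul_zero]
  · intro h
    exact absurd (Finset.mem_univ j) h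

/-- the form is non-degenerate -/
theorem lt4u_h_nondeg {u : Fin n → K} (h : ∀ v, lt4u_h u v = 0) : u = 0 := by
  funext j
  rw [← lt4u_h_single u j, h, Pi.zero_apply]

theorem lt4u_h_nondeg_right {v : Fin n → K} (h : ∀ u, lt4u_h u v = 0) : v = 0 :=
  lt4u_h_nondeg fun u => lt4u_h_eq_zero_symm (h u)

/-- the adjoint of a matrix with respect to the form is `dag` -/
theorem lt4u_h_adj (M : Matrix (Fin n) (Fin n) K) (u v : Fin n → K) :
    lt4u_h (M *ᵥ u) v = lt4u_h u (dag M *ᵥ v) := by
  unfold lt4u_h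
  simp only [Matrix.mulVec, dotProduct, Finset.sum_mul, star_sum, Finset.mul_sum, dag_apply,
    star_mul', star_star, Fin.rev_rev]
  rw [Finset.sum_comm]
  apply Finset.sum_congr rfl
  intro j _
  rw [← Equiv.sum_comp (Fin.revPerm : Equiv.Perm (Fin n))]
  apply Finset.sum_congr rfl
  intro i _
  rw [Fin.revPerm_apply, Fin.rev_rev]
  ring

/-- unitary matrices preserve the form -/
theorem lt4u_h_unit (g : UG n K) (u v : Fin n → K) :
    lt4u_h (g.val *ᵥ u) (g.val *ᵥ v) = lt4u_h u v := by
  rw [lt4u_h_adj, Matrix.mulVec_mulVec, g.unit, Matrix.one_mulVec]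

theorem lt4u_inv_mulVec (g : UG n K) (v : Fin n → K) : (g⁻¹).val *ᵥ (g.val *ᵥ v) = v := by
  rw [Matrix.mulVec_mulVec, ← UG.mul_val, inv_mul_cancel, UG.one_val, Matrix.one_mulVec]

theorem lt4u_mulVec_inv (g : UG n K) (v : Fin n → K) : g.val *ᵥ ((g⁻¹).val *ᵥ v) = v := by
  rw [Matrix.mulVec_mulVec, ← UG.mul_val, mul_inv_cancel, UG.one_val, Matrix.one_mulVec]

/-- moving a unitary matrix to the other side -/
theorem lt4u_h_unit_left (g : UG n K) (u v : Fin n → K) :
    lt4u_h (g.val *ᵥ u) v = lt4u_h u ((g⁻¹).val *ᵥ v) := by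
  conv_lhs => rw [← lt4u_mulVec_inv g v]
  exact lt4u_h_unit g u _

theorem lt4u_mat_ext {A B : Matrix (Fin n) (Fin n) K} (h : ∀ v : Fin n → K, A *ᵥ v = B *ᵥ v) :
    A = B := by
  apply Matrix.toLin'.injective
  apply LinearMap.ext
  intro v
  rw [Matrix.toLin'_apply, Matrix.toLin'_apply]
  exact h v

/-- a matrix preserving the form satisfies the unitarity equation -/
theorem lt4u_unit_of_isometry {M : Matrix (Fin n) (Fin n) K}
    (h : ∀ u v, lt4u_h (M *ᵥ u) (M *ᵥ v) = lt4u_h u v) : dag M * M = 1 := by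
  apply lt4u_mat_ext
  intro v
  rw [Matrix.one_mulVec]
  have h1 : ∀ u, lt4u_h u ((dag M * M) *ᵥ v - v) = 0 := by
    intro u
    rw [lt4u_h_sub_right, ← Matrix.mulVec_mulVec, ← lt4u_h_adj, h, sub_self]
  exact sub_eq_zero.mp (lt4u_h_nondeg_right h1)

/-! ### orthogonal complements -/

/-- the orthogonal complement of a subspace -/
def lt4u_perp (W : Submodule K (Fin n → K)) : Submodule K (Fin n → K) where
  carrier := {u | ∀ w ∈ W, lt4u_h u w = 0}
  add_mem' := by
    intro a b ha hb w hw
    rw [lt4u_h_add_left, ha w hw, hb w hw, add_zero]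
  zero_mem' := fun w _ => lt4u_h_zero_left w
  smul_mem' := by
    intro c u hu w hw
    rw [lt4u_h_smul_left, hu w hw, mul_zero]

theorem lt4u_mem_perp (W : Submodule K (Fin n → K)) (u : Fin n → K) :
    u ∈ lt4u_perp W ↔ ∀ w ∈ W, lt4u_h u w = 0 := Iff.rfl

theorem lt4u_perp_anti {W W' : Submodule K (Fin n → K)} (h : W ≤ W') :
    lt4u_perp W' ≤ lt4u_perp W := fun _ hu w hw => hu w (h hw)

/-- the vectors orthogonal to a given one -/
def lt4u_perpVec (u : Fin n → K) : Submodule K (Fin n → K) where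
  carrier := {w | lt4u_h u w = 0}
  add_mem' := by
    intro a b ha hb
    change lt4u_h u (a + b) = 0
    rw [lt4u_h_add_right, ha, hb, add_zero]
  zero_mem' := lt4u_h_zero_right u
  smul_mem' := by
    intro c w hw
    change lt4u_h u (c • w) = 0
    rw [lt4u_h_smul_right, hw, mul_zero]

/-- a proper subspace has a non-zero orthogonal complement -/
theorem lt4u_perp_ne_bot (W : Submodule K (Fin n → K)) (hW : W ≠ ⊤) : lt4u_perp W ≠ ⊥ := by
  classical
  set k := Module.finrank K W with hk
  let b : Module.Basis (Fin k) K W := Module.finBasis K W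
  let φ : (Fin n → K) →ₗ[K] (Fin k → K) :=
    { toFun := fun u j => lt4u_h u (b j : Fin n → K)
      map_add' := by
        intro u u'
        funext j
        exact lt4u_h_add_left u u' _
      map_smul' := by
        intro c u
        funext j
        exact lt4u_h_smul_left c u _ }
  have hlt : Module.finrank K (Fin k → K) < Module.finrank K (Fin n → K) := by
    rw [Module.finrank_fin_fun, Module.finrank_fin_fun]
    have h1 : Module.finrank K W < Module.finrank K (⊤ : Submodule K (Fin n → K)) :=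
      Submodule.finrank_lt_finrank_of_lt (lt_top_iff_ne_top.mpr hW)
    rw [finrank_top, Module.finrank_fin_fun] at h1
    exact h1
  have hker := LinearMap.ker_ne_bot_of_finrank_lt (f := φ) hlt
  intro hbot
  apply hker
  rw [eq_bot_iff]
  intro u hu
  rw [LinearMap.mem_ker] at hu
  rw [← hbot]
  have hsub : W ≤ lt4u_perpVec u := by
    have hspan : W = Submodule.span K (Set.range fun j => (b j : Fin n → K)) := by
      have h1 : Submodule.span K (Set.range b) = ⊤ := b.span_eq
      have h2 := congrArg (Submodule.map W.subtype) h1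
      rw [Submodule.map_span, Submodule.map_subtype_top, ← Set.range_comp] at h2
      exact h2.symm
    rw [hspan, Submodule.span_le]
    rintro _ ⟨j, rfl⟩
    exact congrFun hu j
  intro w hw
  exact hsub hw

/-- a subspace lies in its double orthogonal complement -/
theorem lt4u_le_perp_perp (W : Submodule K (Fin n → K)) : W ≤ lt4u_perp (lt4u_perp W) :=
  fun _ hw u hu => lt4u_h_eq_zero_symm (hu _ hw)

/-- a unitary matrix stabilising `W` stabilises its orthogonal complement -/
theorem lt4u_perp_stab (W : Submodule K (Fin n → K)) (g : UG n K)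
    (hg : ∀ v, g.val *ᵥ v ∈ W ↔ v ∈ W) (v : Fin n → K) :
    g.val *ᵥ v ∈ lt4u_perp W ↔ v ∈ lt4u_perp W := by
  constructor
  · intro h w hw
    have := h (g.val *ᵥ w) ((hg w).mpr hw)
    rwa [lt4u_h_unit] at this
  · intro h w hw
    rw [lt4u_h_unit_left]
    apply h
    rw [← hg, lt4u_mulVec_inv]
    exact hw

end Cfsg.Agent.LT4
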