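import Mathlib
import Cfsg.Agent.LT4.PSUa

set_option autoImplicit false

/-!
# LT4 (S5012), family `PSU_n`, part b: unipotent matrices and the Siegel elements

`lt4u_sg e v c : z ↦ z + h(z,e) v − h(z,v) e + c h(z,e) e` for `e` isotropic, `v ⊥ e` and
`c + star c + h(v,v) = 0` is an element of the unitary group `UG n K` in characteristic `p`.
-/

namespace Cfsg.Agent.LT4

open Matrix Cfsg.Agent.Helper1.SUJ

variable {K : Type*} [Field K] [StarRing K] {n : ℕ}

/-! ### unipotent matrices in characteristic `p` -/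

section unip

variable (p : ℕ) [Fact p.Prime] [CharP K p]

/-- `(M - 1)³ = 0` gives `M ^ p² = 1` in characteristic `p`. -/
theorem lt4u_pow_eq_one_of_cube [NeZero n] {M : Matrix (Fin n) (Fin n) K}
    (h : (M - 1) ^ 3 = 0) : M ^ p ^ 2 = 1 := by
  have hp : 2 ≤ p := (Fact.out : p.Prime).two_le
  have h3 : 3 ≤ p ^ 2 := by nlinarith
  have e : M = 1 + (M - 1) := by abel
  have hN : (M - 1) ^ p ^ 2 = 0 := by
    obtain ⟨k, hk⟩ := Nat.exists_eq_add_of_le h3
    rw [hk, pow_add, h, zero_mul]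
  conv_lhs => rw [e]
  rw [add_pow_char_pow_of_commute p 2 (Commute.one_left _), one_pow, hN, add_zero]

/-- a matrix of `p`-power order has determinant one in characteristic `p`. -/
theorem lt4u_det_eq_one_of_pow {M : Matrix (Fin n) (Fin n) K} {k : ℕ} (h : M ^ p ^ k = 1) :
    M.det = 1 := by
  have h1 : M.det ^ p ^ k = 1 := by rw [← Matrix.det_pow, h, Matrix.det_one]
  have h2 : (M.det - 1) ^ p ^ k = 0 := by rw [sub_pow_char_pow, h1, one_pow, sub_self]
  exact sub_eq_zero.mp (pow_eq_zero_iff (pow_ne_zero k (Fact.out : p.Prime).ne_zero) |>.mp h2)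

end unip

/-! ### the Siegel elements -/

/-- the row vector representing `z ↦ h(z, x)` -/
def lt4u_dual (x : Fin n → K) : Fin n → K := fun j => star (x j.rev)

theorem lt4u_dual_dot (x z : Fin n → K) : lt4u_dual x ⬝ᵥ z = lt4u_h z x := by
  unfold lt4u_dual lt4u_h dotProduct
  apply Finset.sum_congr rfl
  intro i _
  exact mul_comm _ _

/-- the nilpotent part of a Siegel element -/
def lt4u_sgN (e v : Fin n → K) (c : K) : Matrix (Fin n) (Fin n) K :=
  vecMulVec v (lt4u_dual e) - vecMulVec e (lt4u_dual v) + c • vecMulVec e (lt4u_dual e)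

theorem lt4u_sgN_mulVec (e v : Fin n → K) (c : K) (z : Fin n → K) :
    lt4u_sgN e v c *ᵥ z = lt4u_h z e • v - lt4u_h z v • e + (c * lt4u_h z e) • e := by
  unfold lt4u_sgN
  rw [Matrix.add_mulVec, Matrix.sub_mulVec, Matrix.smul_mulVec, vecMulVec_mulVec,
    vecMulVec_mulVec, vecMulVec_mulVec, lt4u_dual_dot, lt4u_dual_dot, op_smul_eq_smul,
    op_smul_eq_smul, op_smul_eq_smul, smul_smul]

/-- the matrix of a Siegel element -/
def lt4u_sgM (e v : Fin n → K) (c : K) : Matrix (Fin n) (Fin n) K := 1 + lt4u_sgN e v c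

theorem lt4u_sgM_mulVec (e v : Fin n → K) (c : K) (z : Fin n → K) :
    lt4u_sgM e v c *ᵥ z = z + (lt4u_h z e • v - lt4u_h z v • e + (c * lt4u_h z e) • e) := by
  unfold lt4u_sgM
  rw [Matrix.add_mulVec, Matrix.one_mulVec, lt4u_sgN_mulVec]

theorem lt4u_sgM_sub_one (e v : Fin n → K) (c : K) : lt4u_sgM e v c - 1 = lt4u_sgN e v c := by
  unfold lt4u_sgM
  abel

/-- the Siegel matrix preserves the form -/
theorem lt4u_sgM_isometry {e v : Fin n → K} {c : K} (he : lt4u_h e e = 0) (hve : lt4u_h v e = 0)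
    (hc : c + star c + lt4u_h v v = 0) (z z' : Fin n → K) :
    lt4u_h (lt4u_sgM e v c *ᵥ z) (lt4u_sgM e v c *ᵥ z') = lt4u_h z z' := by
  have hev : lt4u_h e v = 0 := lt4u_h_eq_zero_symm hve
  have h1 : lt4u_h v z' = star (lt4u_h z' v) := (lt4u_h_star z' v).symm
  have h2 : lt4u_h e z' = star (lt4u_h z' e) := (lt4u_h_star z' e).symm
  rw [lt4u_sgM_mulVec, lt4u_sgM_mulVec]
  simp only [lt4u_h_add_left, lt4u_h_sub_left, lt4u_h_smul_left, lt4u_h_add_right,
    lt4u_h_sub_right, lt4u_h_smul_right, he, hve, hev, h1, h2, star_mul', mul_zero, sub_zero,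
    add_zero]
  linear_combination (lt4u_h z e * star (lt4u_h z' e)) * hc

/-- the nilpotent part has cube zero -/
theorem lt4u_sgN_cube {e v : Fin n → K} {c : K} (he : lt4u_h e e = 0) (hve : lt4u_h v e = 0) :
    lt4u_sgN e v c ^ 3 = 0 := by
  have hev : lt4u_h e v = 0 := lt4u_h_eq_zero_symm hve
  have hNe : lt4u_sgN e v c *ᵥ e = 0 := by
    rw [lt4u_sgN_mulVec, he, hev, mul_zero, zero_smul, zero_smul, sub_zero, add_zero]
  have hNv : lt4u_sgN e v c *ᵥ v = -(lt4u_h v v • e) := by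
    rw [lt4u_sgN_mulVec, hve, mul_zero, zero_smul, zero_smul, zero_sub, add_zero]
  apply lt4u_mat_ext
  intro z
  rw [Matrix.zero_mulVec, pow_succ, pow_two, ← Matrix.mulVec_mulVec, ← Matrix.mulVec_mulVec,
    lt4u_sgN_mulVec e v c z]
  simp only [Matrix.mulVec_add, Matrix.mulVec_sub, Matrix.mulVec_smul, hNe, hNv, smul_zero,
    sub_zero, add_zero, Matrix.mulVec_neg, neg_zero]

section elt

variable (p : ℕ) [Fact p.Prime] [CharP K p] [NeZero n]

/-- the Siegel element of the unitary group -/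
def lt4u_sg (e v : Fin n → K) (c : K) (he : lt4u_h e e = 0) (hve : lt4u_h v e = 0)
    (hc : c + star c + lt4u_h v v = 0) : UG n K :=
  ⟨lt4u_sgM e v c, lt4u_unit_of_isometry (lt4u_sgM_isometry he hve hc),
    lt4u_det_eq_one_of_pow p (k := 2) (lt4u_pow_eq_one_of_cube p (by
      rw [lt4u_sgM_sub_one]
      exact lt4u_sgN_cube he hve))⟩

theorem lt4u_sg_val (e v : Fin n → K) (c : K) (he : lt4u_h e e = 0) (hve : lt4u_h v e = 0)
    (hc : c + star c + lt4u_h v v = 0) : (lt4u_sg p e v c he hve hc).val = lt4u_sgM e v c := rfl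

end elt

end Cfsg.Agent.LT4
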