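import Mathlib
import Cfsg.Agent.LT4.PSUb

set_option autoImplicit false

/-!
# LT4 (S5012), family `PSU_n`, part c: the unipotent radical of the stabiliser of a subspace

`lt4u_Q W`: the unitary matrices acting trivially on `W`, on `W^⊥ / W` and on `V / W^⊥`.  It is a
`p`-group in characteristic `p`, it is normalised by the stabiliser of `W`, and it contains the
Siegel elements `lt4u_sg e v c`, `e ∈ W`, `v ∈ W^⊥`, when `W` is totally isotropic.
-/

namespace Cfsg.Agent.LT4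

open Matrix Subgroup Cfsg.Agent.Helper1.SUJ

variable {K : Type*} [Field K] [StarRing K] {n : ℕ}

/-- the unipotent radical of the stabiliser of `W` -/
def lt4u_Q (W : Submodule K (Fin n → K)) : Subgroup (UG n K) where
  carrier := {g | (∀ v ∈ W, g.val *ᵥ v = v) ∧ (∀ v ∈ lt4u_perp W, g.val *ᵥ v - v ∈ W) ∧
    ∀ v, g.val *ᵥ v - v ∈ lt4u_perp W}
  mul_mem' := by
    rintro a b ⟨ha1, ha2, ha3⟩ ⟨hb1, hb2, hb3⟩
    have e : ∀ v : Fin n → K, (a * b).val *ᵥ v - v =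
        (a.val *ᵥ (b.val *ᵥ v) - b.val *ᵥ v) + (b.val *ᵥ v - v) := by
      intro v
      rw [UG.mul_val, ← Matrix.mulVec_mulVec]
      abel
    refine ⟨fun v hv => ?_, fun v hv => ?_, fun v => ?_⟩
    · rw [UG.mul_val, ← Matrix.mulVec_mulVec, hb1 v hv, ha1 v hv]
    · rw [e]
      have hbv : b.val *ᵥ v ∈ lt4u_perp W := by
        have := (lt4u_perp W).add_mem (hb3 v) hv
        rwa [sub_add_cancel] at this
      exact W.add_mem (ha2 _ hbv) (hb2 v hv)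
    · rw [e]
      exact (lt4u_perp W).add_mem (ha3 _) (hb3 v)
  one_mem' := by
    refine ⟨fun v _ => ?_, fun v _ => ?_, fun v => ?_⟩
    · rw [UG.one_val, Matrix.one_mulVec]
    · rw [UG.one_val, Matrix.one_mulVec, sub_self]
      exact W.zero_mem
    · rw [UG.one_val, Matrix.one_mulVec, sub_self]
      exact (lt4u_perp W).zero_mem
  inv_mem' := by
    rintro a ⟨ha1, ha2, ha3⟩
    have e : ∀ v : Fin n → K, (a⁻¹).val *ᵥ v - v =
        -(a.val *ᵥ ((a⁻¹).val *ᵥ v) - (a⁻¹).val *ᵥ v) := by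
      intro v
      rw [lt4u_mulVec_inv]
      abel
    refine ⟨fun v hv => ?_, fun v hv => ?_, fun v => ?_⟩
    · conv_lhs => rw [← ha1 v hv]
      exact lt4u_inv_mulVec a v
    · have h3 : (a⁻¹).val *ᵥ v ∈ lt4u_perp W := by
        have h := (lt4u_perp W).neg_mem (ha3 ((a⁻¹).val *ᵥ v))
        rw [← e] at h
        have := (lt4u_perp W).add_mem h hv
        rwa [sub_add_cancel] at this
      rw [e]
      exact W.neg_mem (ha2 _ h3)
    · rw [e]
      exact (lt4u_perp W).neg_mem (ha3 _)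

theorem lt4u_mem_Q (W : Submodule K (Fin n → K)) (g : UG n K) :
    g ∈ lt4u_Q W ↔ (∀ v ∈ W, g.val *ᵥ v = v) ∧ (∀ v ∈ lt4u_perp W, g.val *ᵥ v - v ∈ W) ∧
      ∀ v, g.val *ᵥ v - v ∈ lt4u_perp W := Iff.rfl

/-- the elements of `lt4u_Q W` are unipotent of class `3` -/
theorem lt4u_Q_cube (W : Submodule K (Fin n → K)) {g : UG n K} (hg : g ∈ lt4u_Q W) :
    (g.val - 1) ^ 3 = 0 := by
  obtain ⟨h1, h2, h3⟩ := hg
  have e : ∀ v : Fin n → K, (g.val - 1) *ᵥ v = g.val *ᵥ v - v := by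
    intro v
    rw [Matrix.sub_mulVec, Matrix.one_mulVec]
  apply lt4u_mat_ext
  intro z
  rw [Matrix.zero_mulVec, pow_succ, pow_two, ← Matrix.mulVec_mulVec, ← Matrix.mulVec_mulVec,
    e z, e, e]
  have h4 := h2 _ (h3 z)
  rw [h1 _ h4, sub_self]

/-- `lt4u_Q W` is a `p`-group -/
theorem lt4u_Q_isPGroup (p : ℕ) [Fact p.Prime] [CharP K p] [NeZero n]
    (W : Submodule K (Fin n → K)) : IsPGroup p (lt4u_Q W) := by
  rintro ⟨g, hg⟩
  refine ⟨2, ?_⟩
  apply Subtype.ext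
  apply UG.val_injective
  change (g ^ p ^ 2).val = 1
  rw [UG.pow_val]
  exact lt4u_pow_eq_one_of_cube p (lt4u_Q_cube W hg)

/-- a unitary matrix stabilising `W` conjugates `lt4u_Q W` into itself -/
theorem lt4u_conj_mem_Q (W : Submodule K (Fin n → K)) (x : UG n K)
    (hx : ∀ v, x.val *ᵥ v ∈ W ↔ v ∈ W) (g : UG n K) (hg : g ∈ lt4u_Q W) :
    x * g * x⁻¹ ∈ lt4u_Q W := by
  obtain ⟨h1, h2, h3⟩ := hg
  have hxp := lt4u_perp_stab W x hx
  have hxi : ∀ v, (x⁻¹).val *ᵥ v ∈ W ↔ v ∈ W := by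
    intro v
    rw [← hx ((x⁻¹).val *ᵥ v), lt4u_mulVec_inv]
  have hxpi : ∀ v, (x⁻¹).val *ᵥ v ∈ lt4u_perp W ↔ v ∈ lt4u_perp W := by
    intro v
    rw [← hxp ((x⁻¹).val *ᵥ v), lt4u_mulVec_inv]
  have e : ∀ v : Fin n → K, (x * g * x⁻¹).val *ᵥ v - v =
      x.val *ᵥ (g.val *ᵥ ((x⁻¹).val *ᵥ v) - (x⁻¹).val *ᵥ v) := by
    intro v
    rw [UG.mul_val, UG.mul_val, ← Matrix.mulVec_mulVec, ← Matrix.mulVec_mulVec,
      Matrix.mulVec_sub, lt4u_mulVec_inv]
  refine ⟨fun v hv => ?_, fun v hv => ?_, fun v => ?_⟩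
  · rw [UG.mul_val, UG.mul_val, ← Matrix.mulVec_mulVec, ← Matrix.mulVec_mulVec,
      h1 _ ((hxi v).mpr hv), lt4u_mulVec_inv]
  · rw [e]
    exact (hx _).mpr (h2 _ ((hxpi v).mpr hv))
  · rw [e]
    exact (hxp _).mpr (h3 _)

/-- a unitary matrix stabilising `W` normalises `lt4u_Q W` -/
theorem lt4u_mem_normalizer_Q (W : Submodule K (Fin n → K)) (x : UG n K)
    (hx : ∀ v, x.val *ᵥ v ∈ W ↔ v ∈ W) :
    x ∈ normalizer (lt4u_Q W : Set (UG n K)) := by
  have hxi : ∀ v, (x⁻¹).val *ᵥ v ∈ W ↔ v ∈ W := by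
    intro v
    rw [← hx ((x⁻¹).val *ᵥ v), lt4u_mulVec_inv]
  rw [mem_normalizer_iff]
  intro g
  constructor
  · exact lt4u_conj_mem_Q W x hx g
  · intro h
    have := lt4u_conj_mem_Q W x⁻¹ hxi _ h
    have e : x⁻¹ * (x * g * x⁻¹) * x⁻¹⁻¹ = g := by group
    rwa [e] at this

/-- the Siegel elements lie in `lt4u_Q W` for `W` totally isotropic -/
theorem lt4u_sg_mem_Q (p : ℕ) [Fact p.Prime] [CharP K p] [NeZero n]
    (W : Submodule K (Fin n → K)) (hW : W ≤ lt4u_perp W) {e v : Fin n → K} {c : K}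
    (he : e ∈ W) (hv : v ∈ lt4u_perp W) (hee : lt4u_h e e = 0) (hve : lt4u_h v e = 0)
    (hc : c + star c + lt4u_h v v = 0) : lt4u_sg p e v c hee hve hc ∈ lt4u_Q W := by
  refine ⟨fun z hz => ?_, fun z hz => ?_, fun z => ?_⟩
  · rw [lt4u_sg_val, lt4u_sgM_mulVec]
    have h1 : lt4u_h z e = 0 := hW hz e he
    have h2 : lt4u_h z v = 0 := lt4u_h_eq_zero_symm (hv z hz)
    rw [h1, h2, mul_zero, zero_smul, zero_smul, sub_zero, add_zero, add_zero]
  · rw [lt4u_sg_val, lt4u_sgM_mulVec, add_sub_cancel_left]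
    have h1 : lt4u_h z e = 0 := hz e he
    rw [h1, mul_zero, zero_smul, zero_smul, zero_sub, add_zero]
    exact W.neg_mem (W.smul_mem _ he)
  · rw [lt4u_sg_val, lt4u_sgM_mulVec, add_sub_cancel_left]
    exact (lt4u_perp W).add_mem ((lt4u_perp W).sub_mem ((lt4u_perp W).smul_mem _ hv)
      ((lt4u_perp W).smul_mem _ (hW he))) ((lt4u_perp W).smul_mem _ (hW he))

end Cfsg.Agent.LT4
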