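import Mathlib
import Cfsg.Agent.LT4.PSUc

set_option autoImplicit false

/-!
# LT4 (S5012), family `PSU_n`, part d: the centraliser of `lt4u_Q W`

For `W ≠ 0` totally isotropic, a `p`-regular element of the unitary group centralising `lt4u_Q W`
is a scalar matrix, hence central.
-/

namespace Cfsg.Agent.LT4

open Matrix Subgroup Cfsg.Agent.Helper1.SUJ

variable {K : Type*} [Field K] [StarRing K] {n : ℕ}

/-- scalar matrices of the unitary group are central -/
theorem lt4u_central_of_scalar {x : UG n K} {s : K} (hx : x.val = s • (1 : Matrix (Fin n) (Fin n) K)) :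
    x ∈ center (UG n K) := by
  rw [Subgroup.mem_center_iff]
  intro g
  apply UG.val_injective
  rw [UG.mul_val, UG.mul_val, hx, Matrix.mul_smul, Matrix.smul_mul, Matrix.mul_one, Matrix.one_mul]

/-- there is a vector pairing to `1` with a given non-zero vector -/
theorem lt4u_exists_pair_one {e : Fin n → K} (he : e ≠ 0) : ∃ z : Fin n → K, lt4u_h z e = 1 := by
  have h1 : ∃ z : Fin n → K, lt4u_h z e ≠ 0 := by
    by_contra hcon
    push Not at hcon
    exact he (lt4u_h_nondeg_right hcon)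
  obtain ⟨z, hz⟩ := h1
  refine ⟨(lt4u_h z e)⁻¹ • z, ?_⟩
  rw [lt4u_h_smul_left, inv_mul_cancel₀ hz]

section main

variable (p : ℕ) [Fact p.Prime] [CharP K p] [NeZero n]

/-- commuting with a Siegel element, vector form -/
theorem lt4u_comm_sg {x : UG n K} {e v : Fin n → K} {c : K} (he : lt4u_h e e = 0)
    (hve : lt4u_h v e = 0) (hc : c + star c + lt4u_h v v = 0)
    (hx : lt4u_sg p e v c he hve hc * x = x * lt4u_sg p e v c he hve hc) (z : Fin n → K) :
    lt4u_h z e • (x.val *ᵥ v) - lt4u_h z v • (x.val *ᵥ e) + (c * lt4u_h z e) • (x.val *ᵥ e) =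
      lt4u_h (x.val *ᵥ z) e • v - lt4u_h (x.val *ᵥ z) v • e +
        (c * lt4u_h (x.val *ᵥ z) e) • e := by
  have h1 := congrArg (fun g : UG n K => g.val *ᵥ z) hx
  simp only [UG.mul_val, lt4u_sg_val] at h1
  rw [← Matrix.mulVec_mulVec, ← Matrix.mulVec_mulVec, lt4u_sgM_mulVec, lt4u_sgM_mulVec,
    Matrix.mulVec_add, Matrix.mulVec_add, Matrix.mulVec_sub, Matrix.mulVec_smul,
    Matrix.mulVec_smul, Matrix.mulVec_smul] at h1
  exact (add_left_cancel h1).symm

end main

/-- an element centralising `lt4u_Q W` stabilises every line of `W` -/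
theorem lt4u_cent_eigen (p : ℕ) [Fact p.Prime] [CharP K p] [NeZero n]
    (τ₀ : K) (hτ : star τ₀ = -τ₀) (hτ0 : τ₀ ≠ 0) (W : Submodule K (Fin n → K)) (hW : W ≤ lt4u_perp W) {x : UG n K}
    (hx : x ∈ centralizer (lt4u_Q W : Set (UG n K))) {e : Fin n → K} (he : e ∈ W) (he0 : e ≠ 0) :
    ∃ l : K, x.val *ᵥ e = l • e := by
  have hee : lt4u_h e e = 0 := hW he e he
  have h0e : lt4u_h (0 : Fin n → K) e = 0 := lt4u_h_zero_left e
  have hc : τ₀ + star τ₀ + lt4u_h (0 : Fin n → K) 0 = 0 := by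
    rw [hτ, lt4u_h_zero_left, add_neg_cancel, add_zero]
  have hmem : lt4u_sg p e 0 τ₀ hee h0e hc ∈ lt4u_Q W :=
    lt4u_sg_mem_Q p W hW he (lt4u_perp W).zero_mem hee h0e hc
  have hcomm := (mem_centralizer_iff.mp hx) _ hmem
  obtain ⟨z, hz⟩ := lt4u_exists_pair_one he0
  have h1 := lt4u_comm_sg p hee h0e hc hcomm z
  rw [hz, Matrix.mulVec_zero, smul_zero, lt4u_h_zero_right, zero_smul, sub_zero, mul_one,
    smul_zero, lt4u_h_zero_right, zero_smul, sub_zero, zero_add, zero_add] at h1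
  refine ⟨lt4u_h (x.val *ᵥ z) e, ?_⟩
  have h2 := congrArg (fun w : Fin n → K => τ₀⁻¹ • w) h1
  simp only [smul_smul] at h2
  rw [inv_mul_cancel₀ hτ0, one_smul, ← mul_assoc, inv_mul_cancel₀ hτ0, one_mul] at h2
  exact h2

/-- a `p`-regular element centralising `lt4u_Q W`, `W ≠ 0` totally isotropic, is central -/
theorem lt4u_cent_Q (p : ℕ) [Fact p.Prime] [CharP K p] [NeZero n]
    (τ₀ : K) (hτ : star τ₀ = -τ₀) (hτ0 : τ₀ ≠ 0) (lam : K) (hlam : lam + star lam = 1)
    (W : Submodule K (Fin n → K)) (hW : W ≤ lt4u_perp W) (hW0 : W ≠ ⊥)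
    {x : UG n K} (hx : x ∈ centralizer (lt4u_Q W : Set (UG n K))) (hreg : ¬ p ∣ orderOf x) :
    x ∈ center (UG n K) := by
  obtain ⟨e, he, he0⟩ := Submodule.exists_mem_ne_zero_of_ne_bot hW0
  have hee : lt4u_h e e = 0 := hW he e he
  obtain ⟨l, hl⟩ := lt4u_cent_eigen p τ₀ hτ hτ0 W hW hx he he0
  obtain ⟨z₀, hz₀⟩ := lt4u_exists_pair_one he0
  -- `l` has norm one
  have hnorm : star l * l = 1 := by
    have h1 := lt4u_h_unit x z₀ e
    rw [hl, lt4u_h_smul_right, hz₀] at h1
    have h2 : lt4u_h (x.val *ᵥ z₀) e = l := by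
      -- recompute `l` from the commutation relation
      have hc : τ₀ + star τ₀ + lt4u_h (0 : Fin n → K) 0 = 0 := by
        rw [hτ, lt4u_h_zero_left, add_neg_cancel, add_zero]
      have h0e : lt4u_h (0 : Fin n → K) e = 0 := lt4u_h_zero_left e
      have hmem : lt4u_sg p e 0 τ₀ hee h0e hc ∈ lt4u_Q W :=
        lt4u_sg_mem_Q p W hW he (lt4u_perp W).zero_mem hee h0e hc
      have hcomm := (mem_centralizer_iff.mp hx) _ hmem
      have h3 := lt4u_comm_sg p hee h0e hc hcomm z₀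
      rw [hz₀, Matrix.mulVec_zero, smul_zero, lt4u_h_zero_right, zero_smul, sub_zero, mul_one,
        smul_zero, lt4u_h_zero_right, zero_smul, sub_zero, zero_add, zero_add, hl, smul_smul] at h3
      -- `(τ₀ * l) • e = (τ₀ * h) • e`
      have h4 : (τ₀ * l - τ₀ * lt4u_h (x.val *ᵥ z₀) e) • e = 0 := by
        rw [sub_smul, h3, sub_self]
      rcases smul_eq_zero.mp h4 with h5 | h5
      · have h6 : τ₀ * (l - lt4u_h (x.val *ᵥ z₀) e) = 0 := by rw [mul_sub]; exact h5
        rcases mul_eq_zero.mp h6 with h7 | h7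
        · exact absurd h7 hτ0
        · exact (sub_eq_zero.mp h7).symm
      · exact absurd h5 he0
    rw [h2] at h1
    exact h1
  have hl0 : l ≠ 0 := by
    intro h
    rw [h, mul_zero] at hnorm
    exact zero_ne_one hnorm
  have hnorm' : l * star l = 1 := by rw [mul_comm]; exact hnorm
  -- `x` acts as `l` on `W^⊥` modulo `e`
  have hperp : ∀ v ∈ lt4u_perp W, ∃ m : K, x.val *ᵥ v - l • v = m • e := by
    intro v hv
    have hve : lt4u_h v e = 0 := hv e he
    have hvv : star (lt4u_h v v) = lt4u_h v v := lt4u_h_star v v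
    have hc : -(lam * lt4u_h v v) + star (-(lam * lt4u_h v v)) + lt4u_h v v = 0 := by
      rw [star_neg, star_mul', hvv]
      linear_combination (-lt4u_h v v) * hlam
    have hmem : lt4u_sg p e v (-(lam * lt4u_h v v)) hee hve hc ∈ lt4u_Q W :=
      lt4u_sg_mem_Q p W hW he hv hee hve hc
    have hcomm := (mem_centralizer_iff.mp hx) _ hmem
    have h3 := lt4u_comm_sg p hee hve hc hcomm z₀
    have h2 : lt4u_h (x.val *ᵥ z₀) e = l := by
      have h1 := lt4u_h_unit x z₀ e
      rw [hl, lt4u_h_smul_right, hz₀] at h1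
      -- `star l * h = 1` and `star l * l = 1`
      have : star l * (lt4u_h (x.val *ᵥ z₀) e - l) = 0 := by rw [mul_sub, h1, hnorm, sub_self]
      rcases mul_eq_zero.mp this with h5 | h5
      · exfalso
        rw [h5, zero_mul] at hnorm
        exact zero_ne_one hnorm
      · exact sub_eq_zero.mp h5
    rw [hz₀, h2, hl, one_smul, mul_one] at h3
    refine ⟨lt4u_h z₀ v * l - lt4u_h (x.val *ᵥ z₀) v, ?_⟩
    rw [sub_smul, mul_smul]
    -- `h3 : x v - h(z₀,v) • l • e + c • l • e = l • v - h(x z₀, v) • e + (c * l) • e`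
    have h4 : x.val *ᵥ v - l • v =
        lt4u_h z₀ v • l • e - lt4u_h (x.val *ᵥ z₀) v • e +
          ((-(lam * lt4u_h v v) * l) • e - (-(lam * lt4u_h v v)) • l • e) := by
      rw [← sub_eq_zero] at h3 ⊢
      rw [← h3]
      abel
    rw [h4, mul_smul, sub_self, add_zero]
  -- `x` acts as `l` on `W`
  have hWl : ∀ w ∈ W, x.val *ᵥ w = l • w := by
    intro w hw
    by_cases hw0 : w = 0
    · rw [hw0, Matrix.mulVec_zero, smul_zero]
    obtain ⟨lw, hlw⟩ := lt4u_cent_eigen p τ₀ hτ hτ0 W hW hx hw hw0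
    obtain ⟨m, hm⟩ := hperp w (hW hw)
    rw [hlw, ← sub_smul] at hm
    by_cases hll : lw - l = 0
    · rw [hlw, sub_eq_zero.mp hll]
    · have hwe : w = ((lw - l)⁻¹ * m) • e := by
        rw [mul_smul, ← hm, smul_smul, inv_mul_cancel₀ hll, one_smul]
      rw [hwe, Matrix.mulVec_smul, hl, smul_comm]
  -- `x - l` maps everything into `W^⊥`
  have hall : ∀ z : Fin n → K, x.val *ᵥ z - l • z ∈ lt4u_perp W := by
    intro z w hw
    have h1 := lt4u_h_unit x z w
    rw [hWl w hw, lt4u_h_smul_right] at h1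
    rw [lt4u_h_sub_left, lt4u_h_smul_left, ← h1, ← mul_assoc, hnorm', one_mul, sub_self]
  -- the nilpotent part
  set M : Matrix (Fin n) (Fin n) K := x.val - l • (1 : Matrix (Fin n) (Fin n) K) with hM
  have hMv : ∀ z : Fin n → K, M *ᵥ z = x.val *ᵥ z - l • z := by
    intro z
    rw [hM, Matrix.sub_mulVec, Matrix.smul_mulVec, Matrix.one_mulVec]
  have hM3 : M ^ 3 = 0 := by
    apply lt4u_mat_ext
    intro z
    rw [Matrix.zero_mulVec, pow_succ, pow_two, ← Matrix.mulVec_mulVec, ← Matrix.mulVec_mulVec]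
    obtain ⟨m, hm⟩ := hperp _ (hall z)
    rw [hMv z, hMv (x.val *ᵥ z - l • z), hm, hMv, Matrix.mulVec_smul, hWl e he, smul_comm,
      sub_self]
  have hp : 2 ≤ p := (Fact.out : p.Prime).two_le
  have h3 : 3 ≤ p ^ 2 := by nlinarith
  have hMp : M ^ p ^ 2 = 0 := by
    obtain ⟨k, hk⟩ := Nat.exists_eq_add_of_le h3
    rw [hk, pow_add, hM3, zero_mul]
  have hxp : x.val ^ p ^ 2 = (l ^ p ^ 2) • (1 : Matrix (Fin n) (Fin n) K) := by
    have e1 : x.val = l • (1 : Matrix (Fin n) (Fin n) K) + M := by rw [hM]; abel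
    have hcomm : Commute (l • (1 : Matrix (Fin n) (Fin n) K)) M := by
      rw [Commute, SemiconjBy, Matrix.smul_mul, Matrix.one_mul, Matrix.mul_smul, Matrix.mul_one]
    conv_lhs => rw [e1]
    rw [add_pow_char_pow_of_commute p 2 hcomm, hMp, add_zero, smul_pow, one_pow]
  -- `x` is a power of `x ^ p²`
  have hcop : (p ^ 2).Coprime (orderOf x) := by
    apply Nat.Coprime.pow_left
    exact (Nat.Prime.coprime_iff_not_dvd (Fact.out : p.Prime)).mpr hreg
  obtain ⟨m, hm⟩ := exists_pow_eq_self_of_coprime hcop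
  have hval : x.val = ((l ^ p ^ 2) ^ m) • (1 : Matrix (Fin n) (Fin n) K) := by
    conv_lhs => rw [← hm]
    rw [UG.pow_val, UG.pow_val, hxp, smul_pow, one_pow]
  exact lt4u_central_of_scalar hval

end Cfsg.Agent.LT4
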