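import Mathlib
import Cfsg.Agent.LT4.PSUd
import Cfsg.Agent.LT4.Rad

set_option autoImplicit false

/-!
# LT4 (S5012), family `PSU_n`, part e: the radical property of the unitary group

`lt4_psu_rad`: for the unitary group `UG n K` of the antidiagonal hermitian form over a finite field
of characteristic `p` (with an element of trace zero and one of trace one), `p`-regular elements
centralising a non-trivial radical `p`-subgroup are central.
-/

namespace Cfsg.Agent.LT4

open Matrix Subgroup Cfsg.Agent.Helper1.SUJ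

variable {K : Type*} [Field K] [StarRing K] {n : ℕ}

/-- the natural matrix representation of the unitary group -/
def lt4u_rho : UG n K →* Matrix (Fin n) (Fin n) K where
  toFun := UG.val
  map_one' := rfl
  map_mul' _ _ := rfl

theorem lt4u_rho_apply (g : UG n K) : lt4u_rho g = g.val := rfl

theorem lt4u_rho_injective : Function.Injective (lt4u_rho : UG n K →* Matrix (Fin n) (Fin n) K) :=
  UG.val_injective

/-- **the radical property of the unitary group** -/
theorem lt4_psu_rad [Finite K] (p : ℕ) [Fact p.Prime] [CharP K p] [NeZero n]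
    (τ₀ : K) (hτ : star τ₀ = -τ₀) (hτ0 : τ₀ ≠ 0) (lam : K) (hlam : lam + star lam = 1) :
    lt4_RadProp p (UG n K) := by
  intro D hDp hD hrad x hx hreg
  -- the fixed space and its radical
  set W : Submodule K (Fin n → K) := lt4_fix lt4u_rho D with hW
  have hWtop : W ≠ ⊤ := lt4_fix_ne_top lt4u_rho lt4u_rho_injective D hD
  have hperp0 : lt4u_perp W ≠ ⊥ := lt4u_perp_ne_bot W hWtop
  have hstabD : ∀ d ∈ D, ∀ v ∈ lt4u_perp W, lt4u_rho d *ᵥ v ∈ lt4u_perp W := by
    intro d hd v hv w hw
    have h1 : lt4u_rho d *ᵥ w = w := hw d hd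
    rw [lt4u_rho_apply] at h1 ⊢
    rw [← h1, lt4u_h_unit]
    exact hv w hw
  obtain ⟨v₀, hv₀p, hv₀0, hv₀W⟩ := lt4_exists_fixed_in p lt4u_rho D hDp (lt4u_perp W) hperp0 hstabD
  set W₀ : Submodule K (Fin n → K) := W ⊓ lt4u_perp W with hW₀
  have hW₀0 : W₀ ≠ ⊥ := by
    intro h
    apply hv₀0
    have : v₀ ∈ W₀ := ⟨hv₀W, hv₀p⟩
    rw [h, Submodule.mem_bot] at this
    exact this
  have hiso : W₀ ≤ lt4u_perp W₀ := by
    intro u hu w hw
    exact hu.2 w hw.1
  -- the normaliser of `D` stabilises `W₀`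
  have hN : normalizer (D : Set (UG n K)) ≤ normalizer (lt4u_Q W₀ : Set (UG n K)) := by
    intro y hy
    apply lt4u_mem_normalizer_Q
    have h1 : ∀ v, y.val *ᵥ v ∈ W ↔ v ∈ W := fun v => lt4_normalizer_fix_map lt4u_rho D y hy v
    have h2 := lt4u_perp_stab W y h1
    intro v
    rw [hW₀, Submodule.mem_inf, Submodule.mem_inf, h1, h2]
  exact lt4_rad_of_Q p D (lt4u_Q W₀) hDp (lt4u_Q_isPGroup p W₀) hrad hN
    (fun y hy hyreg => lt4u_cent_Q p τ₀ hτ hτ0 lam hlam W₀ hiso hW₀0 hy hyreg) x hx hreg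

end Cfsg.Agent.LT4
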