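import Mathlib
import Cfsg.Agent.LT4.PSUe
import Cfsg.Agent.LT4.Quot
import Cfsg.Agent.LT4.RadQuot
import Cfsg.Agent.Helper1.SUJm
import Cfsg.Agent.Helper8.SUCenter
import Cfsg.Agent.LT2.TrField
import Cfsg.Prelude.Def_LieTypeChar

set_option autoImplicit false

/-!
# LT4 (S5012), family `PSU_n`: the unitary disjunct of `IsLieTypeChar`

A group isomorphic to `PSU_n(q)` over a field of characteristic `p` has only `p`-blocks of defect
zero or of full defect.
-/

namespace Cfsg.Agent.LT4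

open Matrix Subgroup Cfsg Cfsg.Agent.Helper1.SUJ

/-- the image of the centre under an isomorphism is the centre -/
theorem lt4u_map_center {X Y : Type*} [Group X] [Group Y] (φ : X ≃* Y) :
    (center X).map (φ : X →* Y) = center Y := by
  ext y
  rw [Subgroup.mem_map, Subgroup.mem_center_iff]
  constructor
  · rintro ⟨x, hx, rfl⟩ g
    rw [Subgroup.mem_center_iff] at hx
    obtain ⟨g', rfl⟩ := φ.surjective g
    change φ g' * φ x = φ x * φ g'
    rw [← map_mul, ← map_mul, hx g']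
  · intro h
    refine ⟨φ.symm y, ?_, φ.apply_symm_apply y⟩
    rw [Subgroup.mem_center_iff]
    intro g
    apply φ.injective
    rw [map_mul, map_mul, φ.apply_symm_apply]
    exact h (φ g)

/-- **S5012 for `PSU_n(q)`** (every `n ≥ 1`) -/
theorem lt4_psu {F : Type*} [Field F] [Fintype F] (p : ℕ) [Fact p.Prime] [CharP F p]
    (n q : ℕ) (hF : Fintype.card F = q ^ 2) (hn : 1 ≤ n) : lt4_P p (Cfsg.PSU n F q) := by
  let _ : StarRing F := Cfsg.Agent.Helper1.SUJ.starRingQ hF
  have : NeZero n := ⟨by omega⟩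
  have hstar : ∀ x : F, star x = x ^ q := fun _ => rfl
  obtain ⟨τ₀, hτ0, hτ⟩ := Cfsg.Agent.Helper8.SUCenter.exists_trace_zero hF
  have hτ' : star τ₀ = -τ₀ := by
    rw [hstar]
    exact eq_neg_of_add_eq_zero_left hτ
  obtain ⟨lam, hlam⟩ := Cfsg.Agent.LT2.lt2_psu_htr hstar hF 1 (star_one F)
  obtain ⟨φ⟩ := Cfsg.Agent.Helper1.SUJ.exists_iso (n := n) hstar hF
  have hrad : lt4_RadProp p (UG n F) := lt4_psu_rad p τ₀ hτ' hτ0 lam hlam
  have hquot : lt4_RadProp p (UG n F ⧸ center (UG n F)) :=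
    lt4_rad_quot p hrad (center (UG n F)) le_rfl
  have hP : lt4_P p (UG n F ⧸ center (UG n F)) :=
    fun M hM B hB => lt4_defect_of_rad p hquot M hM B hB
  let ψ : UG n F ⧸ center (UG n F) ≃* Cfsg.PSU n F q :=
    QuotientGroup.congr (center (UG n F)) (center (Cfsg.SU n F q)) φ (lt4u_map_center φ)
  exact lt4_of_iso p ψ.symm hP

/-- **the unitary disjunct of `IsLieTypeChar`** -/
theorem lt4_psu_iso {G : Type*} [Group G] (p : ℕ) [Fact p.Prime] (hG : Cfsg.IsPSUChar p G) :
    lt4_P p G := by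
  obtain ⟨F, _, _, _, n, q, hF, hn, -, ⟨e⟩⟩ := hG
  exact lt4_of_iso p e (lt4_psu p n q hF (by omega))

end Cfsg.Agent.LT4
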