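import Mathlib
import Cfsg.Agent.LT4.FixGen
import Cfsg.Agent.Helper7.SympPerfect

set_option autoImplicit false

/-!
# LT4 (S5012), family `Sp`: the unipotent radical of the stabiliser of a totally isotropic subspace

For a subspace `W` of the natural module of `Sp_{2m}(F)`: `lt4sp_perp W` is its orthogonal for the
symplectic form, `lt4sp_Q W` the subgroup of the elements fixing `W` pointwise and acting trivially on
`W^⊥ / W`.  It is normalised by the stabiliser of `W`, it is a `p`-group in characteristic `p`, and for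
`W` totally isotropic and non-zero the `p`-regular elements of its centraliser are central.
-/

namespace Cfsg.Agent.LT4

open Matrix Cfsg Cfsg.Agent.Helper7.Symp

variable {F : Type*} [Field F] {m : ℕ}

/-- the orthogonal of a subspace for the symplectic form -/
def lt4sp_perp (W : Submodule F (Fin m ⊕ Fin m → F)) : Submodule F (Fin m ⊕ Fin m → F) where
  carrier := {v | ∀ w ∈ W, sympForm m F w v = 0}
  add_mem' := by
    intro a b ha hb w hw
    rw [sympForm_add_right, ha w hw, hb w hw, add_zero]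
  zero_mem' := by
    intro w _
    have h := sympForm_smul_right (0 : F) w (0 : Fin m ⊕ Fin m → F)
    rw [zero_smul, zero_mul] at h
    exact h
  smul_mem' := by
    intro c v hv w hw
    rw [sympForm_smul_right, hv w hw, mul_zero]

theorem lt4sp_mem_perp (W : Submodule F (Fin m ⊕ Fin m → F)) (v : Fin m ⊕ Fin m → F) :
    v ∈ lt4sp_perp W ↔ ∀ w ∈ W, sympForm m F w v = 0 := Iff.rfl

/-- an isometry mapping `W` into `W` maps `W^⊥` into `W^⊥`, when its inverse also maps `W` into `W` -/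
theorem lt4sp_perp_stab (W : Submodule F (Fin m ⊕ Fin m → F)) (h : symplecticGroup (Fin m) F)
    (hinv : ∀ w ∈ W, ((h⁻¹ : symplecticGroup (Fin m) F) :
      Matrix (Fin m ⊕ Fin m) (Fin m ⊕ Fin m) F) *ᵥ w ∈ W)
    (v : Fin m ⊕ Fin m → F) (hv : v ∈ lt4sp_perp W) :
    (h : Matrix (Fin m ⊕ Fin m) (Fin m ⊕ Fin m) F) *ᵥ v ∈ lt4sp_perp W := by
  intro w hw
  have h1 := sympForm_mulVec h
    (((h⁻¹ : symplecticGroup (Fin m) F) : Matrix (Fin m ⊕ Fin m) (Fin m ⊕ Fin m) F) *ᵥ w) v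
  rw [coe_mul_inv_mulVec] at h1
  rw [h1]
  exact hv _ (hinv w hw)

/-- the unipotent radical of the stabiliser of `W` (for `W` totally isotropic) -/
def lt4sp_Q (W : Submodule F (Fin m ⊕ Fin m → F)) : Subgroup (symplecticGroup (Fin m) F) where
  carrier := {g | (∀ w ∈ W, (g : Matrix (Fin m ⊕ Fin m) (Fin m ⊕ Fin m) F) *ᵥ w = w) ∧
    ∀ v ∈ lt4sp_perp W, (g : Matrix (Fin m ⊕ Fin m) (Fin m ⊕ Fin m) F) *ᵥ v - v ∈ W}
  mul_mem' := by
    rintro g h ⟨hg1, hg2⟩ ⟨hh1, hh2⟩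
    refine ⟨fun w hw => ?_, fun v hv => ?_⟩
    · rw [coe_mul_mulVec, hh1 w hw, hg1 w hw]
    · rw [coe_mul_mulVec]
      have e : (g : Matrix (Fin m ⊕ Fin m) (Fin m ⊕ Fin m) F) *ᵥ
          ((h : Matrix (Fin m ⊕ Fin m) (Fin m ⊕ Fin m) F) *ᵥ v) - v =
          ((h : Matrix (Fin m ⊕ Fin m) (Fin m ⊕ Fin m) F) *ᵥ v - v) +
            ((g : Matrix (Fin m ⊕ Fin m) (Fin m ⊕ Fin m) F) *ᵥ v - v) := by
        have e1 : (h : Matrix (Fin m ⊕ Fin m) (Fin m ⊕ Fin m) F) *ᵥ v =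
            ((h : Matrix (Fin m ⊕ Fin m) (Fin m ⊕ Fin m) F) *ᵥ v - v) + v := by abel
        conv_lhs => rw [e1, mulVec_add, hg1 _ (hh2 v hv)]
        abel
      rw [e]
      exact W.add_mem (hh2 v hv) (hg2 v hv)
  one_mem' := by
    refine ⟨fun w _ => coe_one_mulVec w, fun v _ => ?_⟩
    rw [coe_one_mulVec, sub_self]
    exact W.zero_mem
  inv_mem' := by
    rintro g ⟨hg1, hg2⟩
    refine ⟨fun w hw => coe_inv_mulVec_eq g (hg1 w hw), fun v hv => ?_⟩
    have hu := hg2 v hv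
    have e1 : (g : Matrix (Fin m ⊕ Fin m) (Fin m ⊕ Fin m) F) *ᵥ
        (v - ((g : Matrix (Fin m ⊕ Fin m) (Fin m ⊕ Fin m) F) *ᵥ v - v)) = v := by
      rw [mulVec_sub, hg1 _ hu]
      abel
    rw [coe_inv_mulVec_eq g e1]
    have e2 : v - ((g : Matrix (Fin m ⊕ Fin m) (Fin m ⊕ Fin m) F) *ᵥ v - v) - v =
        -((g : Matrix (Fin m ⊕ Fin m) (Fin m ⊕ Fin m) F) *ᵥ v - v) := by abel
    rw [e2]
    exact W.neg_mem hu

theorem lt4sp_mem_Q (W : Submodule F (Fin m ⊕ Fin m → F)) (g : symplecticGroup (Fin m) F) :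
    g ∈ lt4sp_Q W ↔ (∀ w ∈ W, (g : Matrix (Fin m ⊕ Fin m) (Fin m ⊕ Fin m) F) *ᵥ w = w) ∧
      ∀ v ∈ lt4sp_perp W, (g : Matrix (Fin m ⊕ Fin m) (Fin m ⊕ Fin m) F) *ᵥ v - v ∈ W := Iff.rfl

/-- conjugation by an element stabilising `W` (with its inverse) preserves `lt4sp_Q W` -/
theorem lt4sp_conj_mem_Q (W : Submodule F (Fin m ⊕ Fin m → F)) (h : symplecticGroup (Fin m) F)
    (hst : ∀ w ∈ W, (h : Matrix (Fin m ⊕ Fin m) (Fin m ⊕ Fin m) F) *ᵥ w ∈ W)
    (hinv : ∀ w ∈ W, ((h⁻¹ : symplecticGroup (Fin m) F) :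
      Matrix (Fin m ⊕ Fin m) (Fin m ⊕ Fin m) F) *ᵥ w ∈ W)
    (g : symplecticGroup (Fin m) F) (hg : g ∈ lt4sp_Q W) : h * g * h⁻¹ ∈ lt4sp_Q W := by
  obtain ⟨hg1, hg2⟩ := hg
  refine ⟨fun w hw => ?_, fun v hv => ?_⟩
  · rw [coe_mul_mulVec, coe_mul_mulVec, hg1 _ (hinv w hw), coe_mul_inv_mulVec]
  · rw [coe_mul_mulVec, coe_mul_mulVec]
    have hv' : ((h⁻¹ : symplecticGroup (Fin m) F) :
        Matrix (Fin m ⊕ Fin m) (Fin m ⊕ Fin m) F) *ᵥ v ∈ lt4sp_perp W := by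
      apply lt4sp_perp_stab W h⁻¹ _ v hv
      intro w hw
      rw [inv_inv]
      exact hst w hw
    have h2 := hg2 _ hv'
    have h3 := hst _ h2
    rw [mulVec_sub, coe_mul_inv_mulVec] at h3
    exact h3

end Cfsg.Agent.LT4
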