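import Mathlib
import Cfsg.Agent.LT4.SpRadA

set_option autoImplicit false

/-!
# LT4 (S5012), family `Sp`, part B: `lt4sp_Q W` is a `p`-group and contains the transvections along `W`
and the Siegel elements `y ↦ y + f(y, e) v + f(y, v) e` (`e ∈ W`, `v ∈ W^⊥`).
-/

namespace Cfsg.Agent.LT4

open Matrix Cfsg Cfsg.Agent.Helper7.Symp

variable {F : Type*} [Field F] {m : ℕ}

/-- a matrix killing every vector is zero -/
theorem lt4sp_eq_zero_of_mulVec {ι : Type*} [Fintype ι] [DecidableEq ι] (N : Matrix ι ι F)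
    (h : ∀ v : ι → F, N *ᵥ v = 0) : N = 0 := by
  ext i j
  have := congrFun (h (Pi.single j 1)) i
  rw [mulVec_single_one] at this
  exact this

/-- `g - 1` maps everything into `W^⊥` when `g` fixes `W` pointwise -/
theorem lt4sp_sub_mem_perp (W : Submodule F (Fin m ⊕ Fin m → F)) (g : symplecticGroup (Fin m) F)
    (hg : ∀ w ∈ W, (g : Matrix (Fin m ⊕ Fin m) (Fin m ⊕ Fin m) F) *ᵥ w = w)
    (v : Fin m ⊕ Fin m → F) :
    (g : Matrix (Fin m ⊕ Fin m) (Fin m ⊕ Fin m) F) *ᵥ v - v ∈ lt4sp_perp W := by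
  intro w hw
  rw [sympForm_sub_right]
  have h1 := sympForm_mulVec g w v
  rw [hg w hw] at h1
  rw [h1, sub_self]

theorem lt4sp_isPGroup_Q (p : ℕ) [Fact p.Prime] [CharP F p] [NeZero m]
    (W : Submodule F (Fin m ⊕ Fin m → F)) : IsPGroup p (lt4sp_Q W) := by
  have hp : p.Prime := Fact.out
  rintro ⟨g, hg1, hg2⟩
  refine ⟨2, ?_⟩
  apply Subtype.ext
  apply Subtype.ext
  show ((g ^ p ^ 2 : symplecticGroup (Fin m) F) :
    Matrix (Fin m ⊕ Fin m) (Fin m ⊕ Fin m) F) = 1
  rw [SubmonoidClass.coe_pow]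
  set M : Matrix (Fin m ⊕ Fin m) (Fin m ⊕ Fin m) F := g.1 with hM
  have hN : ∀ v, (M - 1) *ᵥ v = M *ᵥ v - v := by
    intro v
    rw [sub_mulVec, one_mulVec]
  have h3 : (M - 1) * (M - 1) * (M - 1) = 0 := by
    apply lt4sp_eq_zero_of_mulVec
    intro v
    rw [← mulVec_mulVec, ← mulVec_mulVec, hN v, hN, hN]
    have a1 : M *ᵥ v - v ∈ lt4sp_perp W := lt4sp_sub_mem_perp W g hg1 v
    have a2 := hg2 _ a1
    rw [hg1 _ a2, sub_self]
  have h1 : (M - 1) ^ p ^ 2 = 0 := by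
    have h3' : (M - 1) ^ 3 = 0 := by
      rw [pow_succ, pow_two, h3]
    have hle : 3 ≤ p ^ 2 := by
      have := hp.two_le
      nlinarith
    obtain ⟨r, hr⟩ := Nat.exists_eq_add_of_le hle
    rw [hr, pow_add, h3', zero_mul]
  have : Nonempty (Fin m ⊕ Fin m) := ⟨Sum.inl ⟨0, Nat.pos_of_ne_zero (NeZero.ne m)⟩⟩
  rw [sub_pow_char_pow_of_commute p 2 (Commute.one_right M), one_pow, sub_eq_zero] at h1
  exact h1

/-- transvections along a vector of a totally isotropic `W` lie in `lt4sp_Q W` -/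
theorem lt4sp_T_mem_Q (W : Submodule F (Fin m ⊕ Fin m → F)) (hW : W ≤ lt4sp_perp W)
    (e : Fin m ⊕ Fin m → F) (he : e ∈ W) (c : F) : T e c ∈ lt4sp_Q W := by
  refine ⟨fun w hw => ?_, fun v hv => ?_⟩
  · rw [T_mulVec, hW he w hw, mul_zero, zero_smul, add_zero]
  · rw [T_mulVec, sympForm_swap, hv e he, neg_zero, mul_zero, zero_smul, add_zero, sub_self]
    exact W.zero_mem

/-- the Siegel element attached to `e`, `v` with `f(e, v) = 0` -/
noncomputable def lt4sp_sieg (e v : Fin m ⊕ Fin m → F) : symplecticGroup (Fin m) F :=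
  prodT [(e + v, (1 : F)), (e, -1), (v, -1)]

theorem lt4sp_sieg_mulVec {e v : Fin m ⊕ Fin m → F} (hev : sympForm m F e v = 0)
    (y : Fin m ⊕ Fin m → F) :
    (lt4sp_sieg e v : Matrix (Fin m ⊕ Fin m) (Fin m ⊕ Fin m) F) *ᵥ y =
      y + (sympForm m F y e • v + sympForm m F y v • e) := by
  have hve : sympForm m F v e = 0 := by rw [sympForm_swap, hev, neg_zero]
  unfold lt4sp_sieg
  rw [prodT_mulVec]
  · simp only [List.map_cons, List.map_nil, List.sum_cons, List.sum_nil, sympForm_add_right]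
    ext i
    simp only [Pi.add_apply, Pi.smul_apply, smul_eq_mul, Pi.zero_apply]
    ring
  · intro q hq q' hq'
    simp only [List.mem_cons, List.not_mem_nil, or_false] at hq hq'
    rcases hq with rfl | rfl | rfl <;> rcases hq' with rfl | rfl | rfl <;>
      simp only [sympForm_add_left, sympForm_add_right, sympForm_self, hev, hve, add_zero]

theorem lt4sp_sieg_mem_Q (W : Submodule F (Fin m ⊕ Fin m → F)) (hW : W ≤ lt4sp_perp W)
    (e v : Fin m ⊕ Fin m → F) (he : e ∈ W) (hv : v ∈ lt4sp_perp W) : lt4sp_sieg e v ∈ lt4sp_Q W := by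
  have hev : sympForm m F e v = 0 := hv e he
  refine ⟨fun w hw => ?_, fun u hu => ?_⟩
  · rw [lt4sp_sieg_mulVec hev, hW he w hw, hv w hw, zero_smul, zero_smul, add_zero, add_zero]
  · rw [lt4sp_sieg_mulVec hev]
    have h1 : sympForm m F u e = 0 := by rw [sympForm_swap, hu e he, neg_zero]
    rw [h1, zero_smul, zero_add, add_sub_cancel_left]
    exact W.smul_mem _ he

end Cfsg.Agent.LT4
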