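import Mathlib
import Cfsg.Agent.LT4.SpRadB

set_option autoImplicit false

/-!
# LT4 (S5012), family `Sp`, part C: the `p`-regular elements of `C(lt4sp_Q W)` are central
(`W` totally isotropic and non-zero).
-/

namespace Cfsg.Agent.LT4

open Matrix Cfsg Cfsg.Agent.Helper7.Symp

variable {F : Type*} [Field F] {m : ℕ}

/-- the central element `-1` of the symplectic group -/
def lt4sp_negOne (F : Type*) [Field F] (m : ℕ) : symplecticGroup (Fin m) F :=
  ⟨-1, SymplecticGroup.neg_mem (one_mem _)⟩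

theorem lt4sp_negOne_mulVec (v : Fin m ⊕ Fin m → F) :
    (lt4sp_negOne F m : Matrix (Fin m ⊕ Fin m) (Fin m ⊕ Fin m) F) *ᵥ v = -v := by
  change (-1 : Matrix (Fin m ⊕ Fin m) (Fin m ⊕ Fin m) F) *ᵥ v = -v
  rw [neg_mulVec, one_mulVec]

theorem lt4sp_negOne_mem_center : lt4sp_negOne F m ∈ Subgroup.center (symplecticGroup (Fin m) F) := by
  rw [Subgroup.mem_center_iff]
  intro g
  apply ext_mulVec
  intro v
  rw [coe_mul_mulVec, coe_mul_mulVec, lt4sp_negOne_mulVec, lt4sp_negOne_mulVec, mulVec_neg]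

theorem lt4sp_negOne_mul_self : lt4sp_negOne F m * lt4sp_negOne F m = 1 := by
  apply ext_mulVec
  intro v
  rw [coe_mul_mulVec, lt4sp_negOne_mulVec, lt4sp_negOne_mulVec, neg_neg, coe_one_mulVec]

/-- Step 1: every non-zero vector of `W` is an eigenvector of `x ∈ C(Q)`, with eigenvalue `±1`. -/
theorem lt4sp_cent_eigen (W : Submodule F (Fin m ⊕ Fin m → F)) (hW : W ≤ lt4sp_perp W)
    (x : symplecticGroup (Fin m) F)
    (hx : x ∈ Subgroup.centralizer ((lt4sp_Q W : Subgroup _) : Set (symplecticGroup (Fin m) F)))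
    (e : Fin m ⊕ Fin m → F) (he : e ∈ W) (he0 : e ≠ 0) :
    ∃ lam : F, lam * lam = 1 ∧
      (x : Matrix (Fin m ⊕ Fin m) (Fin m ⊕ Fin m) F) *ᵥ e = lam • e ∧
      ∀ y, sympForm m F ((x : Matrix (Fin m ⊕ Fin m) (Fin m ⊕ Fin m) F) *ᵥ y) e =
        lam * sympForm m F y e := by
  have hcomm : T e 1 * x = x * T e 1 :=
    Subgroup.mem_centralizer_iff.mp hx (T e 1) (lt4sp_T_mem_Q W hW e he 1)
  have key : ∀ y, sympForm m F ((x : Matrix (Fin m ⊕ Fin m) (Fin m ⊕ Fin m) F) *ᵥ y) e • e =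
      sympForm m F y e • ((x : Matrix (Fin m ⊕ Fin m) (Fin m ⊕ Fin m) F) *ᵥ e) := by
    intro y
    have h := congrArg (fun g : symplecticGroup (Fin m) F =>
      (g : Matrix (Fin m ⊕ Fin m) (Fin m ⊕ Fin m) F) *ᵥ y) hcomm
    simp only [coe_mul_mulVec, T_mulVec, one_mul, mulVec_add, mulVec_smul] at h
    exact add_left_cancel h
  obtain ⟨y₀, hy₀⟩ := exists_sympForm_ne_zero he0
  have hc : sympForm m F y₀ e ≠ 0 := by
    rw [sympForm_swap]
    exact neg_ne_zero.mpr hy₀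
  set c := sympForm m F y₀ e with hcdef
  have hxe : (x : Matrix (Fin m ⊕ Fin m) (Fin m ⊕ Fin m) F) *ᵥ e =
      (c⁻¹ * sympForm m F ((x : Matrix (Fin m ⊕ Fin m) (Fin m ⊕ Fin m) F) *ᵥ y₀) e) • e := by
    have h := key y₀
    rw [← smul_smul, h, smul_smul, inv_mul_cancel₀ hc, one_smul]
  set lam := c⁻¹ * sympForm m F ((x : Matrix (Fin m ⊕ Fin m) (Fin m ⊕ Fin m) F) *ᵥ y₀) e with hlam
  have hall : ∀ y, sympForm m F ((x : Matrix (Fin m ⊕ Fin m) (Fin m ⊕ Fin m) F) *ᵥ y) e =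
      lam * sympForm m F y e := by
    intro y
    have h := key y
    rw [hxe, smul_smul] at h
    have := smul_left_injective F he0 h
    rw [this, mul_comm]
  refine ⟨lam, ?_, hxe, hall⟩
  have h1 := sympForm_mulVec x y₀ e
  rw [hxe, sympForm_smul_right, hall y₀] at h1
  have h2 : (lam * lam - 1) * c = 0 := by
    rw [sub_mul, one_mul, mul_assoc, h1, sub_self]
  rcases mul_eq_zero.mp h2 with h3 | h3
  · exact sub_eq_zero.mp h3
  · exact absurd h3 hc

/-- Step 2: on `W^⊥` the element `x` is `lam` modulo the line of `e`. -/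
theorem lt4sp_cent_perp (W : Submodule F (Fin m ⊕ Fin m → F)) (hW : W ≤ lt4sp_perp W)
    (x : symplecticGroup (Fin m) F)
    (hx : x ∈ Subgroup.centralizer ((lt4sp_Q W : Subgroup _) : Set (symplecticGroup (Fin m) F)))
    (e : Fin m ⊕ Fin m → F) (he : e ∈ W) (he0 : e ≠ 0) (lam : F)
    (h1 : (x : Matrix (Fin m ⊕ Fin m) (Fin m ⊕ Fin m) F) *ᵥ e = lam • e)
    (h2 : ∀ y, sympForm m F ((x : Matrix (Fin m ⊕ Fin m) (Fin m ⊕ Fin m) F) *ᵥ y) e =
      lam * sympForm m F y e)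
    (v : Fin m ⊕ Fin m → F) (hv : v ∈ lt4sp_perp W) :
    ∃ mu : F, (x : Matrix (Fin m ⊕ Fin m) (Fin m ⊕ Fin m) F) *ᵥ v = lam • v + mu • e := by
  have hev : sympForm m F e v = 0 := hv e he
  have hcomm : lt4sp_sieg e v * x = x * lt4sp_sieg e v :=
    Subgroup.mem_centralizer_iff.mp hx _ (lt4sp_sieg_mem_Q W hW e v he hv)
  obtain ⟨y₀, hy₀⟩ := exists_sympForm_ne_zero he0
  have hc : sympForm m F y₀ e ≠ 0 := by
    rw [sympForm_swap]
    exact neg_ne_zero.mpr hy₀
  set c := sympForm m F y₀ e with hcdef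
  have h := congrArg (fun g : symplecticGroup (Fin m) F =>
    (g : Matrix (Fin m ⊕ Fin m) (Fin m ⊕ Fin m) F) *ᵥ y₀) hcomm
  simp only [coe_mul_mulVec, lt4sp_sieg_mulVec hev, mulVec_add, mulVec_smul] at h
  have h' := add_left_cancel h
  rw [h2 y₀, h1, ← hcdef] at h'
  -- h' : (lam * c) • v + f(x y₀, v) • e = c • x v + f(y₀, v) • lam • e
  set a := sympForm m F ((x : Matrix (Fin m ⊕ Fin m) (Fin m ⊕ Fin m) F) *ᵥ y₀) v with ha
  set b := sympForm m F y₀ v with hb
  have h3 : c • ((x : Matrix (Fin m ⊕ Fin m) (Fin m ⊕ Fin m) F) *ᵥ v) =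
      (lam * c) • v + (a - b * lam) • e := by
    rw [sub_smul, ← smul_smul b lam e]
    rw [← sub_eq_iff_eq_add] at h'
    rw [← h']
    abel
  refine ⟨c⁻¹ * (a - b * lam), ?_⟩
  have h4 : (x : Matrix (Fin m ⊕ Fin m) (Fin m ⊕ Fin m) F) *ᵥ v =
      c⁻¹ • (c • ((x : Matrix (Fin m ⊕ Fin m) (Fin m ⊕ Fin m) F) *ᵥ v)) := by
    rw [smul_smul, inv_mul_cancel₀ hc, one_smul]
  rw [h4, h3, smul_add, smul_smul, smul_smul]
  congr 2
  rw [mul_comm lam c, ← mul_assoc, inv_mul_cancel₀ hc, one_mul]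

/-- Step 3: `x ∈ C(Q)` is a scalar `±1` on `W` and on `W^⊥/W`. -/
theorem lt4sp_cent_scalar (W : Submodule F (Fin m ⊕ Fin m → F)) (hW : W ≤ lt4sp_perp W)
    (hW0 : W ≠ ⊥) (x : symplecticGroup (Fin m) F)
    (hx : x ∈ Subgroup.centralizer ((lt4sp_Q W : Subgroup _) : Set (symplecticGroup (Fin m) F))) :
    ∃ lam : F, lam * lam = 1 ∧
      (∀ w ∈ W, (x : Matrix (Fin m ⊕ Fin m) (Fin m ⊕ Fin m) F) *ᵥ w = lam • w) ∧
      ∀ v ∈ lt4sp_perp W, (x : Matrix (Fin m ⊕ Fin m) (Fin m ⊕ Fin m) F) *ᵥ v - lam • v ∈ W := by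
  obtain ⟨e₀, he₀, he₀0⟩ := Submodule.exists_mem_ne_zero_of_ne_bot hW0
  obtain ⟨lam, hl, h1, h2⟩ := lt4sp_cent_eigen W hW x hx e₀ he₀ he₀0
  refine ⟨lam, hl, fun w hw => ?_, fun v hv => ?_⟩
  · by_cases hw0 : w = 0
    · rw [hw0, mulVec_zero, smul_zero]
    · obtain ⟨lw, -, hw1, -⟩ := lt4sp_cent_eigen W hW x hx w hw hw0
      obtain ⟨mu, hmu⟩ := lt4sp_cent_perp W hW x hx e₀ he₀ he₀0 lam h1 h2 w (hW hw)
      by_cases hll : lw = lam
      · rw [hw1, hll]
      · have hd : lw - lam ≠ 0 := sub_ne_zero.mpr hll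
        have h3 : (lw - lam) • w = mu • e₀ := by
          rw [sub_smul, ← hw1, hmu]
          abel
        have h4 : w = ((lw - lam)⁻¹ * mu) • e₀ := by
          rw [← smul_smul, ← h3, smul_smul, inv_mul_cancel₀ hd, one_smul]
        rw [h4, mulVec_smul, h1, smul_comm]
  · obtain ⟨mu, hmu⟩ := lt4sp_cent_perp W hW x hx e₀ he₀ he₀0 lam h1 h2 v hv
    rw [hmu, add_sub_cancel_left]
    exact W.smul_mem _ he₀

/-- a `p`-regular element of the `p`-group `lt4sp_Q W` is trivial -/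
theorem lt4sp_eq_one_of_mem_Q (p : ℕ) [Fact p.Prime] [CharP F p] [NeZero m]
    (W : Submodule F (Fin m ⊕ Fin m → F)) (q : symplecticGroup (Fin m) F) (hq : q ∈ lt4sp_Q W)
    (hreg : ¬ p ∣ orderOf q) : q = 1 := by
  have hp : p.Prime := Fact.out
  obtain ⟨k, hk⟩ := lt4sp_isPGroup_Q p W ⟨q, hq⟩
  have hk' : q ^ p ^ k = 1 := by
    have := congrArg Subtype.val hk
    simpa using this
  have hdvd : orderOf q ∣ p ^ k := orderOf_dvd_of_pow_eq_one hk'
  obtain ⟨j, -, hj⟩ := (Nat.dvd_prime_pow hp).mp hdvd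
  rcases Nat.eq_zero_or_pos j with h0 | h0
  · rw [h0, pow_zero] at hj
    exact orderOf_eq_one_iff.mp hj
  · exfalso
    apply hreg
    rw [hj]
    exact dvd_pow_self p (Nat.pos_iff_ne_zero.mp h0)

/-- **the centraliser of the radical**: `p`-regular elements of `C(lt4sp_Q W)` are central. -/
theorem lt4sp_cent_central (p : ℕ) [Fact p.Prime] [CharP F p] [NeZero m]
    (W : Submodule F (Fin m ⊕ Fin m → F)) (hW : W ≤ lt4sp_perp W) (hW0 : W ≠ ⊥)
    (x : symplecticGroup (Fin m) F)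
    (hx : x ∈ Subgroup.centralizer ((lt4sp_Q W : Subgroup _) : Set (symplecticGroup (Fin m) F)))
    (hreg : ¬ p ∣ orderOf x) : x ∈ Subgroup.center (symplecticGroup (Fin m) F) := by
  have hp : p.Prime := Fact.out
  obtain ⟨lam, hl, h1, h2⟩ := lt4sp_cent_scalar W hW hW0 x hx
  by_cases h11 : lam = 1
  · -- `x ∈ Q`
    have hxQ : x ∈ lt4sp_Q W := by
      refine ⟨fun w hw => ?_, fun v hv => ?_⟩
      · rw [h1 w hw, h11, one_smul]
      · have := h2 v hv
        rwa [h11, one_smul] at this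
    rw [lt4sp_eq_one_of_mem_Q p W x hxQ hreg]
    exact Subgroup.one_mem _
  · have hm1 : lam = -1 := by
      rcases mul_self_eq_one_iff.mp hl with h | h
      · exact absurd h h11
      · exact h
    have hp2 : p ≠ 2 := by
      intro h2p
      apply h11
      have h20 : ((2 : ℕ) : F) = 0 := by
        rw [← h2p]
        exact CharP.cast_eq_zero F p
      rw [hm1]
      have : (1 : F) + 1 = 0 := by
        have e : ((2 : ℕ) : F) = 1 + 1 := by norm_num
        rw [← e]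
        exact h20
      exact neg_eq_of_add_eq_zero_left this
    -- `x * (-1) ∈ Q`
    have hqQ : x * lt4sp_negOne F m ∈ lt4sp_Q W := by
      refine ⟨fun w hw => ?_, fun v hv => ?_⟩
      · rw [coe_mul_mulVec, lt4sp_negOne_mulVec, mulVec_neg, h1 w hw, hm1, neg_smul, one_smul,
          neg_neg]
      · rw [coe_mul_mulVec, lt4sp_negOne_mulVec, mulVec_neg]
        have := h2 v hv
        rw [hm1, neg_smul, one_smul, sub_neg_eq_add] at this
        have e : -((x : Matrix (Fin m ⊕ Fin m) (Fin m ⊕ Fin m) F) *ᵥ v) - v =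
            -((x : Matrix (Fin m ⊕ Fin m) (Fin m ⊕ Fin m) F) *ᵥ v + v) := by abel
        rw [e]
        exact W.neg_mem this
    have hcomm : Commute x (lt4sp_negOne F m) :=
      (Subgroup.mem_center_iff.mp lt4sp_negOne_mem_center) x
    have hreg' : ¬ p ∣ orderOf (x * lt4sp_negOne F m) := by
      intro hdiv
      have h3 := dvd_trans hdiv hcomm.orderOf_mul_dvd_lcm
      have h4 : p ∣ orderOf x * orderOf (lt4sp_negOne F m) :=
        dvd_trans h3 (Nat.lcm_dvd_mul _ _)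
      rcases (Nat.Prime.dvd_mul hp).mp h4 with h5 | h5
      · exact hreg h5
      · have h6 : orderOf (lt4sp_negOne F m) ∣ 2 := by
          apply orderOf_dvd_of_pow_eq_one
          rw [pow_two]
          exact lt4sp_negOne_mul_self
        have h7 : p ∣ 2 := dvd_trans h5 h6
        exact hp2 ((Nat.prime_dvd_prime_iff_eq hp Nat.prime_two).mp h7)
    have hq1 := lt4sp_eq_one_of_mem_Q p W _ hqQ hreg'
    have hxz : x = lt4sp_negOne F m := by
      have := mul_eq_one_iff_eq_inv.mp hq1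
      rw [this]
      exact inv_eq_of_mul_eq_one_left lt4sp_negOne_mul_self
    rw [hxz]
    exact lt4sp_negOne_mem_center

end Cfsg.Agent.LT4
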