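import Mathlib
import Cfsg.Agent.LT4.SpRadC

set_option autoImplicit false

/-!
# LT4 (S5012), family `Sp`, part D: the radical property of `Sp_{2m}(F)`

If `D ≠ 1` is a `p`-subgroup of `Sp_{2m}(F)` (`F` finite of characteristic `p`) with
`D = O_p(N(D))`, then the `p`-regular elements of `C(D)` are central.
-/

namespace Cfsg.Agent.LT4

open Matrix Cfsg Cfsg.Agent.Helper7.Symp

variable {F : Type*} [Field F] {m : ℕ}

/-- the natural representation of the symplectic group -/
def lt4sp_rho (F : Type*) [Field F] (m : ℕ) :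
    symplecticGroup (Fin m) F →* Matrix (Fin m ⊕ Fin m) (Fin m ⊕ Fin m) F :=
  (symplecticGroup (Fin m) F).subtype

theorem lt4sp_rho_apply (g : symplecticGroup (Fin m) F) :
    lt4sp_rho F m g = (g : Matrix (Fin m ⊕ Fin m) (Fin m ⊕ Fin m) F) := rfl

theorem lt4sp_rho_injective : Function.Injective (lt4sp_rho F m) := Subtype.val_injective

/-- `lt4sp_perp` is the orthogonal for Mathlib's bilinear form of the matrix `J` -/
theorem lt4sp_perp_eq (W : Submodule F (Fin m ⊕ Fin m → F)) :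
    lt4sp_perp W = (Matrix.toBilin' (J (Fin m) F)).orthogonal W := by
  ext v
  rw [LinearMap.BilinForm.mem_orthogonal_iff, lt4sp_mem_perp]
  constructor
  · intro h n hn
    rw [Matrix.toBilin'_apply']
    exact h n hn
  · intro h n hn
    have := h n hn
    rw [Matrix.toBilin'_apply'] at this
    exact this

/-- a proper subspace has a non-zero orthogonal -/
theorem lt4sp_perp_ne_bot (W : Submodule F (Fin m ⊕ Fin m → F)) (hW : W ≠ ⊤) :
    lt4sp_perp W ≠ ⊥ := by
  intro hbot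
  apply hW
  have hB : (Matrix.toBilin' (J (Fin m) F)).Nondegenerate :=
    LinearMap.BilinForm.nondegenerate_toBilin'_of_det_ne_zero' _ (isUnit_det_J (Fin m) F).ne_zero
  have h1 := LinearMap.BilinForm.finrank_orthogonal hB W
  rw [← lt4sp_perp_eq, hbot, finrank_bot] at h1
  have h2 : Module.finrank F W ≤ Module.finrank F (Fin m ⊕ Fin m → F) := Submodule.finrank_le W
  apply Submodule.eq_top_of_finrank_eq
  omega

/-- **the radical property of `Sp_{2m}(F)`** -/
theorem lt4_sp_rad [Fintype F] (p : ℕ) [Fact p.Prime] [CharP F p] [NeZero m]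
    (D : Subgroup (symplecticGroup (Fin m) F)) (hDp : IsPGroup p D) (hD : D ≠ ⊥)
    (hrad : (Cfsg.pCore p ↥(Subgroup.normalizer (D : Set (symplecticGroup (Fin m) F)))).map
      (Subgroup.normalizer (D : Set (symplecticGroup (Fin m) F))).subtype = D)
    (x : symplecticGroup (Fin m) F)
    (hx : x ∈ Subgroup.centralizer (D : Set (symplecticGroup (Fin m) F)))
    (hreg : ¬ p ∣ orderOf x) : x ∈ Subgroup.center (symplecticGroup (Fin m) F) := by
  set W := lt4_fix (lt4sp_rho F m) D with hWdef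
  have hWtop : W ≠ ⊤ := lt4_fix_ne_top (lt4sp_rho F m) lt4sp_rho_injective D hD
  set W₀ := W ⊓ lt4sp_perp W with hW₀def
  -- `W₀` is totally isotropic
  have hiso : W₀ ≤ lt4sp_perp W₀ := by
    intro w' hw' w hw
    exact hw'.2 w hw.1
  -- `D` fixes `W` pointwise
  have hfixW : ∀ d ∈ D, ∀ w ∈ W, (d : Matrix (Fin m ⊕ Fin m) (Fin m ⊕ Fin m) F) *ᵥ w = w :=
    fun d hd w hw => hw d hd
  -- `W₀ ≠ ⊥`
  have hW₀ : W₀ ≠ ⊥ := by
    intro hbot
    have hne := lt4sp_perp_ne_bot W hWtop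
    have hstab : ∀ d ∈ D, ∀ v ∈ lt4sp_perp W, lt4sp_rho F m d *ᵥ v ∈ lt4sp_perp W := by
      intro d hd v hv
      apply lt4sp_perp_stab W d _ v hv
      intro w hw
      rw [hfixW d⁻¹ (D.inv_mem hd) w hw]
      exact hw
    obtain ⟨v, hv1, hv0, hv2⟩ := lt4_exists_fixed_in p (lt4sp_rho F m) D hDp (lt4sp_perp W) hne hstab
    apply hv0
    have : v ∈ W₀ := ⟨hv2, hv1⟩
    rw [hbot, Submodule.mem_bot] at this
    exact this
  -- the normaliser of `D` stabilises `W₀`
  have hNst : ∀ n ∈ Subgroup.normalizer (D : Set (symplecticGroup (Fin m) F)), ∀ w ∈ W₀,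
      (n : Matrix (Fin m ⊕ Fin m) (Fin m ⊕ Fin m) F) *ᵥ w ∈ W₀ := by
    intro n hn w hw
    have hn' : n⁻¹ ∈ Subgroup.normalizer (D : Set (symplecticGroup (Fin m) F)) := inv_mem hn
    refine ⟨lt4_normalizer_fix (lt4sp_rho F m) D n hn w hw.1, ?_⟩
    apply lt4sp_perp_stab W n _ w hw.2
    intro u hu
    exact lt4_normalizer_fix (lt4sp_rho F m) D n⁻¹ hn' u hu
  have hNQ : Subgroup.normalizer (D : Set (symplecticGroup (Fin m) F)) ≤
      Subgroup.normalizer ((lt4sp_Q W₀ : Subgroup _) : Set (symplecticGroup (Fin m) F)) := by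
    intro n hn
    have hn' : n⁻¹ ∈ Subgroup.normalizer (D : Set (symplecticGroup (Fin m) F)) := inv_mem hn
    rw [Subgroup.mem_normalizer_iff]
    intro q
    constructor
    · intro hq
      exact lt4sp_conj_mem_Q W₀ n (hNst n hn) (hNst n⁻¹ hn') q hq
    · intro hq
      have := lt4sp_conj_mem_Q W₀ n⁻¹ (hNst n⁻¹ hn') (by rw [inv_inv]; exact hNst n hn) _ hq
      have e : n⁻¹ * (n * q * n⁻¹) * n⁻¹⁻¹ = q := by group
      rwa [e] at this
  exact lt4_rad_of_Q p D (lt4sp_Q W₀) hDp (lt4sp_isPGroup_Q p W₀) hrad hNQ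
    (fun y hy hyreg => lt4sp_cent_central p W₀ hiso hW₀ y hy hyreg) x hx hreg

end Cfsg.Agent.LT4
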