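import Mathlib
import Cfsg.Prelude.Def_LieTypeChar
import Cfsg.Agent.LT4.SpRadD
import Cfsg.Agent.LT4.Rad
import Cfsg.Agent.LT4.RadQuot
import Cfsg.Agent.LT4.Quot

set_option autoImplicit false

/-!
# LT4 (S5012), family `PSp`: every `p`-block of `PSp_{2m}(F)` has defect `0` or full defect

`lt4_sp_rad` (the radical property of `Sp_{2m}(F)`) is pushed to the central quotient by helper6's
`lt4_rad_quot`, then helper7's `lt4_defect_of_rad` and helper3's `lt4_of_iso` finish.
-/

namespace Cfsg.Agent.LT4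

open Matrix

/-- **PSp**: every `p`-block of `PSp_{2m}(F)` (`F` finite of characteristic `p`, `m ≥ 1`) has defect
`0` or full defect. -/
theorem lt4_psp {F : Type*} [Field F] [Fintype F] (p : ℕ) [Fact p.Prime] [CharP F p] (m : ℕ)
    (hm : 1 ≤ m) : lt4_P p (Cfsg.PSp m F) := by
  have : NeZero m := ⟨by omega⟩
  have hX : lt4_RadProp p (symplecticGroup (Fin m) F) :=
    fun D hDp hD hrad x hx hreg => lt4_sp_rad p D hDp hD hrad x hx hreg
  have hQ : lt4_RadProp p (Cfsg.PSp m F) :=
    lt4_rad_quot p hX (Subgroup.center (symplecticGroup (Fin m) F)) le_rfl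
  intro M hM B hB
  exact lt4_defect_of_rad p hQ M hM B hB

/-- **PSp**, the `IsPSpChar` disjunct of `IsLieTypeChar`. -/
theorem lt4_psp_iso {G : Type*} [Group G] (p : ℕ) [Fact p.Prime] (hG : Cfsg.IsPSpChar p G) :
    lt4_P p G := by
  obtain ⟨F, hF1, hF2, hF3, m, hm, -, ⟨e⟩⟩ := hG
  exact lt4_of_iso p e (lt4_psp p m (by omega))

end Cfsg.Agent.LT4
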