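import Mathlib
import Cfsg.Agent.LT3.Ree
import Cfsg.Agent.LT4.NoGreen

set_option autoImplicit false

/-!
# LT4 (S5012) for the Ree groups of type `G₂` (helper6)

`U¹` is a TI Sylow `3`-subgroup of the twisted group `G¹` of type `G₂` (helper7's `ree_TI`), so
helper7's `lt4_defect_of_TI'` gives "every `3`-block has defect `0` or full defect".
-/

namespace Cfsg.Agent.LT4

open Cfsg Cfsg.Lie Cfsg.Agent.Helper7.Chev Cfsg.Agent.LT3 Matrix

/-- S5012 for the twisted group of type `G₂` (no restriction on `m`). -/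
theorem lt4_ree (K : Type*) [Field K] [Fintype K] (m : ℕ)
    (hK : Fintype.card K = 3 ^ (2 * m + 1)) : lt4_P 3 ↥(twistedG2 K (3 ^ m)) := by
  have : Fact (Nat.Prime 3) := ⟨Nat.prime_three⟩
  have := charP_three_of_card (by omega) hK
  have hm := pow_card_three hK
  apply lt4_defect_of_TI' 3 (rUSylow hK)
  intro x hx
  have hxB : (x : GL chevG2.Idx K) ∉ chevG2.borelSubgroup K :=
    fun hB => hx (lt3_ree_borel_normalizer_h8 x hB)
  rw [eq_bot_iff]
  rintro y ⟨hy1, hy2⟩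
  obtain ⟨z, hz, rfl⟩ := hy2
  have hy1' : (MulAut.conj x).toMonoidHom z ∈ rU' K m := hy1
  have hz' : z ∈ rU' K m := hz
  rw [mem_rU'] at hy1' hz'
  have h1 : (x : GL chevG2.Idx K)⁻¹ *
      (((MulAut.conj x).toMonoidHom z : ↥(twistedG2 K (3 ^ m))) : GL chevG2.Idx K) *
      (x : GL chevG2.Idx K) ∈ chevG2.posUnipotent K := by
    have e : (x : GL chevG2.Idx K)⁻¹ *
        (((MulAut.conj x).toMonoidHom z : ↥(twistedG2 K (3 ^ m))) : GL chevG2.Idx K) *
        (x : GL chevG2.Idx K) = (z : GL chevG2.Idx K) := by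
      simp [mul_assoc]
    rw [e]; exact hz'
  have h2 := ree_TI hm x.2 hxB hy1' h1
  rw [Subgroup.mem_bot]
  exact Subtype.ext h2

/-- S5012 for a group satisfying `Cfsg.Lie.IsoRee`. -/
theorem lt4_ree_iso {G : Type*} [Group G] (hG : Cfsg.Lie.IsoRee G) : lt4_P 3 G := by
  obtain ⟨K, _, _, m, -, hc, ⟨e⟩⟩ := hG
  exact lt4_of_iso 3 e (lt4_ree K m hc)

end Cfsg.Agent.LT4
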