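import Mathlib
import Cfsg.Agent.LT4.NoGreen
import Cfsg.Agent.Helper7.SzSetup
import Cfsg.Agent.Helper7.SzLie
import Cfsg.Agent.Helper7.SzAutC

set_option autoImplicit false

/-!
# LT4 (S5012), the Suzuki groups: rank one, TI Sylow `2`-subgroups

In a doubly transitive group in which the subgroup `U` of a point stabiliser acts regularly on the
remaining points, `U ⊓ x U x⁻¹ = 1` for `x` outside the point stabiliser `N(U)`.  Hence the Sylow
`2`-subgroups of `Sz(q)` are TI and every `2`-block has defect zero or full defect.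
-/

namespace Cfsg.Agent.LT4

open Cfsg.Agent.Helper7.Sz Cfsg.Agent.Helper7 MulAction

/-- the trivial intersection property from the regular action -/
theorem lt4_TI_of_setup {G Ω : Type*} [Group G] [MulAction G Ω] {ω₀ : Ω} {U : Subgroup G}
    (hS : TwoTransSylow.Setup G Ω ω₀ U) (x : G)
    (hx : x ∉ Subgroup.normalizer (U : Set G)) :
    U ⊓ U.map (MulAut.conj x).toMonoidHom = ⊥ := by
  rw [hS.normalizer_eq, mem_stabilizer_iff] at hx
  rw [eq_bot_iff]
  rintro g ⟨hgU, hgx⟩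
  rw [Subgroup.mem_bot]
  obtain ⟨u, hu, rfl⟩ := Subgroup.mem_map.mp hgx
  have hfix : (MulAut.conj x).toMonoidHom u • (x • ω₀) = x • ω₀ := by
    change (x * u * x⁻¹) • (x • ω₀) = x • ω₀
    rw [← mul_smul, inv_mul_cancel_right, mul_smul, mem_stabilizer_iff.mp (hS.le hu)]
  obtain ⟨s, -, hs⟩ := hS.reg (x • ω₀) (x • ω₀) hx hx
  have h1 := hs ⟨_, hgU⟩ hfix
  have h2 := hs 1 (by
    change ((1 : U) : G) • (x • ω₀) = x • ω₀
    rw [Subgroup.coe_one, one_smul])
  have h3 : (⟨(MulAut.conj x).toMonoidHom u, hgU⟩ : U) = 1 := h1.trans h2.symm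
  exact congrArg Subtype.val h3

/-- S5012 for the matrix model of the Suzuki group -/
theorem lt4_sz_model_h9 {F : Type*} [Field F] [Fintype F] {m : ℕ} (h : FH F m) :
    lt4_P 2 (Cfsg.Sz F m) := by
  have : Fact (Nat.Prime 2) := ⟨Nat.prime_two⟩
  refine lt4_defect_of_TI' 2 (Sylow.ofCard (Usub h) (card_Usub_eq h)) ?_
  intro x hx
  exact lt4_TI_of_setup (setup h) x hx

/-- S5012 for the Suzuki groups of `Def_LieTypeChar` -/
theorem lt4_sz_h9 (F : Type*) [Field F] [Fintype F] (m : ℕ) (hm : 1 ≤ m)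
    (hc : Fintype.card F = 2 ^ (2 * m + 1)) : lt4_P 2 (Cfsg.Lie.Sz F (2 ^ (m + 1))) := by
  have h : FH F m := ⟨hm, hc⟩
  exact lt4_of_iso 2 (Cfsg.Agent.Helper7.SzLie.lieEquiv h).symm (lt4_sz_model_h9 h)

/-- **S5012 for a group satisfying `Cfsg.Lie.IsoSuzuki`** -/
theorem lt4_sz_iso_h9 {G : Type*} [Group G] (hG : Cfsg.Lie.IsoSuzuki G) : lt4_P 2 G := by
  obtain ⟨F, _, _, m, hm, hc, ⟨e⟩⟩ := hG
  exact lt4_of_iso 2 e (lt4_sz_h9 F m hm hc)

end Cfsg.Agent.LT4
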