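import Mathlib
import Cfsg.Prelude.Def_LieTypeChar
import Cfsg.Agent.LT4.Quot
import Cfsg.Agent.LT4.PSL
import Cfsg.Agent.LT4.PSp
import Cfsg.Agent.LT4.PSUf
import Cfsg.Agent.LT4.OmE
import Cfsg.Agent.LT4.Chev
import Cfsg.Agent.LT4.E6D4Iso
import Cfsg.Agent.LT4.SzTI
import Cfsg.Agent.LT4.F4Iso
import Cfsg.Agent.LT4.Ree6

set_option autoImplicit false

/-!
S5012 (swarm "LT4"): assembly of the family theorems.  Every `p`-block of a group of Lie type in
characteristic `p` has defect `0` or the full defect.  Every family ends in `lt4_P p G`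
(`LT4/Quot.lean`), which unfolds to the conclusion of S5012.
-/

namespace Cfsg.Agent.LT4

open Cfsg

theorem lt4_main {G : Type*} [Group G] (p : ℕ) [Fact p.Prime]
    (hG : Cfsg.IsLieTypeChar p G) : lt4_P p G := by
  rcases hG with h | h | h | h | h | h | h | h | h | h | h
  · exact lt4_psl_iso p h
  · exact lt4_psp_iso p h
  · exact lt4_psu_iso p h
  · exact lt4_oo_h8 p h
  · exact lt4_op_h8 p h
  · exact lt4_om_h8 p h
  · exact lt4_chev_iso p h
  · exact lt4_e6d4_iso p h
  · obtain ⟨rfl, h⟩ := h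
    exact lt4_sz_iso_h9 h
  · obtain ⟨rfl, h⟩ := h
    exact lt4_f4_iso h
  · obtain ⟨rfl, h⟩ := h
    exact lt4_ree_iso h

end Cfsg.Agent.LT4
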