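import Mathlib
import Cfsg.Agent.LT4.NoGreen

set_option autoImplicit false

/-!
# LT4 (S5012): existential form of "no Green subgroup" (helper3, assembly glue)

The route-(B) families export `∃ U, IsPGroup p U ∧ ¬ p ∣ U.index ∧ ∀ D ≤ U, GreenProp U D → D = ⊥ ∨ D = U`;
`lt4_of_noGreen_exists` turns this into `lt4_P p X` (helper7's `lt4_defect_of_noGreen`).
-/

namespace Cfsg.Agent.LT4

open Cfsg.Agent.ChevBlk

theorem lt4_of_noGreen_exists {X : Type*} [Group X] [Finite X] (p : ℕ) [Fact p.Prime]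
    (h : ∃ U : Subgroup X, IsPGroup p U ∧ ¬ p ∣ U.index ∧
      ∀ D : Subgroup X, D ≤ U → GreenProp U D → D = ⊥ ∨ D = U) : lt4_P p X := by
  obtain ⟨U, hU, hidx, hno⟩ := h
  refine lt4_defect_of_noGreen p (hU.toSylow hidx) ?_
  intro D hDP hbot htop hG
  rcases hno D hDP hG with h1 | h1
  · exact hbot h1
  · exact htop h1

end Cfsg.Agent.LT4
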